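import Mathlib

set_option autoImplicit false
universe u v

namespace Groth.Agent.H1.FinHopf

open TensorProduct

section
variable {k : Type u} [Field k] {A : Type v} [CommRing A] [Bialgebra k A] (S : Subalgebra k A)

/-- inclusion `S ⊗ S → A ⊗ A` -/
noncomputable def incl₂ : ↥S ⊗[k] ↥S →ₐ[k] A ⊗[k] A := Algebra.TensorProduct.map S.val S.val

lemma incl₂_tmul (a b : ↥S) : incl₂ S (a ⊗ₜ b) = (a : A) ⊗ₜ (b : A) := rfl

lemma incl₂_injective : Function.Injective (incl₂ S) :=
  TensorProduct.map_injective_of_flat_flat (R := k) S.val.toLinearMap S.val.toLinearMap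
    Subtype.val_injective Subtype.val_injective

variable (hS : ∀ b ∈ S, Coalgebra.comul (R := k) b ∈ (incl₂ S).range)

/-- restricted comultiplication -/
noncomputable def subComul : ↥S →ₐ[k] ↥S ⊗[k] ↥S :=
  ((AlgEquiv.ofInjective (incl₂ S) (incl₂_injective S)).symm :
      (incl₂ S).range →ₐ[k] ↥S ⊗[k] ↥S).comp
    (((Bialgebra.comulAlgHom k A).comp S.val).codRestrict (incl₂ S).range
      (fun b => hS b.1 b.2))

lemma incl₂_subComul (b : ↥S) :
    incl₂ S (subComul S hS b) = Coalgebra.comul (R := k) (b : A) := by
  set y : (incl₂ S).range :=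
    ((Bialgebra.comulAlgHom k A).comp S.val).codRestrict (incl₂ S).range
      (fun b => hS b.1 b.2) b with hy
  have h1 : subComul S hS b = (AlgEquiv.ofInjective (incl₂ S) (incl₂_injective S)).symm y := rfl
  have h2 := (AlgEquiv.ofInjective (incl₂ S) (incl₂_injective S)).apply_symm_apply y
  have h3 := congrArg Subtype.val h2
  rw [AlgEquiv.ofInjective_apply] at h3
  rw [h1, h3]
  rfl

/-- restricted counit -/
noncomputable def subCounit : ↥S →ₐ[k] k := (Bialgebra.counitAlgHom k A).comp S.val

lemma aux_assoc (u : ↥S ⊗[k] ↥S) (s : ↥S) :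
    Algebra.TensorProduct.map S.val (incl₂ S)
        (Algebra.TensorProduct.assoc k k k ↥S ↥S ↥S (u ⊗ₜ s)) =
      Algebra.TensorProduct.assoc k k k A A A (incl₂ S u ⊗ₜ (s : A)) := by
  induction u using TensorProduct.induction_on with
  | zero => simp
  | tmul a b => simp [incl₂_tmul]
  | add a b ha hb => simp only [TensorProduct.add_tmul, map_add, ha, hb]

lemma N1 (t : ↥S ⊗[k] ↥S) :
    Algebra.TensorProduct.map S.val (incl₂ S)
        (Algebra.TensorProduct.assoc k k k ↥S ↥S ↥S
          (Algebra.TensorProduct.map (subComul S hS) (AlgHom.id k ↥S) t)) =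
      Algebra.TensorProduct.assoc k k k A A A
        (Algebra.TensorProduct.map (Bialgebra.comulAlgHom k A) (AlgHom.id k A) (incl₂ S t)) := by
  induction t using TensorProduct.induction_on with
  | zero => simp
  | tmul a b =>
    rw [Algebra.TensorProduct.map_tmul, AlgHom.id_apply, aux_assoc, incl₂_subComul, incl₂_tmul,
      Algebra.TensorProduct.map_tmul, AlgHom.id_apply]
    rfl
  | add a b ha hb => simp only [map_add, ha, hb]

lemma N2 (t : ↥S ⊗[k] ↥S) :
    Algebra.TensorProduct.map S.val (incl₂ S)
        (Algebra.TensorProduct.map (AlgHom.id k ↥S) (subComul S hS) t) =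
      Algebra.TensorProduct.map (AlgHom.id k A) (Bialgebra.comulAlgHom k A) (incl₂ S t) := by
  induction t using TensorProduct.induction_on with
  | zero => simp
  | tmul a b =>
    rw [Algebra.TensorProduct.map_tmul, AlgHom.id_apply, Algebra.TensorProduct.map_tmul,
      incl₂_subComul, incl₂_tmul, Algebra.TensorProduct.map_tmul, AlgHom.id_apply]
    rfl
  | add a b ha hb => simp only [map_add, ha, hb]

lemma J_injective :
    Function.Injective (Algebra.TensorProduct.map S.val (incl₂ S)) :=
  TensorProduct.map_injective_of_flat_flat (R := k) S.val.toLinearMap (incl₂ S).toLinearMap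
    Subtype.val_injective (incl₂_injective S)

lemma N3 (t : ↥S ⊗[k] ↥S) :
    Algebra.TensorProduct.map (AlgHom.id k k) S.val
        (Algebra.TensorProduct.map (subCounit S) (AlgHom.id k ↥S) t) =
      Algebra.TensorProduct.map (Bialgebra.counitAlgHom k A) (AlgHom.id k A) (incl₂ S t) := by
  induction t using TensorProduct.induction_on with
  | zero => simp
  | tmul a b => simp [incl₂_tmul, subCounit]
  | add a b ha hb => simp only [map_add, ha, hb]

lemma N4 (t : ↥S ⊗[k] ↥S) :
    Algebra.TensorProduct.map S.val (AlgHom.id k k)
        (Algebra.TensorProduct.map (AlgHom.id k ↥S) (subCounit S) t) =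
      Algebra.TensorProduct.map (AlgHom.id k A) (Bialgebra.counitAlgHom k A) (incl₂ S t) := by
  induction t using TensorProduct.induction_on with
  | zero => simp
  | tmul a b => simp [incl₂_tmul, subCounit]
  | add a b ha hb => simp only [map_add, ha, hb]

/-- A subalgebra stable under comultiplication is a bialgebra. -/
@[reducible] noncomputable def subBialgebra : Bialgebra k ↥S :=
  Bialgebra.ofAlgHom (subComul S hS) (subCounit S)
    (by
      apply AlgHom.ext
      intro b
      apply J_injective S
      simp only [AlgHom.comp_apply]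
      refine (N1 S hS (subComul S hS b)).trans ?_
      refine Eq.trans ?_ (N2 S hS (subComul S hS b)).symm
      rw [incl₂_subComul]
      exact Coalgebra.coassoc_apply (R := k) (b : A))
    (by
      apply AlgHom.ext
      intro b
      have hinj : Function.Injective (Algebra.TensorProduct.map (AlgHom.id k k) S.val) :=
        TensorProduct.map_injective_of_flat_flat (R := k) (AlgHom.id k k).toLinearMap
          S.val.toLinearMap (fun _ _ h => h) Subtype.val_injective
      apply hinj
      simp only [AlgHom.comp_apply]
      rw [N3, incl₂_subComul]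
      exact Coalgebra.rTensor_counit_comul (R := k) (b : A))
    (by
      apply AlgHom.ext
      intro b
      have hinj : Function.Injective (Algebra.TensorProduct.map S.val (AlgHom.id k k)) :=
        TensorProduct.map_injective_of_flat_flat (R := k) S.val.toLinearMap
          (AlgHom.id k k).toLinearMap Subtype.val_injective (fun _ _ h => h)
      apply hinj
      simp only [AlgHom.comp_apply]
      rw [N4, incl₂_subComul]
      exact Coalgebra.lTensor_counit_comul (R := k) (b : A))

end

end Groth.Agent.H1.FinHopf
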