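import Groth.Agent.H1.FinHopf.BaseChangeRing
import Groth.Agent.H83.HopfKaehler

set_option autoImplicit false
set_option linter.unusedSectionVars false
set_option linter.style.haveILetI false
universe u v

namespace Groth.Agent.H1.FinHopf

open WithConv TensorProduct

section E1
variable {K : Type u} [Field K] [IsAlgClosed K] {B : Type v} [CommRing B] [HopfAlgebra K B]
  [Module.Finite K B]

theorem isIdempotentElem_augIdeal_of_finrank_ne_zero (h : (Module.finrank K B : K) ≠ 0) :
    IsIdempotentElem (RingHom.ker (Bialgebra.counitAlgHom K B)) := by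
  classical
  haveI : Nontrivial B := (Bialgebra.counitAlgHom K B : B →+* K).domain_nontrivial
  set n := Module.finrank K B with hn
  have hnpos : 0 < n := Module.finrank_pos
  set I := RingHom.ker (Bialgebra.counitAlgHom K B) with hI
  have hstab : I ^ n = I ^ (n + n) := pow_finrank_eq_pow_add (k := K) I n
  haveI hco : ((I ^ n).restrictScalars K).IsCoideal := isCoideal_pow n hnpos hstab
  have hnilQ : ∀ b : B ⧸ I ^ n, Coalgebra.counit (R := K) b = 0 → IsNilpotent b := by
    intro b hb
    obtain ⟨a, rfl⟩ := Ideal.Quotient.mk_surjective b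
    have ha : a ∈ I := by
      rw [hI, RingHom.mem_ker]
      exact hb
    refine ⟨n, ?_⟩
    rw [← map_pow]
    exact Ideal.Quotient.eq_zero_iff_mem.mpr (Ideal.pow_mem_pow ha n)
  obtain ⟨r, hr⟩ := exists_finrank_eq_ringExpChar_pow (B ⧸ I ^ n) hnilQ
  have hdim : n = Nat.card (WithConv (B →ₐ[K] K)) * Module.finrank K (B ⧸ I ^ n) :=
    finrank_eq_card_mul
  have hN1 : Module.finrank K (B ⧸ I ^ n) = 1 := by
    rw [hr]
    have hne : ((ringExpChar K ^ r : ℕ) : K) ≠ 0 := by
      intro h0
      apply h
      rw [hdim, hr, Nat.cast_mul, h0, mul_zero]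
    obtain ⟨p, hp⟩ := CharP.exists K
    rcases CharP.char_is_prime_or_zero K p with hprime | h0
    · haveI : ExpChar K p := ExpChar.prime hprime
      rw [ringExpChar.eq K p] at hne ⊢
      cases r with
      | zero => rfl
      | succ r =>
        exfalso
        apply hne
        rw [pow_succ, Nat.cast_mul, CharP.cast_eq_zero K p, mul_zero]
    · subst h0
      haveI : CharZero K := CharP.charP_to_charZero K
      rw [ringExpChar.eq_one, one_pow]
  have hle : I ≤ I ^ n := by
    intro x hx
    have h1ne : (1 : B ⧸ I ^ n) ≠ 0 := by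
      intro h1
      have h2 := congrArg (Coalgebra.counit (R := K)) h1
      rw [Bialgebra.counit_one, map_zero] at h2
      exact one_ne_zero h2
    obtain ⟨c, hc⟩ := (finrank_eq_one_iff_of_nonzero' (1 : B ⧸ I ^ n) h1ne).mp hN1
      (Ideal.Quotient.mk (I ^ n) x)
    have h3 := congrArg (Coalgebra.counit (R := K)) hc
    rw [map_smul, Bialgebra.counit_one, Bialgebra.Quotient.counit_mk] at h3
    have hx' : Coalgebra.counit (R := K) x = 0 :=
      (RingHom.mem_ker (f := Bialgebra.counitAlgHom K B)).mp hx
    rw [hx', smul_eq_mul, mul_one] at h3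
    rw [h3, zero_smul] at hc
    exact Ideal.Quotient.eq_zero_iff_mem.mp hc.symm
  have heq : I = I ^ (n + n) := by
    rw [← hstab]
    exact le_antisymm hle (Ideal.pow_le_self hnpos.ne')
  show I * I = I
  apply le_antisymm Ideal.mul_le_right
  calc I = I ^ (n + n) := heq
    _ ≤ I ^ 2 := Ideal.pow_le_pow_right (by omega)
    _ = I * I := pow_two I

end E1

section E2
variable (K : Type u) [Field K] (B : Type u) [CommRing B] [HopfAlgebra K B] [Module.Finite K B]

theorem etale_of_isIdempotentElem
    (h : IsIdempotentElem (RingHom.ker (Bialgebra.counitAlgHom K B))) : Algebra.Etale K B := by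
  haveI : Subsingleton (Groth.Agent.H83.HopfKaehler.augI K B).Cotangent :=
    (Ideal.cotangent_subsingleton_iff _).mpr h
  haveI : Subsingleton (B ⊗[K] (Groth.Agent.H83.HopfKaehler.augI K B).Cotangent) := by
    refine ⟨fun a b => ?_⟩
    have h0 : ∀ t : B ⊗[K] (Groth.Agent.H83.HopfKaehler.augI K B).Cotangent, t = 0 := by
      intro t
      induction t using TensorProduct.induction_on with
      | zero => rfl
      | tmul x y => rw [Subsingleton.elim y 0, TensorProduct.tmul_zero]
      | add s t hs ht => rw [hs, ht, add_zero]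
    rw [h0 a, h0 b]
  have hsub : Subsingleton (KaehlerDifferential.ideal K B).Cotangent :=
    ((Groth.Agent.H83.HopfKaehler.equivJ K B).symm.trans
      (Groth.Agent.H83.HopfKaehler.equivB K B)).toEquiv.subsingleton
  haveI : Algebra.FormallyUnramified K B := ⟨hsub⟩
  haveI : Algebra.FormallyEtale K B := Algebra.FormallyEtale.of_formallyUnramified_of_field K B
  exact ⟨inferInstance, Algebra.FinitePresentation.of_finiteType.mp inferInstance⟩

end E2

theorem etale_of_finrank_ne_zero (k : Type u) [Field k] (A : Type u) [CommRing A]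
    [HopfAlgebra k A] [Module.Finite k A] (h : (Module.finrank k A : k) ≠ 0) :
    Algebra.Etale k A := by
  haveI : Algebra.Etale (AlgebraicClosure k) (AlgebraicClosure k ⊗[k] A) := by
    apply etale_of_isIdempotentElem
    apply isIdempotentElem_augIdeal_of_finrank_ne_zero
    rw [Module.finrank_baseChange]
    intro h0
    apply h
    have h1 : algebraMap k (AlgebraicClosure k) (Module.finrank k A : k) = 0 := by
      rw [map_natCast]
      exact h0
    exact (map_eq_zero_iff _ (algebraMap k (AlgebraicClosure k)).injective).mp h1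
  exact Algebra.Etale.of_etale_tensorProduct_of_faithfullyFlat (AlgebraicClosure k)

end Groth.Agent.H1.FinHopf
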