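import Groth.Agent.H1.FinHopf.Coideal

set_option autoImplicit false
set_option linter.unusedSectionVars false
set_option linter.style.haveILetI false
universe u v

namespace Groth.Agent.H1.FinHopf

open WithConv TensorProduct

section Translation
variable (k : Type u) [Field k] (A : Type v) [CommRing A] [HopfAlgebra k A]

/-- translation by a rational point (universe polymorphic version) -/
theorem exists_translation' (g : A →ₐ[k] k) :
    ∃ τ : A ≃ₐ[k] A, (Bialgebra.counitAlgHom k A).comp (τ : A →ₐ[k] A) = g := by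
  classical
  let u : WithConv (A →ₐ[k] A) := toConv ((Algebra.ofId k A).comp g)
  let I : WithConv (A →ₐ[k] A) := toConv (AlgHom.id k A)
  have hfix : ∀ w : WithConv (A →ₐ[k] A), (∀ f : A →ₐ[k] A, f.comp w.ofConv = w.ofConv) →
      ∀ v : WithConv (A →ₐ[k] A),
        (v * I).ofConv.comp (w * I).ofConv = (w * v * I).ofConv := by
    intro w hw v
    rw [AlgHom.comp_convMul_distrib, hw]
    have h3 : (v * I).ofConv.comp I.ofConv = (v * I).ofConv := AlgHom.comp_id _
    rw [h3, toConv_ofConv, toConv_ofConv, mul_assoc]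
  have hu : ∀ f : A →ₐ[k] A, f.comp u.ofConv = u.ofConv := by
    intro f
    ext a
    simp [u]
  have hu' : ∀ f : A →ₐ[k] A, f.comp (u⁻¹).ofConv = (u⁻¹).ofConv := by
    intro f
    have h3 : (u⁻¹).ofConv = u.ofConv.comp (HopfAlgebra.antipodeAlgHom k A) := rfl
    rw [h3, ← AlgHom.comp_assoc, hu]
  have h1 : (u * I).ofConv.comp (u⁻¹ * I).ofConv = AlgHom.id k A := by
    have h3 := hfix _ hu' u
    rw [inv_mul_cancel, one_mul] at h3
    exact h3
  have h2 : (u⁻¹ * I).ofConv.comp (u * I).ofConv = AlgHom.id k A := by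
    have h3 := hfix _ hu u⁻¹
    rw [mul_inv_cancel, one_mul] at h3
    exact h3
  refine ⟨AlgEquiv.ofAlgHom (u * I).ofConv (u⁻¹ * I).ofConv h1 h2, ?_⟩
  change (Bialgebra.counitAlgHom k A).comp (u * I).ofConv = g
  rw [AlgHom.comp_convMul_distrib]
  have e1 : (Bialgebra.counitAlgHom k A).comp u.ofConv = g := by
    ext a
    simp [u]
  have e2 : toConv ((Bialgebra.counitAlgHom k A).comp I.ofConv) =
      (1 : WithConv (A →ₐ[k] k)) := by
    apply WithConv.ext
    ext a
    simp [I, AlgHom.convOne_def]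
  rw [e1, e2, mul_one]

end Translation

section Points
variable (K : Type u) [Field K] [IsAlgClosed K] (A : Type v) [CommRing A] [Algebra K A]
  [Module.Finite K A]

theorem exists_point' (M : Ideal A) (hM : M.IsMaximal) :
    ∃ g : A →ₐ[K] K, RingHom.ker g = M := by
  have := hM
  let : Field (A ⧸ M) := Ideal.Quotient.field M
  have : Module.Finite K (A ⧸ M) :=
    Module.Finite.of_surjective (Ideal.Quotient.mkₐ K M).toLinearMap
      (Ideal.Quotient.mkₐ_surjective K M)
  have : Algebra.IsIntegral K (A ⧸ M) := Algebra.IsIntegral.of_finite K (A ⧸ M)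
  have hbij : Function.Bijective (algebraMap K (A ⧸ M)) :=
    IsAlgClosed.algebraMap_bijective_of_isIntegral
  let e : K ≃ₐ[K] (A ⧸ M) := AlgEquiv.ofBijective (Algebra.ofId K (A ⧸ M)) hbij
  refine ⟨(e.symm : (A ⧸ M) →ₐ[K] K).comp (Ideal.Quotient.mkₐ K M), ?_⟩
  ext x
  rw [RingHom.mem_ker]
  change e.symm (Ideal.Quotient.mk M x) = 0 ↔ x ∈ M
  rw [map_eq_zero_iff e.symm e.symm.injective, Ideal.Quotient.eq_zero_iff_mem]

end Points

section Main
variable {K : Type u} [Field K] [IsAlgClosed K] {A : Type v} [CommRing A] [HopfAlgebra K A]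
  [Module.Finite K A]

theorem map_psi_card_le_jacobson :
    Ideal.map (psi K A (Nat.card (WithConv (A →ₐ[K] K))))
      (RingHom.ker (Bialgebra.counitAlgHom K A)) ≤ Ideal.jacobson ⊥ := by
  haveI : Finite (WithConv (A →ₐ[K] K)) := Finite.of_equiv _ (WithConv.equiv _).symm
  rw [Ideal.map_le_iff_le_comap]
  intro x hx
  rw [Ideal.mem_comap, Ideal.jacobson, Ideal.mem_sInf]
  rintro M ⟨-, hM⟩
  obtain ⟨g, hg⟩ := exists_point' K A M hM
  rw [← hg, RingHom.mem_ker]
  have h1 := comp_convPow g (toConv (AlgHom.id K A)) (Nat.card (WithConv (A →ₐ[K] K)))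
  rw [ofConv_toConv, AlgHom.comp_id, pow_card_eq_one'] at h1
  have h2 := congrArg (fun f : WithConv (A →ₐ[K] K) => f.ofConv x) h1
  simp only [ofConv_toConv, AlgHom.comp_apply] at h2
  have hx' : Coalgebra.counit (R := K) x = 0 :=
    (RingHom.mem_ker (f := Bialgebra.counitAlgHom K A)).mp hx
  have h3 : g (psi K A (Nat.card (WithConv (A →ₐ[K] K))) x) =
      (1 : WithConv (A →ₐ[K] K)).ofConv x := h2
  rw [h3]
  show algebraMap K K (Coalgebra.counit (R := K) x) = 0
  rw [hx', map_zero]

theorem finrank_eq_card_mul :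
    Module.finrank K A = Nat.card (WithConv (A →ₐ[K] K)) *
      Module.finrank K (A ⧸ (RingHom.ker (Bialgebra.counitAlgHom K A)) ^ (Module.finrank K A)) := by
  classical
  haveI : IsArtinianRing A := IsArtinianRing.of_finite K A
  haveI : IsNoetherianRing A := IsNoetherianRing.of_finite K A
  set n := Module.finrank K A with hn
  set I := RingHom.ker (Bialgebra.counitAlgHom K A) with hI
  have hN : nilradical A ^ n = ⊥ := pow_finrank_eq_bot (k := K) _ (by
    obtain ⟨e, he⟩ := IsNoetherianRing.isNilpotent_nilradical A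
    exact ⟨e, he⟩)
  haveI : Fintype (MaximalSpectrum A) := Fintype.ofFinite _
  let e := IsArtinianRing.quotNilradicalPowEquivPi A n
  have h1 : Module.finrank K (A ⧸ nilradical A ^ n) =
      Module.finrank K (∀ M : MaximalSpectrum A, A ⧸ M.asIdeal ^ n) :=
    (e.toLinearEquiv.restrictScalars K).finrank_eq
  have h2 : Module.finrank K (A ⧸ nilradical A ^ n) = n := by
    rw [hN]
    exact (AlgEquiv.quotientBot K A).toLinearEquiv.finrank_eq
  have h3 : ∀ M : MaximalSpectrum A, Module.finrank K (A ⧸ M.asIdeal ^ n) =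
      Module.finrank K (A ⧸ I ^ n) := by
    intro M
    obtain ⟨g, hg⟩ := exists_point' K A M.asIdeal M.isMaximal
    obtain ⟨τ, hτ⟩ := exists_translation' K A g
    have hM : M.asIdeal = Ideal.comap ((τ : A ≃ₐ[K] A) : A →+* A) I := by
      rw [← hg, ← hτ]
      ext y
      simp [RingHom.mem_ker, Ideal.mem_comap, hI]
    have hmap : I ^ n = (M.asIdeal ^ n).map ((τ : A ≃ₐ[K] A) : A →+* A) := by
      rw [Ideal.map_pow, hM,
        Ideal.map_comap_of_surjective ((τ : A ≃ₐ[K] A) : A →+* A) τ.surjective I]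
    exact (Ideal.quotientEquivAlg (M.asIdeal ^ n) (I ^ n) τ hmap).toLinearEquiv.finrank_eq
  have hkm : ∀ g : WithConv (A →ₐ[K] K), (RingHom.ker g.ofConv).IsMaximal := fun g =>
    RingHom.ker_isMaximal_of_surjective g.ofConv (fun c => ⟨algebraMap K A c, by simp⟩)
  have h4 : Fintype.card (MaximalSpectrum A) = Nat.card (WithConv (A →ₐ[K] K)) := by
    rw [← Nat.card_eq_fintype_card]
    symm
    apply Nat.card_eq_of_bijective
      (fun g : WithConv (A →ₐ[K] K) => (⟨RingHom.ker g.ofConv, hkm g⟩ : MaximalSpectrum A))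
    constructor
    · intro g g' h
      have hk : RingHom.ker g.ofConv = RingHom.ker g'.ofConv :=
        congrArg MaximalSpectrum.asIdeal h
      apply WithConv.ofConv_injective
      apply AlgHom.ext
      intro a
      have h1 : a - algebraMap K A (g.ofConv a) ∈ RingHom.ker g.ofConv := by
        rw [RingHom.mem_ker, map_sub, AlgHom.commutes]
        simp
      rw [hk, RingHom.mem_ker, map_sub, AlgHom.commutes, sub_eq_zero] at h1
      simpa using h1.symm
    · intro M
      obtain ⟨g, hg⟩ := exists_point' K A M.asIdeal M.isMaximal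
      exact ⟨toConv g, MaximalSpectrum.ext hg⟩
  have h5 : Module.finrank K (∀ M : MaximalSpectrum A, A ⧸ M.asIdeal ^ n) =
      Fintype.card (MaximalSpectrum A) * Module.finrank K (A ⧸ I ^ n) := by
    rw [Module.finrank_pi_fintype K]
    simp only [h3]
    rw [Finset.sum_const, Finset.card_univ, smul_eq_mul]
  calc n = Module.finrank K (A ⧸ nilradical A ^ n) := h2.symm
    _ = _ := h1
    _ = _ := h5
    _ = _ := by rw [h4]

/-- A finite group scheme over an algebraically closed field is killed by its order. -/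
theorem convPow_finrank_algClosed :
    (toConv (AlgHom.id K A)) ^ (Module.finrank K A) = 1 := by
  classical
  haveI : Nontrivial A := (Bialgebra.counitAlgHom K A : A →+* K).domain_nontrivial
  haveI : IsArtinianRing A := IsArtinianRing.of_finite K A
  set n := Module.finrank K A with hn
  have hnpos : 0 < n := Module.finrank_pos
  set I := RingHom.ker (Bialgebra.counitAlgHom K A) with hI
  have hstab : I ^ n = I ^ (n + n) := pow_finrank_eq_pow_add (k := K) I n
  haveI hco : ((I ^ n).restrictScalars K).IsCoideal := isCoideal_pow n hnpos hstab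
  have hnilQ : ∀ b : A ⧸ I ^ n, Coalgebra.counit (R := K) b = 0 → IsNilpotent b := by
    intro b hb
    obtain ⟨a, rfl⟩ := Ideal.Quotient.mk_surjective b
    have ha : a ∈ I := by
      rw [hI, RingHom.mem_ker]
      exact hb
    refine ⟨n, ?_⟩
    rw [← map_pow]
    exact Ideal.Quotient.eq_zero_iff_mem.mpr (Ideal.pow_mem_pow ha n)
  set N := Module.finrank K (A ⧸ I ^ n) with hN
  have hQ1 := convPow_finrank_eq_one_of_nil (k := K) (A := A ⧸ I ^ n) hnilQ
  have htr : ∀ x : A, psi K A N x - algebraMap K A (Coalgebra.counit (R := K) x) ∈ I ^ n := by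
    intro x
    let q : A →ₐc[K] A ⧸ I ^ n := Bialgebra.Quotient.mkBialgHom (I ^ n)
    have h1 := comp_convPow (q : A →ₐ[K] A ⧸ I ^ n) (toConv (AlgHom.id K A)) N
    have h2 := convPow_comp_bialgHom (toConv (AlgHom.id K (A ⧸ I ^ n))) q N
    rw [ofConv_toConv, AlgHom.comp_id] at h1
    rw [ofConv_toConv, AlgHom.id_comp] at h2
    have h3 := h1.trans h2.symm
    rw [hQ1] at h3
    have h4 := congrArg (fun f : WithConv (A →ₐ[K] A ⧸ I ^ n) => f.ofConv x) h3
    simp only [ofConv_toConv, AlgHom.comp_apply] at h4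
    rw [← Ideal.Quotient.eq]
    have h5 : Ideal.Quotient.mk (I ^ n) (psi K A N x) =
        (1 : WithConv ((A ⧸ I ^ n) →ₐ[K] (A ⧸ I ^ n))).ofConv (Ideal.Quotient.mk (I ^ n) x) := h4
    rw [h5]
    show algebraMap K (A ⧸ I ^ n) (Coalgebra.counit (R := K) (Ideal.Quotient.mk (I ^ n) x)) = _
    rw [Bialgebra.Quotient.counit_mk]
    rfl
  set m := Nat.card (WithConv (A →ₐ[K] K)) with hm
  have hjac : Ideal.map (psi K A m) I ≤ Ideal.jacobson ⊥ := map_psi_card_le_jacobson
  have hjn : (Ideal.jacobson (⊥ : Ideal A)) ^ n = ⊥ := pow_finrank_eq_bot (k := K) _ (by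
    obtain ⟨e, he⟩ := IsArtinianRing.isNilpotent_jacobson_bot (R := A)
    exact ⟨e, he⟩)
  have hkill : ∀ j ∈ I ^ n, psi K A m j = 0 := by
    intro j hj
    have h1 : psi K A m j ∈ Ideal.map (psi K A m) (I ^ n) := Ideal.mem_map_of_mem _ hj
    rw [Ideal.map_pow] at h1
    have h2 := Ideal.pow_right_mono hjac n h1
    rwa [hjn, Ideal.mem_bot] at h2
  have hdim : n = m * N := finrank_eq_card_mul
  have e : psi K A n = (psi K A m).comp (psi K A N) := by
    rw [← psi_mul, ← hdim]
  apply WithConv.ofConv_injective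
  apply AlgHom.ext
  intro x
  show psi K A n x = algebraMap K A (Coalgebra.counit (R := K) x)
  rw [e, AlgHom.comp_apply]
  have h5 := hkill _ (htr x)
  rw [map_sub, AlgHom.commutes, sub_eq_zero] at h5
  exact h5

end Main

end Groth.Agent.H1.FinHopf
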