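import Groth.Agent.H1.FinHopf.AlgClosed

set_option autoImplicit false
set_option linter.unusedSectionVars false
set_option linter.style.haveILetI false
universe u v w

namespace Groth.Agent.H1.FinHopf

open WithConv TensorProduct

section BC
variable {k : Type u} [Field k] (K : Type w) [Field K] [Algebra k K] {A : Type v} [CommRing A]
  [Bialgebra k A]

/-- restriction of a `K`-point of the base change to a `k`-point -/
noncomputable def rho (f : (K ⊗[k] A) →ₐ[K] (K ⊗[k] A)) : A →ₐ[k] (K ⊗[k] A) :=
  (f.restrictScalars k).comp (Algebra.TensorProduct.includeRight : A →ₐ[k] K ⊗[k] A)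

lemma rho_apply (f : (K ⊗[k] A) →ₐ[K] (K ⊗[k] A)) (a : A) : rho K f a = f (1 ⊗ₜ a) := rfl

lemma comul_inc (a : A) :
    Coalgebra.comul (R := K) ((1 : K) ⊗ₜ[k] a) =
      (Algebra.TensorProduct.mapRingHom (algebraMap k K)
        (RingHomClass.toRingHom (Algebra.TensorProduct.includeRight : A →ₐ[k] K ⊗[k] A))
        (RingHomClass.toRingHom (Algebra.TensorProduct.includeRight : A →ₐ[k] K ⊗[k] A))
        (by simp [← IsScalarTower.algebraMap_eq])
        (by simp [← IsScalarTower.algebraMap_eq])) (Coalgebra.comul (R := k) a) :=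
  RingHom.congr_fun (Bialgebra.comul_includeRight (R := k) (A := K) (B := A)) a

lemma lift_mapRingHom (f g : (K ⊗[k] A) →ₐ[K] (K ⊗[k] A)) (t : A ⊗[k] A) :
    Algebra.TensorProduct.lift f g (fun _ _ => .all _ _)
      ((Algebra.TensorProduct.mapRingHom (algebraMap k K)
        (RingHomClass.toRingHom (Algebra.TensorProduct.includeRight : A →ₐ[k] K ⊗[k] A))
        (RingHomClass.toRingHom (Algebra.TensorProduct.includeRight : A →ₐ[k] K ⊗[k] A))
        (by simp [← IsScalarTower.algebraMap_eq])
        (by simp [← IsScalarTower.algebraMap_eq])) t) =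
    Algebra.TensorProduct.lift (rho K f) (rho K g) (fun _ _ => .all _ _) t := by
  induction t using TensorProduct.induction_on with
  | zero => simp
  | tmul a b =>
    rw [Algebra.TensorProduct.mapRingHom_tmul, Algebra.TensorProduct.lift_tmul,
      Algebra.TensorProduct.lift_tmul]
    rfl
  | add s t hs ht => rw [map_add, map_add, map_add, hs, ht]

lemma rho_mul (f g : WithConv ((K ⊗[k] A) →ₐ[K] (K ⊗[k] A))) :
    toConv (rho K (f * g).ofConv) = toConv (rho K f.ofConv) * toConv (rho K g.ofConv) := by
  apply WithConv.ofConv_injective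
  apply AlgHom.ext
  intro a
  have h1 : (toConv (rho K (f * g).ofConv)).ofConv a = (f * g) ((1 : K) ⊗ₜ[k] a) := rfl
  rw [h1, AlgHom.convMul_apply, comul_inc, lift_mapRingHom]
  have h2 := AlgHom.convMul_apply (toConv (rho K f.ofConv)) (toConv (rho K g.ofConv)) a
  exact h2.symm

lemma rho_one : toConv (rho K (1 : WithConv ((K ⊗[k] A) →ₐ[K] (K ⊗[k] A))).ofConv) = 1 := by
  apply WithConv.ofConv_injective
  apply AlgHom.ext
  intro a
  show algebraMap K (K ⊗[k] A) (Coalgebra.counit (R := K) ((1 : K) ⊗ₜ[k] a)) =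
    algebraMap k (K ⊗[k] A) (Coalgebra.counit (R := k) a)
  rw [TensorProduct.counit_tmul, Bialgebra.counit_one, Algebra.algebraMap_eq_smul_one,
    Algebra.algebraMap_eq_smul_one (R := k), smul_assoc, one_smul]

lemma rho_pow (f : WithConv ((K ⊗[k] A) →ₐ[K] (K ⊗[k] A))) (n : ℕ) :
    toConv (rho K (f ^ n).ofConv) = (toConv (rho K f.ofConv)) ^ n := by
  induction n with
  | zero => rw [pow_zero, pow_zero, rho_one]
  | succ n ih => rw [pow_succ, pow_succ, rho_mul, ih]

theorem convPow_of_baseChange (n : ℕ)
    (h : (toConv (AlgHom.id K (K ⊗[k] A))) ^ n = 1) : (toConv (AlgHom.id k A)) ^ n = 1 := by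
  have h1 := rho_pow K (toConv (AlgHom.id K (K ⊗[k] A))) n
  rw [h, rho_one] at h1
  have h2 := comp_convPow (Algebra.TensorProduct.includeRight : A →ₐ[k] K ⊗[k] A)
    (toConv (AlgHom.id k A)) n
  rw [ofConv_toConv, AlgHom.comp_id] at h2
  have e : rho K (toConv (AlgHom.id K (K ⊗[k] A))).ofConv =
      (Algebra.TensorProduct.includeRight : A →ₐ[k] K ⊗[k] A) := by
    apply AlgHom.ext
    intro a
    rfl
  rw [e] at h1
  rw [← h1] at h2
  have hinj : Function.Injective (Algebra.TensorProduct.includeRight : A →ₐ[k] K ⊗[k] A) :=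
    Algebra.TensorProduct.includeRight_injective (algebraMap k K).injective
  apply WithConv.ofConv_injective
  apply AlgHom.ext
  intro x
  apply hinj
  have h3 := congrArg (fun f : WithConv (A →ₐ[k] K ⊗[k] A) => f.ofConv x) h2
  simp only [ofConv_toConv, AlgHom.comp_apply] at h3
  rw [h3]
  show algebraMap k (K ⊗[k] A) (Coalgebra.counit (R := k) x) =
    (Algebra.TensorProduct.includeRight : A →ₐ[k] K ⊗[k] A)
      (algebraMap k A (Coalgebra.counit (R := k) x))
  rw [AlgHom.commutes]

end BC

/-- A finite group scheme over a field is killed by its order. -/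
theorem convPow_finrank (k : Type u) [Field k] (A : Type v) [CommRing A] [HopfAlgebra k A]
    [Module.Finite k A] : (toConv (AlgHom.id k A)) ^ (Module.finrank k A) = 1 := by
  apply convPow_of_baseChange (AlgebraicClosure k)
  have h := convPow_finrank_algClosed (K := AlgebraicClosure k) (A := AlgebraicClosure k ⊗[k] A)
  rw [Module.finrank_baseChange] at h
  exact h

end Groth.Agent.H1.FinHopf
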