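import Groth.Agent.H1.FinHopf.BaseChange

set_option autoImplicit false
set_option linter.unusedSectionVars false
set_option linter.style.haveILetI false
universe u v w

namespace Groth.Agent.H1.FinHopf

open WithConv TensorProduct

section BCR
variable {R : Type u} [CommRing R] (K : Type w) [CommRing K] [Algebra R K] {A : Type v} [CommRing A]
  [Bialgebra R A]

/-- restriction of a `K`-point of the base change to an `R`-point (ring version) -/
noncomputable def rhoR (f : (K ⊗[R] A) →ₐ[K] (K ⊗[R] A)) : A →ₐ[R] (K ⊗[R] A) :=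
  (f.restrictScalars R).comp (Algebra.TensorProduct.includeRight : A →ₐ[R] K ⊗[R] A)

lemma comul_incR (a : A) :
    Coalgebra.comul (R := K) ((1 : K) ⊗ₜ[R] a) =
      (Algebra.TensorProduct.mapRingHom (algebraMap R K)
        (RingHomClass.toRingHom (Algebra.TensorProduct.includeRight : A →ₐ[R] K ⊗[R] A))
        (RingHomClass.toRingHom (Algebra.TensorProduct.includeRight : A →ₐ[R] K ⊗[R] A))
        (by simp [← IsScalarTower.algebraMap_eq])
        (by simp [← IsScalarTower.algebraMap_eq])) (Coalgebra.comul (R := R) a) :=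
  RingHom.congr_fun (Bialgebra.comul_includeRight (R := R) (A := K) (B := A)) a

lemma lift_mapRingHomR (f g : (K ⊗[R] A) →ₐ[K] (K ⊗[R] A)) (t : A ⊗[R] A) :
    Algebra.TensorProduct.lift f g (fun _ _ => .all _ _)
      ((Algebra.TensorProduct.mapRingHom (algebraMap R K)
        (RingHomClass.toRingHom (Algebra.TensorProduct.includeRight : A →ₐ[R] K ⊗[R] A))
        (RingHomClass.toRingHom (Algebra.TensorProduct.includeRight : A →ₐ[R] K ⊗[R] A))
        (by simp [← IsScalarTower.algebraMap_eq])
        (by simp [← IsScalarTower.algebraMap_eq])) t) =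
    Algebra.TensorProduct.lift (rhoR K f) (rhoR K g) (fun _ _ => .all _ _) t := by
  induction t using TensorProduct.induction_on with
  | zero => simp
  | tmul a b =>
    rw [Algebra.TensorProduct.mapRingHom_tmul, Algebra.TensorProduct.lift_tmul,
      Algebra.TensorProduct.lift_tmul]
    rfl
  | add s t hs ht => rw [map_add, map_add, map_add, hs, ht]

lemma rhoR_mul (f g : WithConv ((K ⊗[R] A) →ₐ[K] (K ⊗[R] A))) :
    toConv (rhoR K (f * g).ofConv) = toConv (rhoR K f.ofConv) * toConv (rhoR K g.ofConv) := by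
  apply WithConv.ofConv_injective
  apply AlgHom.ext
  intro a
  have h1 : (toConv (rhoR K (f * g).ofConv)).ofConv a = (f * g) ((1 : K) ⊗ₜ[R] a) := rfl
  rw [h1, AlgHom.convMul_apply, comul_incR, lift_mapRingHomR]
  have h2 := AlgHom.convMul_apply (toConv (rhoR K f.ofConv)) (toConv (rhoR K g.ofConv)) a
  exact h2.symm

lemma rhoR_one : toConv (rhoR K (1 : WithConv ((K ⊗[R] A) →ₐ[K] (K ⊗[R] A))).ofConv) = 1 := by
  apply WithConv.ofConv_injective
  apply AlgHom.ext
  intro a
  show algebraMap K (K ⊗[R] A) (Coalgebra.counit (R := K) ((1 : K) ⊗ₜ[R] a)) =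
    algebraMap R (K ⊗[R] A) (Coalgebra.counit (R := R) a)
  rw [TensorProduct.counit_tmul, Bialgebra.counit_one, Algebra.algebraMap_eq_smul_one,
    Algebra.algebraMap_eq_smul_one (R := R), smul_assoc, one_smul]

lemma rhoR_pow (f : WithConv ((K ⊗[R] A) →ₐ[K] (K ⊗[R] A))) (n : ℕ) :
    toConv (rhoR K (f ^ n).ofConv) = (toConv (rhoR K f.ofConv)) ^ n := by
  induction n with
  | zero => rw [pow_zero, pow_zero, rhoR_one]
  | succ n ih => rw [pow_succ, pow_succ, rhoR_mul, ih]

theorem inc_psi_eq (n : ℕ) (h : (toConv (AlgHom.id K (K ⊗[R] A))) ^ n = 1) (x : A) :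
    (1 : K) ⊗ₜ[R] (psi R A n x) =
      (1 : K) ⊗ₜ[R] (algebraMap R A (Coalgebra.counit (R := R) x)) := by
  have h1 := rhoR_pow K (toConv (AlgHom.id K (K ⊗[R] A))) n
  rw [h, rhoR_one] at h1
  have h2 := comp_convPow (Algebra.TensorProduct.includeRight : A →ₐ[R] K ⊗[R] A)
    (toConv (AlgHom.id R A)) n
  rw [ofConv_toConv, AlgHom.comp_id] at h2
  have e : rhoR K (toConv (AlgHom.id K (K ⊗[R] A))).ofConv =
      (Algebra.TensorProduct.includeRight : A →ₐ[R] K ⊗[R] A) := by
    apply AlgHom.ext
    intro a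
    rfl
  rw [e] at h1
  rw [← h1] at h2
  have h3 := congrArg (fun f : WithConv (A →ₐ[R] K ⊗[R] A) => f.ofConv x) h2
  simp only [ofConv_toConv, AlgHom.comp_apply] at h3
  have h4 : (1 : K) ⊗ₜ[R] (psi R A n x) =
      (1 : WithConv (A →ₐ[R] K ⊗[R] A)).ofConv x := h3
  rw [h4]
  show algebraMap R (K ⊗[R] A) (Coalgebra.counit (R := R) x) =
    (Algebra.TensorProduct.includeRight : A →ₐ[R] K ⊗[R] A)
      (algebraMap R A (Coalgebra.counit (R := R) x))
  rw [AlgHom.commutes]

end BCR

section Sep
variable {R : Type u} [CommRing R] [IsReduced R] {P : Type v} [AddCommGroup P] [Module R P]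
  [Module.Projective R P]

/-- an element of a projective module over a reduced ring vanishing in all fibres is zero -/
theorem eq_zero_of_forall_residue (y : P)
    (h : ∀ p : PrimeSpectrum R, (1 : p.asIdeal.ResidueField) ⊗ₜ[R] y = 0) : y = 0 := by
  obtain ⟨s, hs⟩ := Module.projective_def'.mp (inferInstance : Module.Projective R P)
  have hφ : ∀ φ : P →ₗ[R] R, φ y = 0 := by
    intro φ
    have hnil : φ y ∈ nilradical R := by
      rw [nilradical_eq_sInf, Ideal.mem_sInf]
      intro I hI
      have hI' : I.IsPrime := hI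
      let p : PrimeSpectrum R := ⟨I, hI'⟩
      have h1 := congrArg (fun t => TensorProduct.rid R p.asIdeal.ResidueField
        (LinearMap.lTensor p.asIdeal.ResidueField φ t)) (h p)
      simp only [LinearMap.lTensor_tmul, TensorProduct.rid_tmul, map_zero] at h1
      have h2 : algebraMap R p.asIdeal.ResidueField (φ y) = 0 := by
        rw [Algebra.algebraMap_eq_smul_one]
        exact h1
      exact Ideal.algebraMap_residueField_eq_zero.mp h2
    exact IsReduced.eq_zero _ ((mem_nilradical).mp hnil)
  have h0 : s y = 0 := by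
    ext i
    exact hφ ((Finsupp.lapply i) ∘ₗ s)
  have h1 := LinearMap.congr_fun hs y
  rw [LinearMap.comp_apply, h0, map_zero] at h1
  exact h1.symm

end Sep

end Groth.Agent.H1.FinHopf
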