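import Mathlib
import Groth.Agent.H1.FinHopf.AlgClosed

/-!
# Cartier's theorem: commutative Hopf algebras of finite type in characteristic zero are reduced

Proof following Waterhouse, *Introduction to affine group schemes*, 11.4: the graded ring of the
augmentation ideal is a polynomial ring (using invariant derivations and Euler's identity), hence
nilpotent elements lie in the intersection of the powers of the augmentation ideal, which is killed
by an element not in that ideal (Krull); translations spread this to all closed points over an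
algebraically closed field, and one descends along the algebraic closure.
-/

set_option autoImplicit false
set_option linter.unusedSectionVars false

open TensorProduct

namespace Groth.Agent.H1.FinHopf.Cartier

universe u v

noncomputable section

section Deriv
variable (k : Type u) [Field k] (A : Type v) [CommRing A] [HopfAlgebra k A]

/-- `a ⊗ b ↦ f b • a`. -/
def contr (f : A →ₗ[k] k) : A ⊗[k] A →ₗ[k] A :=
  (TensorProduct.rid k A).toLinearMap ∘ₗ f.lTensor A

@[simp] lemma contr_tmul (f : A →ₗ[k] k) (a b : A) : contr k A f (a ⊗ₜ[k] b) = f b • a := by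
  simp [contr]

lemma contr_counit_comul (a : A) :
    contr k A Coalgebra.counit (Coalgebra.comul (R := k) a) = a := by
  unfold contr
  rw [LinearMap.comp_apply, Coalgebra.lTensor_counit_comul]
  simp

/-- `ε`-derivations `A → k`. -/
def IsEpsDer (d : A →ₗ[k] k) : Prop :=
  ∀ a b : A, d (a * b) = Coalgebra.counit (R := k) a * d b + d a * Coalgebra.counit (R := k) b

lemma contr_mul {d : A →ₗ[k] k} (hd : IsEpsDer k A d) (z w : A ⊗[k] A) :
    contr k A d (z * w) =
      contr k A Coalgebra.counit z * contr k A d w +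
        contr k A d z * contr k A Coalgebra.counit w := by
  induction z using TensorProduct.induction_on with
  | zero => simp
  | add z₁ z₂ h₁ h₂ => rw [add_mul, map_add, h₁, h₂, map_add, map_add]; ring
  | tmul a b =>
    induction w using TensorProduct.induction_on with
    | zero => simp
    | add w₁ w₂ h₁ h₂ => rw [mul_add, map_add, h₁, h₂, map_add, map_add]; ring
    | tmul a' b' =>
      rw [Algebra.TensorProduct.tmul_mul_tmul, contr_tmul, contr_tmul, contr_tmul, contr_tmul,
        contr_tmul, hd, smul_mul_smul_comm, smul_mul_smul_comm, ← add_smul]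

/-- The left-invariant derivation attached to an `ε`-derivation. -/
def Dd (d : A →ₗ[k] k) : A →ₗ[k] A := contr k A d ∘ₗ Coalgebra.comul

lemma Dd_mul {d : A →ₗ[k] k} (hd : IsEpsDer k A d) (a b : A) :
    Dd k A d (a * b) = a * Dd k A d b + Dd k A d a * b := by
  unfold Dd
  rw [LinearMap.comp_apply, Bialgebra.comul_mul, contr_mul k A hd, contr_counit_comul,
    contr_counit_comul]
  rfl

lemma counit_Dd (d : A →ₗ[k] k) (a : A) : Coalgebra.counit (R := k) (Dd k A d a) = d a := by
  have h : ∀ z : A ⊗[k] A, Coalgebra.counit (R := k) (contr k A d z) =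
      d (TensorProduct.lid k A ((Coalgebra.counit (R := k) (A := A)).rTensor A z)) := by
    intro z
    induction z using TensorProduct.induction_on with
    | zero => simp
    | add z₁ z₂ h₁ h₂ => simp only [map_add, h₁, h₂]
    | tmul a b => simp [mul_comm]
  unfold Dd
  rw [LinearMap.comp_apply, h, Coalgebra.rTensor_counit_comul]
  simp

end Deriv

section Cotangent
variable (k : Type u) [Field k] (A : Type v) [CommRing A] [HopfAlgebra k A]

/-- The augmentation ideal. -/
abbrev augI : Ideal A := RingHom.ker (Bialgebra.counitAlgHom k A)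

lemma mem_augI (a : A) : a ∈ augI k A ↔ Coalgebra.counit (R := k) a = 0 := by
  rw [RingHom.mem_ker]; rfl

lemma sub_counit_mem (a : A) :
    a - algebraMap k A (Coalgebra.counit (R := k) a) ∈ augI k A := by
  rw [mem_augI, map_sub, Bialgebra.counit_algebraMap]
  simp

lemma isEpsDer_of (f : A →ₗ[k] k) (h1 : f 1 = 0) (h2 : ∀ a ∈ (augI k A) ^ 2, f a = 0) :
    IsEpsDer k A f := by
  have aux : ∀ a₀ ∈ augI k A, ∀ b₀ ∈ augI k A, ∀ α β : k,
      f ((a₀ + α • 1) * (b₀ + β • 1)) = α * f (b₀ + β • 1) + f (a₀ + α • 1) * β := by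
    intro a₀ ha₀ b₀ hb₀ α β
    have hmem : a₀ * b₀ ∈ (augI k A) ^ 2 := by
      rw [pow_two]; exact Ideal.mul_mem_mul ha₀ hb₀
    have hexp : (a₀ + α • 1) * (b₀ + β • 1) =
        a₀ * b₀ + α • b₀ + β • a₀ + (α * β) • (1 : A) := by
      simp only [Algebra.smul_def, mul_one, map_mul]
      ring
    rw [hexp]
    simp only [map_add, map_smul, h1, h2 _ hmem, smul_eq_mul]
    ring
  intro a b
  have ha := sub_counit_mem k A a
  have hb := sub_counit_mem k A b
  have h := aux _ ha _ hb (Coalgebra.counit (R := k) a) (Coalgebra.counit (R := k) b)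
  simp only [← Algebra.algebraMap_eq_smul_one, sub_add_cancel] at h
  exact h

theorem exists_cotangent_data [IsNoetherianRing A] :
    ∃ (n : ℕ) (x : Fin n → A) (d : Fin n → A →ₗ[k] k),
      (∀ i, x i ∈ augI k A) ∧ (∀ i, IsEpsDer k A (d i)) ∧
      (∀ i j, d i (x j) = if i = j then 1 else 0) ∧
      (∀ a ∈ augI k A, ∃ c : Fin n → k, a - ∑ i, c i • x i ∈ (augI k A) ^ 2) := by
  classical
  let W : Submodule k A := ((augI k A) ^ 2).restrictScalars k
  let q : A →ₗ[k] A ⧸ W := W.mkQ
  have hq0 : ∀ a, q a = 0 ↔ a ∈ (augI k A) ^ 2 := by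
    intro a
    exact Submodule.Quotient.mk_eq_zero W
  let V : Submodule k (A ⧸ W) := Submodule.map q ((augI k A).restrictScalars k)
  obtain ⟨s, hs⟩ := (isNoetherianRing_iff_ideal_fg A).mp inferInstance (augI k A)
  have hkey : ∀ a ∈ Ideal.span (s : Set A),
      a ∈ augI k A ∧ q a ∈ Submodule.span k (q '' (s : Set A)) := by
    intro a ha
    induction ha using Submodule.span_induction with
    | mem y hy =>
      exact ⟨hs ▸ Ideal.subset_span hy, Submodule.subset_span ⟨y, hy, rfl⟩⟩
    | zero => exact ⟨zero_mem _, by rw [map_zero]; exact zero_mem _⟩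
    | add y z _ _ hy hz =>
      exact ⟨add_mem hy.1 hz.1, by rw [map_add]; exact add_mem hy.2 hz.2⟩
    | smul b y _ hy =>
      refine ⟨Ideal.mul_mem_left _ _ hy.1, ?_⟩
      have hby : q (b • y) = Coalgebra.counit (R := k) b • q y := by
        rw [← map_smul, ← sub_eq_zero, ← map_sub, hq0]
        have he : b • y - Coalgebra.counit (R := k) b • y =
            (b - algebraMap k A (Coalgebra.counit (R := k) b)) * y := by
          rw [sub_mul, smul_eq_mul, Algebra.smul_def]
        rw [he, pow_two]
        exact Ideal.mul_mem_mul (sub_counit_mem k A b) hy.1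
      rw [hby]
      exact Submodule.smul_mem _ _ hy.2
  have hV : V ≤ Submodule.span k (q '' (s : Set A)) := by
    rintro _ ⟨a, ha, rfl⟩
    exact (hkey a (by rw [hs]; exact ha)).2
  have : FiniteDimensional k (Submodule.span k (q '' (s : Set A))) :=
    FiniteDimensional.span_of_finite k (Set.Finite.image _ s.finite_toSet)
  have : FiniteDimensional k V := Submodule.finiteDimensional_of_le hV
  let b := Module.finBasis k V
  have hbx : ∀ i, ∃ xi ∈ augI k A, q xi = (b i : A ⧸ W) := by
    intro i
    obtain ⟨xi, hxi, hqx⟩ := (b i).2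
    exact ⟨xi, hxi, hqx⟩
  choose x hxI hqx using hbx
  have hext : ∀ i, ∃ g : (A ⧸ W) →ₗ[k] k, g ∘ₗ V.subtype = b.coord i :=
    fun i => LinearMap.exists_extend (b.coord i)
  choose g hg using hext
  let pi0 : A →ₗ[k] A := LinearMap.id - (Algebra.linearMap k A) ∘ₗ Coalgebra.counit
  have hpi0 : ∀ a ∈ augI k A, pi0 a = a := by
    intro a ha
    have h0 := (mem_augI k A a).mp ha
    simp [pi0, h0]
  refine ⟨Module.finrank k V, x, fun i => (g i) ∘ₗ q ∘ₗ pi0, hxI, ?_, ?_, ?_⟩
  · intro i
    apply isEpsDer_of
    · simp [pi0]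
    · intro a ha
      have haI : a ∈ augI k A := Ideal.pow_le_self two_ne_zero ha
      rw [LinearMap.comp_apply, LinearMap.comp_apply, hpi0 a haI, (hq0 a).mpr ha, map_zero]
  · intro i j
    rw [LinearMap.comp_apply, LinearMap.comp_apply, hpi0 _ (hxI j), hqx j]
    have h3 : g i (b j : A ⧸ W) = (g i ∘ₗ V.subtype) (b j) := rfl
    rw [h3, hg i, Module.Basis.coord_apply, Module.Basis.repr_self, Finsupp.single_apply]
    simp [eq_comm]
  · intro a ha
    have hqa : q a ∈ V := ⟨a, ha, rfl⟩
    refine ⟨fun i => b.repr ⟨q a, hqa⟩ i, ?_⟩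
    rw [← hq0, map_sub, map_sum, sub_eq_zero]
    have h4 := congrArg V.subtype (b.sum_repr ⟨q a, hqa⟩)
    rw [map_sum] at h4
    simp only [map_smul, Submodule.subtype_apply] at h4
    refine h4.symm.trans ?_
    refine Finset.sum_congr rfl (fun i _ => ?_)
    rw [map_smul, hqx i]

end Cotangent

section Graded
open MvPolynomial
variable (k : Type u) [Field k] (A : Type v) [CommRing A] [HopfAlgebra k A]
variable {n : ℕ} (x : Fin n → A) (d : Fin n → A →ₗ[k] k)

lemma aeval_mem_pow (hx : ∀ i, x i ∈ augI k A) {P : MvPolynomial (Fin n) k} {m : ℕ}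
    (hP : P.IsHomogeneous m) : aeval x P ∈ (augI k A) ^ m := by
  have h1 : P ∈ idealOfVars (Fin n) k ^ m := by
    rw [mem_pow_idealOfVars_iff]
    intro s hs
    by_contra hlt
    have h0 : coeff s P = 0 := hP.coeff_eq_zero (by omega)
    exact (mem_support_iff.mp hs) h0
  have h2 : aeval x P ∈ Ideal.map (aeval x : MvPolynomial (Fin n) k →ₐ[k] A)
      (idealOfVars (Fin n) k ^ m) := Ideal.mem_map_of_mem _ h1
  rw [Ideal.map_pow] at h2
  refine Ideal.pow_right_mono ?_ m h2
  rw [Ideal.map_span, Ideal.span_le]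
  rintro _ ⟨_, ⟨i, rfl⟩, rfl⟩
  simpa using hx i

lemma chain_rule (D : A →ₗ[k] A) (hD : ∀ a b, D (a * b) = a * D b + D a * b)
    (P : MvPolynomial (Fin n) k) :
    D (aeval x P) = ∑ j, aeval x (pderiv j P) * D (x j) := by
  have hD1 : D 1 = 0 := by
    have h := hD 1 1
    simp only [one_mul, mul_one] at h
    exact left_eq_add.mp h
  induction P using MvPolynomial.induction_on with
  | C c => simp [Algebra.algebraMap_eq_smul_one, hD1]
  | add p q hp hq => simp only [map_add, hp, hq, add_mul, Finset.sum_add_distrib]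
  | mul_X p i hp =>
    have hpd : ∀ j, aeval x (pderiv j (p * X i)) =
        aeval x (pderiv j p) * x i + aeval x p * (if j = i then 1 else 0) := by
      intro j
      rw [pderiv_mul, map_add, map_mul, map_mul, aeval_X, pderiv_X]
      congr 2
      by_cases h : j = i
      · subst h; simp
      · simp [h, Ne.symm h]
    rw [map_mul, aeval_X, hD, hp]
    simp only [hpd, add_mul, Finset.sum_add_distrib]
    have h2 : ∑ j, aeval x p * (if j = i then (1 : A) else 0) * D (x j) = aeval x p * D (x i) := by
      simp [mul_ite, ite_mul, Finset.sum_ite_eq']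
    rw [h2, Finset.sum_mul, add_comm]
    congr 1
    refine Finset.sum_congr rfl (fun j _ => by ring)

lemma D_pow_mem (D : A →ₗ[k] A) (hD : ∀ a b, D (a * b) = a * D b + D a * b) (I : Ideal A) :
    ∀ (m : ℕ) (a : A), a ∈ I ^ (m + 1) → D a ∈ I ^ m := by
  intro m
  induction m with
  | zero => intro a _; simp
  | succ m ih =>
    intro a ha
    rw [pow_succ] at ha
    refine Submodule.smul_induction_on (p := fun a => D a ∈ I ^ (m + 1)) ha ?_ ?_
    · intro u hu v hv
      rw [smul_eq_mul, hD]
      refine add_mem (Ideal.mul_mem_right _ _ hu) ?_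
      rw [pow_succ]
      exact Ideal.mul_mem_mul (ih u hu) hv
    · intro y z hy hz
      rw [map_add]; exact add_mem hy hz

theorem homog_indep [CharZero k] (hx : ∀ i, x i ∈ augI k A) (hd : ∀ i, IsEpsDer k A (d i))
    (hdx : ∀ i j, d i (x j) = if i = j then 1 else 0) :
    ∀ (m : ℕ) (P : MvPolynomial (Fin n) k), P.IsHomogeneous m →
      aeval x P ∈ (augI k A) ^ (m + 1) → P = 0 := by
  intro m
  induction m with
  | zero =>
    intro P hP hmem
    have h0 : P.totalDegree = 0 := Nat.le_zero.mp hP.totalDegree_le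
    rw [totalDegree_eq_zero_iff_eq_C] at h0
    rw [h0] at hmem ⊢
    rw [aeval_C, zero_add, pow_one, mem_augI, Bialgebra.counit_algebraMap] at hmem
    have h1 : coeff 0 P = 0 := by simpa using hmem
    rw [h1, map_zero]
  | succ m ih =>
    intro P hP hmem
    have hpd : ∀ i, pderiv i P = 0 := by
      intro i
      have hPi : ∀ j, (pderiv j P).IsHomogeneous m := fun j => by
        simpa using hP.pderiv (i := j)
      apply ih _ (hPi i)
      have h1 : Dd k A (d i) (aeval x P) ∈ (augI k A) ^ (m + 1) :=
        D_pow_mem k A _ (Dd_mul k A (hd i)) _ (m + 1) _ hmem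
      rw [chain_rule k A x _ (Dd_mul k A (hd i))] at h1
      have hr : ∀ j, Dd k A (d i) (x j) - (if i = j then 1 else 0) ∈ augI k A := by
        intro j
        rw [mem_augI, map_sub, counit_Dd, hdx]
        by_cases h : i = j
        · simp [h]
        · simp [h]
      have h2 : aeval x (pderiv i P) =
          ∑ j, aeval x (pderiv j P) * Dd k A (d i) (x j) -
            ∑ j, aeval x (pderiv j P) * (Dd k A (d i) (x j) - (if i = j then 1 else 0)) := by
        rw [← Finset.sum_sub_distrib]
        have h3 : ∀ j, aeval x (pderiv j P) * Dd k A (d i) (x j) -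
            aeval x (pderiv j P) * (Dd k A (d i) (x j) - (if i = j then 1 else 0)) =
            if i = j then aeval x (pderiv j P) else 0 := by
          intro j
          by_cases h : i = j
          · subst h
            simp only [if_true]
            ring
          · simp [h]
        simp only [h3]
        simp
      rw [h2]
      refine sub_mem h1 (Ideal.sum_mem _ (fun j _ => ?_))
      rw [pow_succ]
      exact Ideal.mul_mem_mul (aeval_mem_pow k A x hx (hPi j)) (hr j)
    have hE := hP.sum_X_mul_pderiv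
    simp only [hpd, mul_zero, Finset.sum_const_zero] at hE
    ext s
    have h4 := congrArg (coeff s) hE
    rw [coeff_zero, coeff_smul, nsmul_eq_mul] at h4
    rw [coeff_zero]
    rcases mul_eq_zero.mp h4.symm with h5 | h5
    · exact absurd h5 (Nat.cast_ne_zero.mpr (Nat.succ_ne_zero m))
    · exact h5

theorem exists_homog_approx (hx : ∀ i, x i ∈ augI k A)
    (hspan : ∀ a ∈ augI k A, ∃ c : Fin n → k, a - ∑ i, c i • x i ∈ (augI k A) ^ 2) :
    ∀ (m : ℕ) (a : A), a ∈ (augI k A) ^ m →
      ∃ P : MvPolynomial (Fin n) k, P.IsHomogeneous m ∧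
        a - aeval x P ∈ (augI k A) ^ (m + 1) := by
  intro m
  induction m with
  | zero =>
    intro a _
    refine ⟨C (Coalgebra.counit (R := k) a), isHomogeneous_C _ _, ?_⟩
    rw [aeval_C, zero_add, pow_one]
    exact sub_counit_mem k A a
  | succ m ih =>
    intro a ha
    rw [pow_succ] at ha
    refine Submodule.smul_induction_on
      (p := fun a => ∃ P : MvPolynomial (Fin n) k, P.IsHomogeneous (m + 1) ∧
        a - aeval x P ∈ (augI k A) ^ (m + 1 + 1)) ha ?_ ?_
    · intro u hu v hv
      obtain ⟨P, hP, hPu⟩ := ih u hu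
      obtain ⟨c, hc⟩ := hspan v hv
      refine ⟨P * ∑ i, C (c i) * X i,
        hP.mul (IsHomogeneous.sum _ _ _ (fun i _ => isHomogeneous_C_mul_X (c i) i)), ?_⟩
      have hL : aeval x (∑ i, C (c i) * X i) = ∑ i, c i • x i := by
        simp [Algebra.smul_def]
      rw [smul_eq_mul, map_mul, hL]
      have he : u * v - aeval x P * ∑ i, c i • x i =
          (u - aeval x P) * v + aeval x P * (v - ∑ i, c i • x i) := by ring
      rw [he]
      refine add_mem ?_ ?_
      · rw [pow_succ]; exact Ideal.mul_mem_mul hPu hv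
      · have h1 := Ideal.mul_mem_mul (aeval_mem_pow k A x hx hP) hc
        rw [← pow_add] at h1
        exact h1
    · rintro y z ⟨P, hP, hPy⟩ ⟨Q, hQ, hQz⟩
      refine ⟨P + Q, hP.add hQ, ?_⟩
      have he : y + z - aeval x (P + Q) = (y - aeval x P) + (z - aeval x Q) := by
        rw [map_add]; ring
      rw [he]; exact add_mem hPy hQz

theorem nilpotent_mem_pow [CharZero k] (hx : ∀ i, x i ∈ augI k A)
    (hd : ∀ i, IsEpsDer k A (d i)) (hdx : ∀ i j, d i (x j) = if i = j then 1 else 0)
    (hspan : ∀ a ∈ augI k A, ∃ c : Fin n → k, a - ∑ i, c i • x i ∈ (augI k A) ^ 2)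
    {y : A} (hy : IsNilpotent y) : ∀ m, y ∈ (augI k A) ^ m := by
  obtain ⟨e, he⟩ := hy
  intro m
  induction m with
  | zero => simp
  | succ m ih =>
    obtain ⟨P, hP, hPy⟩ := exists_homog_approx k A x hx hspan m y ih
    have hφP := aeval_mem_pow k A x hx hP
    have hpow : ∀ e : ℕ, y ^ e - (aeval x P) ^ e ∈ (augI k A) ^ (m * e + 1) := by
      intro e
      induction e with
      | zero => simp
      | succ e ihe =>
        have h0 : y ^ (e + 1) - (aeval x P) ^ (e + 1) =
            (y ^ e - (aeval x P) ^ e) * y + (aeval x P) ^ e * (y - aeval x P) := by ring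
        rw [h0]
        refine add_mem ?_ ?_
        · have h1 := Ideal.mul_mem_mul ihe ih
          rw [← pow_add] at h1
          have h2 : m * e + 1 + m = m * (e + 1) + 1 := by ring
          rw [h2] at h1; exact h1
        · have h1 := Ideal.mul_mem_mul (Ideal.pow_mem_pow hφP e) hPy
          rw [← pow_mul, ← pow_add] at h1
          have h2 : m * e + (m + 1) = m * (e + 1) + 1 := by ring
          rw [h2] at h1; exact h1
    have h2 := hpow e
    rw [he, zero_sub, neg_mem_iff, ← map_pow] at h2
    have h3 := homog_indep k A x d hx hd hdx (m * e) (P ^ e) (hP.pow e) h2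
    have hP0 : P = 0 := eq_zero_of_pow_eq_zero h3
    rw [hP0, map_zero, sub_zero] at hPy
    exact hPy

theorem exists_mul_eq_of_isNilpotent [CharZero k] [IsNoetherianRing A] {y : A}
    (hy : IsNilpotent y) : ∃ r ∈ augI k A, r * y = y := by
  obtain ⟨n, x, d, hx, hd, hdx, hspan⟩ := exists_cotangent_data k A
  have h := nilpotent_mem_pow k A x d hx hd hdx hspan hy
  have hmem : y ∈ (⨅ i : ℕ, (augI k A) ^ i • (⊤ : Submodule A A) : Submodule A A) := by
    rw [Submodule.mem_iInf]
    intro i
    have h1 : (augI k A) ^ i • (⊤ : Submodule A A) = (augI k A) ^ i := by simp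
    rw [h1]; exact h i
  obtain ⟨r, hr⟩ := (Ideal.mem_iInf_smul_pow_eq_bot_iff (augI k A) y).mp hmem
  exact ⟨r.1, r.2, hr⟩

end Graded

section Global

/-- Nullstellensatz: maximal ideals of a finite type algebra over an algebraically closed field
are kernels of rational points. -/
theorem exists_point_ft (K : Type u) [Field K] [IsAlgClosed K] (A : Type v) [CommRing A]
    [Algebra K A] [Algebra.FiniteType K A] (M : Ideal A) (hM : M.IsMaximal) :
    ∃ g : A →ₐ[K] K, RingHom.ker g = M := by
  have := hM
  let : Field (A ⧸ M) := Ideal.Quotient.field M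
  have : Algebra.FiniteType K (A ⧸ M) :=
    Algebra.FiniteType.of_surjective (Ideal.Quotient.mkₐ K M) (Ideal.Quotient.mkₐ_surjective K M)
  have : Module.Finite K (A ⧸ M) := finite_of_finite_type_of_isJacobsonRing K (A ⧸ M)
  have : Algebra.IsIntegral K (A ⧸ M) := Algebra.IsIntegral.of_finite K (A ⧸ M)
  have hbij : Function.Bijective (algebraMap K (A ⧸ M)) :=
    IsAlgClosed.algebraMap_bijective_of_isIntegral
  let e : K ≃ₐ[K] (A ⧸ M) := AlgEquiv.ofBijective (Algebra.ofId K (A ⧸ M)) hbij
  refine ⟨(e.symm : (A ⧸ M) →ₐ[K] K).comp (Ideal.Quotient.mkₐ K M), ?_⟩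
  ext x
  rw [RingHom.mem_ker]
  change e.symm (Ideal.Quotient.mk M x) = 0 ↔ x ∈ M
  rw [map_eq_zero_iff e.symm e.symm.injective, Ideal.Quotient.eq_zero_iff_mem]

/-- Cartier's theorem over an algebraically closed field. -/
theorem isReduced_of_algClosed (K : Type u) [Field K] [IsAlgClosed K] [CharZero K]
    (A : Type v) [CommRing A] [HopfAlgebra K A] [Algebra.FiniteType K A] : IsReduced A := by
  have : IsNoetherianRing A := Algebra.FiniteType.isNoetherianRing K A
  refine ⟨fun y hy => ?_⟩
  by_contra hy0
  have hJ : (Submodule.span A ({y} : Set A)).annihilator ≠ ⊤ := by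
    intro htop
    have h1 : (1 : A) ∈ (Submodule.span A ({y} : Set A)).annihilator := by rw [htop]; trivial
    rw [Submodule.mem_annihilator_span_singleton] at h1
    exact hy0 (by simpa using h1)
  obtain ⟨M, hM, hJM⟩ := Ideal.exists_le_maximal _ hJ
  obtain ⟨g, hg⟩ := exists_point_ft K A M hM
  obtain ⟨τ, hτ⟩ := Groth.Agent.H1.FinHopf.exists_translation' K A g
  have hgτ : ∀ a, g a = Bialgebra.counitAlgHom K A (τ a) := fun a =>
    (AlgHom.congr_fun hτ a).symm
  obtain ⟨r, hr, hry⟩ := exists_mul_eq_of_isNilpotent K A (hy.map τ)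
  have hkill : (1 - τ.symm r) * y = 0 := by
    apply τ.injective
    rw [map_mul, map_sub, map_one, AlgEquiv.apply_symm_apply, map_zero, sub_mul, one_mul, hry,
      sub_self]
  have hmemJ : (1 - τ.symm r) ∈ (Submodule.span A ({y} : Set A)).annihilator := by
    rw [Submodule.mem_annihilator_span_singleton]
    exact hkill
  have hmemM : (1 - τ.symm r) ∈ RingHom.ker g := hg ▸ hJM hmemJ
  rw [RingHom.mem_ker, map_sub, map_one, hgτ, AlgEquiv.apply_symm_apply] at hmemM
  have hr0 : Bialgebra.counitAlgHom K A r = 0 := hr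
  rw [hr0, sub_zero] at hmemM
  exact one_ne_zero hmemM

/-- **Cartier's theorem**: a commutative Hopf algebra of finite type over a field of
characteristic zero is reduced. -/
theorem isReduced_of_charZero (k : Type u) [Field k] [CharZero k]
    (A : Type v) [CommRing A] [HopfAlgebra k A] [Algebra.FiniteType k A] : IsReduced A := by
  have : CharZero (AlgebraicClosure k) :=
    charZero_of_injective_algebraMap (algebraMap k (AlgebraicClosure k)).injective
  have : IsReduced (AlgebraicClosure k ⊗[k] A) :=
    isReduced_of_algClosed (AlgebraicClosure k) (AlgebraicClosure k ⊗[k] A)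
  exact isReduced_of_injective
    (Algebra.TensorProduct.includeRight : A →ₐ[k] AlgebraicClosure k ⊗[k] A)
    (Algebra.TensorProduct.includeRight_injective
      (algebraMap k (AlgebraicClosure k)).injective)

/-- In characteristic zero a Hopf ideal is the intersection of the kernels of the geometric
points containing it. -/
theorem mem_of_forall_point (k : Type u) [Field k] [CharZero k]
    (A : Type v) [CommRing A] [HopfAlgebra k A] [Algebra.FiniteType k A]
    (I : Ideal A) [I.IsHopfIdeal k] (a : A)
    (ha : ∀ g : A →ₐ[k] AlgebraicClosure k, I ≤ RingHom.ker g → g a = 0) : a ∈ I := by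
  by_contra haI
  have : Algebra.FiniteType k (A ⧸ I) :=
    Algebra.FiniteType.of_surjective (Ideal.Quotient.mkₐ k I) (Ideal.Quotient.mkₐ_surjective k I)
  have : IsReduced (A ⧸ I) := isReduced_of_charZero k (A ⧸ I)
  have : IsJacobsonRing (A ⧸ I) := isJacobsonRing_of_finiteType (A := k)
  have hjac : (⊥ : Ideal (A ⧸ I)).jacobson = ⊥ := IsJacobsonRing.out' _ Ideal.isRadical_bot
  have hne : Ideal.Quotient.mk I a ∉ (⊥ : Ideal (A ⧸ I)).jacobson := by
    rw [hjac, Ideal.mem_bot, Ideal.Quotient.eq_zero_iff_mem]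
    exact haI
  rw [Ideal.jacobson, Submodule.mem_sInf] at hne
  push Not at hne
  obtain ⟨M, ⟨-, hM⟩, haM⟩ := hne
  have := hM
  let : Field ((A ⧸ I) ⧸ M) := Ideal.Quotient.field M
  have : Algebra.FiniteType k ((A ⧸ I) ⧸ M) :=
    Algebra.FiniteType.of_surjective (Ideal.Quotient.mkₐ k M) (Ideal.Quotient.mkₐ_surjective k M)
  have : Module.Finite k ((A ⧸ I) ⧸ M) := finite_of_finite_type_of_isJacobsonRing k _
  have : Algebra.IsAlgebraic k ((A ⧸ I) ⧸ M) := Algebra.IsAlgebraic.of_finite k _
  let φ : ((A ⧸ I) ⧸ M) →ₐ[k] AlgebraicClosure k := IsAlgClosed.lift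
  let g : A →ₐ[k] AlgebraicClosure k :=
    φ.comp ((Ideal.Quotient.mkₐ k M).comp (Ideal.Quotient.mkₐ k I))
  have hIg : I ≤ RingHom.ker g := by
    intro b hb
    rw [RingHom.mem_ker]
    change φ (Ideal.Quotient.mk M (Ideal.Quotient.mk I b)) = 0
    rw [Ideal.Quotient.eq_zero_iff_mem.mpr hb, map_zero, map_zero]
  have hga := ha g hIg
  change φ (Ideal.Quotient.mk M (Ideal.Quotient.mk I a)) = 0 at hga
  rw [map_eq_zero_iff φ φ.toRingHom.injective, Ideal.Quotient.eq_zero_iff_mem] at hga
  exact haM hga

theorem eq_of_points (k : Type u) [Field k] [CharZero k]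
    (A : Type v) [CommRing A] [HopfAlgebra k A] [Algebra.FiniteType k A]
    (I I' : Ideal A) [I.IsHopfIdeal k] [I'.IsHopfIdeal k]
    (h : ∀ g : A →ₐ[k] AlgebraicClosure k, I ≤ RingHom.ker g ↔ I' ≤ RingHom.ker g) :
    I = I' := by
  apply le_antisymm
  · intro a ha
    exact mem_of_forall_point k A I' a (fun g hg => (h g).mpr hg ha)
  · intro a ha
    exact mem_of_forall_point k A I a (fun g hg => (h g).mp hg ha)

end Global

end

end Groth.Agent.H1.FinHopf.Cartier
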