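import Groth.Agent.H1.FinHopf.ConvPow

set_option autoImplicit false
set_option linter.unusedSectionVars false
set_option linter.style.haveILetI false
universe u v

namespace Groth.Agent.H1.FinHopf

open WithConv TensorProduct

section Coideal
variable {K : Type u} [Field K] {A : Type v} [CommRing A] [Bialgebra K A]

theorem map_comul_le :
    Ideal.map (Bialgebra.comulAlgHom K A) (RingHom.ker (Bialgebra.counitAlgHom K A)) ≤
      Ideal.map (Algebra.TensorProduct.includeLeft : A →ₐ[K] A ⊗[K] A)
        (RingHom.ker (Bialgebra.counitAlgHom K A)) ⊔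
      Ideal.map (Algebra.TensorProduct.includeRight : A →ₐ[K] A ⊗[K] A)
        (RingHom.ker (Bialgebra.counitAlgHom K A)) := by
  have hsurj : Function.Surjective (Bialgebra.counitAlgHom K A) :=
    fun c => ⟨algebraMap K A c, by simp⟩
  rw [← Algebra.TensorProduct.map_ker _ _ hsurj hsurj, Ideal.map_le_iff_le_comap]
  intro x hx
  rw [Ideal.mem_comap, RingHom.mem_ker]
  have hx' : Bialgebra.counitAlgHom K A x = 0 := hx
  have e : Algebra.TensorProduct.map (Bialgebra.counitAlgHom K A) (Bialgebra.counitAlgHom K A) =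
      (Algebra.TensorProduct.map (Bialgebra.counitAlgHom K A) (AlgHom.id K K)).comp
        (Algebra.TensorProduct.map (AlgHom.id K A) (Bialgebra.counitAlgHom K A)) := by
    ext <;> simp
  rw [e, AlgHom.comp_apply]
  have h2 : Algebra.TensorProduct.map (AlgHom.id K A) (Bialgebra.counitAlgHom K A)
      (Bialgebra.comulAlgHom K A x) = x ⊗ₜ 1 := Coalgebra.lTensor_counit_comul (R := K) x
  rw [h2, Algebra.TensorProduct.map_tmul, hx', TensorProduct.zero_tmul]

theorem isCoideal_pow (n : ℕ) (hn : 0 < n)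
    (hstab : (RingHom.ker (Bialgebra.counitAlgHom K A)) ^ n =
      (RingHom.ker (Bialgebra.counitAlgHom K A)) ^ (n + n)) :
    (((RingHom.ker (Bialgebra.counitAlgHom K A)) ^ n).restrictScalars K).IsCoideal := by
  set I := RingHom.ker (Bialgebra.counitAlgHom K A) with hI
  set J := I ^ n with hJ
  refine ⟨?_, ?_⟩
  · intro x hx
    have hx' : x ∈ I := Ideal.pow_le_self hn.ne' hx
    exact (RingHom.mem_ker (f := Bialgebra.counitAlgHom K A)).mp hx'
  · intro x hx
    set π : A ⊗[K] A →ₐ[K] (A ⧸ J) ⊗[K] (A ⧸ J) :=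
      Algebra.TensorProduct.map (Ideal.Quotient.mkₐ K J) (Ideal.Quotient.mkₐ K J) with hπ
    set P := Ideal.map (Algebra.TensorProduct.includeLeft : A →ₐ[K] A ⊗[K] A) I with hP
    set Q := Ideal.map (Algebra.TensorProduct.includeRight : A →ₐ[K] A ⊗[K] A) I with hQ
    have hPk : P ^ n ≤ RingHom.ker π := by
      rw [hP, ← Ideal.map_pow, Ideal.map_le_iff_le_comap]
      intro y hy
      rw [Ideal.mem_comap, RingHom.mem_ker]
      show π (y ⊗ₜ 1) = 0
      rw [hπ, Algebra.TensorProduct.map_tmul]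
      have : Ideal.Quotient.mkₐ K J y = 0 := Ideal.Quotient.eq_zero_iff_mem.mpr hy
      rw [this, TensorProduct.zero_tmul]
    have hQk : Q ^ n ≤ RingHom.ker π := by
      rw [hQ, ← Ideal.map_pow, Ideal.map_le_iff_le_comap]
      intro y hy
      rw [Ideal.mem_comap, RingHom.mem_ker]
      show π (1 ⊗ₜ y) = 0
      rw [hπ, Algebra.TensorProduct.map_tmul]
      have : Ideal.Quotient.mkₐ K J y = 0 := Ideal.Quotient.eq_zero_iff_mem.mpr hy
      rw [this, TensorProduct.tmul_zero]
    have hx2 : x ∈ I ^ (n + n) := by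
      have : x ∈ J := hx
      rwa [hstab] at this
    have h1 : Bialgebra.comulAlgHom K A x ∈ (P ⊔ Q) ^ (n + n) := by
      have h2 : Bialgebra.comulAlgHom K A x ∈ Ideal.map (Bialgebra.comulAlgHom K A) (I ^ (n + n)) :=
        Ideal.mem_map_of_mem _ hx2
      rw [Ideal.map_pow] at h2
      exact Ideal.pow_right_mono map_comul_le _ h2
    have h3 : Bialgebra.comulAlgHom K A x ∈ RingHom.ker π :=
      (sup_le hPk hQk) (Ideal.sup_pow_add_le_pow_sup_pow h1)
    exact (RingHom.mem_ker).mp h3

end Coideal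

end Groth.Agent.H1.FinHopf
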