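import Groth.Agent.H1.FinHopf.PPow

set_option autoImplicit false
set_option linter.unusedSectionVars false
set_option linter.style.haveILetI false
universe u v w w'

namespace Groth.Agent.H1.FinHopf

open WithConv TensorProduct

section Chain
variable {k : Type u} [Field k] {B : Type v} [CommRing B] [Algebra k B] [Module.Finite k B]

theorem pow_finrank_eq_pow_succ (V : Ideal B) :
    V ^ (Module.finrank k B) = V ^ (Module.finrank k B + 1) := by
  by_contra hne
  set d := Module.finrank k B with hd
  have claim : ∀ j : ℕ, j ≤ d + 1 →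
      j + Module.finrank k ↥((V ^ j).restrictScalars k) ≤ d := by
    intro j
    induction j with
    | zero =>
      intro _
      rw [pow_zero, Ideal.one_eq_top, Submodule.restrictScalars_top, finrank_top, zero_add]
    | succ j ih =>
      intro hj
      have h1 := ih (by omega)
      have hne' : V ^ (j + 1) ≠ V ^ j := by
        intro heq
        apply hne
        have e1 : d = j + (d - j) := by omega
        have e2 : d + 1 = (j + 1) + (d - j) := by omega
        rw [e2, pow_add, heq, ← pow_add, ← e1]
      have hlt : (V ^ (j + 1)).restrictScalars k < (V ^ j).restrictScalars k := by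
        apply lt_of_le_of_ne
        · intro x hx
          exact Ideal.pow_le_pow_right (Nat.le_succ j) hx
        · intro heq
          exact hne' (Submodule.restrictScalars_injective k _ _ heq)
      have := Submodule.finrank_lt_finrank_of_lt hlt
      omega
  have := claim (d + 1) le_rfl
  omega

theorem pow_finrank_eq_pow_add (V : Ideal B) (m : ℕ) :
    V ^ (Module.finrank k B) = V ^ (Module.finrank k B + m) := by
  induction m with
  | zero => rfl
  | succ m ih =>
    rw [← add_assoc, pow_succ, ← ih, ← pow_succ]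
    exact pow_finrank_eq_pow_succ (k := k) V

theorem pow_finrank_eq_bot (V : Ideal B) (hnil : ∃ m, V ^ m = ⊥) :
    V ^ (Module.finrank k B) = ⊥ := by
  obtain ⟨m, hm⟩ := hnil
  rw [pow_finrank_eq_pow_add (k := k) V m, eq_bot_iff, ← hm]
  exact Ideal.pow_le_pow_right (Nat.le_add_left _ _)

end Chain

section Conv
variable {R : Type u} [CommRing R] {A : Type v} [CommRing A] [Bialgebra R A]

/-- the `n`-th power map on the coordinate ring -/
noncomputable def psi (R : Type u) [CommRing R] (A : Type v) [CommRing A] [Bialgebra R A]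
    (n : ℕ) : A →ₐ[R] A := ((toConv (AlgHom.id R A)) ^ n).ofConv

lemma comp_convPow {B : Type w} {B' : Type w'} [CommRing B] [CommRing B'] [Algebra R B]
    [Algebra R B'] (h : B →ₐ[R] B') (f : WithConv (A →ₐ[R] B)) (n : ℕ) :
    toConv (h.comp (f ^ n).ofConv) = (toConv (h.comp f.ofConv)) ^ n := by
  induction n with
  | zero =>
    rw [pow_zero, pow_zero, AlgHom.convOne_def, AlgHom.convOne_def, ofConv_toConv]
    congr 1
    ext a
    simp
  | succ n ih =>
    rw [pow_succ, pow_succ, AlgHom.comp_convMul_distrib, toConv_ofConv, ih]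

lemma convPow_comp_bialgHom {A' : Type w} [CommRing A'] [Bialgebra R A'] {B : Type w'}
    [CommRing B] [Algebra R B] (f : WithConv (A →ₐ[R] B)) (q : A' →ₐc[R] A) (n : ℕ) :
    toConv ((f ^ n).ofConv.comp (q : A' →ₐ[R] A)) =
      (toConv (f.ofConv.comp (q : A' →ₐ[R] A))) ^ n := by
  induction n with
  | zero =>
    rw [pow_zero, pow_zero, AlgHom.convOne_def, AlgHom.convOne_def, ofConv_toConv]
    congr 1
    ext a
    simp
  | succ n ih =>
    rw [pow_succ, pow_succ, AlgHom.convMul_comp_bialgHom_distrib, toConv_ofConv, ih]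

lemma psi_mul (a b : ℕ) : psi R A (a * b) = (psi R A a).comp (psi R A b) := by
  have h := comp_convPow (psi R A a) (toConv (AlgHom.id R A)) b
  rw [ofConv_toConv, AlgHom.comp_id] at h
  have h2 : toConv (psi R A a) = (toConv (AlgHom.id R A)) ^ a := by
    unfold psi
    rw [toConv_ofConv]
  rw [h2, ← pow_mul] at h
  have h3 := congrArg ofConv h
  rw [ofConv_toConv] at h3
  exact h3.symm

lemma psi_one : psi R A 1 = AlgHom.id R A := by
  unfold psi
  rw [pow_one, ofConv_toConv]

end Conv

section Field
variable {k : Type u} [Field k] {A : Type v} [CommRing A] [Bialgebra k A]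

lemma convMul_mem_pow (I : Ideal A) (f g : WithConv (A →ₗ[k] A)) (a b : ℕ)
    (hf : ∀ x, f x ∈ I ^ a) (hg : ∀ x, g x ∈ I ^ b) : ∀ x, (f * g) x ∈ I ^ (a + b) := by
  intro x
  rw [LinearMap.convMul_apply]
  generalize Coalgebra.comul (R := k) x = t
  induction t using TensorProduct.induction_on with
  | zero => simp
  | tmul u v =>
    rw [TensorProduct.map_tmul, LinearMap.mul'_apply, pow_add]
    exact Ideal.mul_mem_mul (hf u) (hg v)
  | add s t hs ht =>
    rw [map_add, map_add]
    exact Ideal.add_mem _ hs ht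

lemma convPow_mem_pow (I : Ideal A) (f : WithConv (A →ₗ[k] A)) (hf : ∀ x, f x ∈ I) :
    ∀ (n : ℕ) (x : A), (f ^ n) x ∈ I ^ n := by
  intro n
  induction n with
  | zero =>
    intro x
    rw [pow_zero, Ideal.one_eq_top]
    trivial
  | succ n ih =>
    intro x
    rw [pow_succ]
    exact convMul_mem_pow I (f ^ n) f n 1 ih (by simpa using hf) x

lemma psi_apply (n : ℕ) (x : A) :
    psi k A n x = ((toConv (LinearMap.id : A →ₗ[k] A)) ^ n) x := by
  have h := AlgHom.toLinearMap_convPow (toConv (AlgHom.id k A)) n
  rw [ofConv_toConv, AlgHom.toLinearMap_id] at h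
  rw [← h]
  rfl

theorem psi_char_sub_mem (p : ℕ) [Fact p.Prime] [CharP k p] (x : A) :
    psi k A p x - algebraMap k A (Coalgebra.counit (R := k) x) ∈
      (RingHom.ker (Bialgebra.counitAlgHom k A)) ^ p := by
  haveI : Nontrivial A := (Bialgebra.counitAlgHom k A : A →+* k).domain_nontrivial
  haveI : Nontrivial (WithConv (A →ₗ[k] A)) := by
    refine ⟨⟨0, 1, fun h => ?_⟩⟩
    have h2 := congrArg (fun f : WithConv (A →ₗ[k] A) => f (1 : A)) h
    simp at h2
  haveI : CharP (WithConv (A →ₗ[k] A)) p :=
    charP_of_injective_algebraMap (algebraMap k (WithConv (A →ₗ[k] A))).injective p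
  set ι : WithConv (A →ₗ[k] A) := toConv (LinearMap.id : A →ₗ[k] A) with hι
  have h1 : (ι - 1) ^ p = ι ^ p - 1 := by
    rw [sub_pow_char_of_commute p (Commute.one_right ι), one_pow]
  have hπ : ∀ y, (ι - 1) y ∈ RingHom.ker (Bialgebra.counitAlgHom k A) := by
    intro y
    have e : (ι - 1) y = y - algebraMap k A (Coalgebra.counit (R := k) y) := rfl
    rw [e, RingHom.mem_ker, map_sub, AlgHom.commutes]
    simp
  have h2 := convPow_mem_pow _ (ι - 1) hπ p x
  rw [h1] at h2
  have e : (ι ^ p - 1) x = psi k A p x - algebraMap k A (Coalgebra.counit (R := k) x) := by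
    rw [psi_apply]
    rfl
  rw [e] at h2
  exact h2

theorem map_psi_char_le (p : ℕ) [Fact p.Prime] [CharP k p] :
    Ideal.map (psi k A p) (RingHom.ker (Bialgebra.counitAlgHom k A)) ≤
      (RingHom.ker (Bialgebra.counitAlgHom k A)) ^ p := by
  rw [Ideal.map_le_iff_le_comap]
  intro x hx
  rw [Ideal.mem_comap]
  have h := psi_char_sub_mem (k := k) p x
  have hx' : Coalgebra.counit (R := k) x = 0 := by
    have := (RingHom.mem_ker (f := Bialgebra.counitAlgHom k A)).mp hx
    exact this
  rwa [hx', map_zero, sub_zero] at h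

theorem map_psi_pow_le (q : ℕ) [hq : ExpChar k q] (r : ℕ) :
    Ideal.map (psi k A (q ^ r)) (RingHom.ker (Bialgebra.counitAlgHom k A)) ≤
      (RingHom.ker (Bialgebra.counitAlgHom k A)) ^ (q ^ r) := by
  have hone : Ideal.map (psi k A 1) (RingHom.ker (Bialgebra.counitAlgHom k A)) ≤
      (RingHom.ker (Bialgebra.counitAlgHom k A)) ^ 1 := by
    rw [psi_one, pow_one]
    exact le_of_eq (Ideal.map_id _)
  cases hq with
  | zero =>
    rw [one_pow]
    exact hone
  | prime hprime =>
    haveI := Fact.mk hprime
    induction r with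
    | zero =>
      rw [pow_zero]
      exact hone
    | succ r ih =>
      rw [pow_succ', psi_mul]
      have e : Ideal.map ((psi k A q).comp (psi k A (q ^ r)))
          (RingHom.ker (Bialgebra.counitAlgHom k A)) =
          Ideal.map (psi k A q) (Ideal.map (psi k A (q ^ r))
            (RingHom.ker (Bialgebra.counitAlgHom k A))) := by
        exact (Ideal.map_map (psi k A (q ^ r)).toRingHom (psi k A q).toRingHom).symm
      rw [e]
      calc Ideal.map (psi k A q) (Ideal.map (psi k A (q ^ r))
            (RingHom.ker (Bialgebra.counitAlgHom k A)))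
          ≤ Ideal.map (psi k A q) ((RingHom.ker (Bialgebra.counitAlgHom k A)) ^ (q ^ r)) :=
            Ideal.map_mono ih
        _ = (Ideal.map (psi k A q) (RingHom.ker (Bialgebra.counitAlgHom k A))) ^ (q ^ r) :=
            Ideal.map_pow _ _ _
        _ ≤ ((RingHom.ker (Bialgebra.counitAlgHom k A)) ^ q) ^ (q ^ r) :=
            Ideal.pow_right_mono (map_psi_char_le q) _
        _ = (RingHom.ker (Bialgebra.counitAlgHom k A)) ^ (q * q ^ r) := (pow_mul _ _ _).symm

theorem convPow_eq_one_of_pow_eq_bot (N : ℕ)
    (hmap : Ideal.map (psi k A N) (RingHom.ker (Bialgebra.counitAlgHom k A)) ≤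
      (RingHom.ker (Bialgebra.counitAlgHom k A)) ^ N)
    (hbot : (RingHom.ker (Bialgebra.counitAlgHom k A)) ^ N = ⊥) :
    (toConv (AlgHom.id k A)) ^ N = 1 := by
  apply WithConv.ofConv_injective
  apply AlgHom.ext
  intro x
  show psi k A N x = algebraMap k A (Coalgebra.counit (R := k) x)
  have hx : x - algebraMap k A (Coalgebra.counit (R := k) x) ∈
      RingHom.ker (Bialgebra.counitAlgHom k A) := by
    rw [RingHom.mem_ker, map_sub, AlgHom.commutes]
    simp
  have h1 : psi k A N (x - algebraMap k A (Coalgebra.counit (R := k) x)) ∈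
      (RingHom.ker (Bialgebra.counitAlgHom k A)) ^ N := hmap (Ideal.mem_map_of_mem _ hx)
  rw [hbot, Ideal.mem_bot, map_sub, AlgHom.commutes, sub_eq_zero] at h1
  exact h1

/-- A finite-dimensional commutative bialgebra with nilpotent augmentation ideal is killed by its
dimension. -/
theorem convPow_finrank_eq_one_of_nil [Module.Finite k A]
    (hnil : ∀ b : A, Coalgebra.counit (R := k) b = 0 → IsNilpotent b) :
    (toConv (AlgHom.id k A)) ^ (Module.finrank k A) = 1 := by
  obtain ⟨r, hr⟩ := exists_finrank_eq_ringExpChar_pow A hnil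
  have hbot : (RingHom.ker (Bialgebra.counitAlgHom k A)) ^ (Module.finrank k A) = ⊥ :=
    pow_finrank_eq_bot (k := k) _ (exists_ker_pow_eq_bot (Bialgebra.counitAlgHom k A) hnil)
  rw [hr] at hbot ⊢
  exact convPow_eq_one_of_pow_eq_bot _ (map_psi_pow_le (ringExpChar k) r) hbot

end Field

end Groth.Agent.H1.FinHopf
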