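import Groth.Agent.H1.FinHopf.BaseChangeRing

set_option autoImplicit false
set_option linter.unusedSectionVars false
set_option linter.style.haveILetI false
universe u v w x

namespace Groth.Agent.H1.FinHopf

open WithConv TensorProduct

section Deligne
variable {R : Type u} [CommRing R] {A : Type v} [CommRing A] [HopfAlgebra R A]
  [Coalgebra.IsCocomm R A] {K : Type w} [CommRing K] [Algebra R K]

/-- the ring map `Hom(A, K) → Hom(A, K ⊗ A)`, `β ↦ (x ↦ β x ⊗ 1)` -/
noncomputable def iotaBE : WithConv (A →ₗ[R] K) →+* WithConv (A →ₗ[R] K ⊗[R] A) where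
  toFun β := toConv
    ((Algebra.TensorProduct.includeLeft : K →ₐ[R] K ⊗[R] A).toLinearMap ∘ₗ β.ofConv)
  map_one' := by
    apply WithConv.ofConv_injective
    apply LinearMap.ext
    intro x
    exact (Algebra.TensorProduct.includeLeft : K →ₐ[R] K ⊗[R] A).commutes _
  map_mul' f g := by
    apply WithConv.ofConv_injective
    exact LinearMap.algHom_comp_convMul_distrib _ f g
  map_zero' := by
    apply WithConv.ofConv_injective
    simp
  map_add' f g := by
    apply WithConv.ofConv_injective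
    simp [LinearMap.comp_add]

lemma iotaBE_apply (β : WithConv (A →ₗ[R] K)) (x : A) :
    (iotaBE β).ofConv x = β.ofConv x ⊗ₜ[R] (1 : A) := rfl

@[reducible] noncomputable def algBE :
    Algebra (WithConv (A →ₗ[R] K)) (WithConv (A →ₗ[R] K ⊗[R] A)) :=
  (iotaBE (R := R) (A := A) (K := K)).toAlgebra

attribute [local instance] algBE

lemma comp_iota_mul (φ : K ⊗[R] A →ₗ[R] K)
    (hφ : ∀ (c : K) (w : K ⊗[R] A), φ (c • w) = c * φ w)
    (β : WithConv (A →ₗ[R] K)) (f : WithConv (A →ₗ[R] K ⊗[R] A)) :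
    toConv (φ ∘ₗ (iotaBE β * f).ofConv) = β * toConv (φ ∘ₗ f.ofConv) := by
  apply WithConv.ofConv_injective
  apply LinearMap.ext
  intro x
  show φ ((iotaBE β * f) x) = (β * toConv (φ ∘ₗ f.ofConv)) x
  rw [LinearMap.convMul_apply, LinearMap.convMul_apply]
  generalize Coalgebra.comul (R := R) x = t
  induction t using TensorProduct.induction_on with
  | zero => simp
  | tmul y z =>
    simp only [TensorProduct.map_tmul, LinearMap.mul'_apply]
    show φ ((β.ofConv y ⊗ₜ[R] (1 : A)) * f.ofConv z) = β.ofConv y * φ (f.ofConv z)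
    rw [← hφ]
    congr 1
    rw [Algebra.smul_def, Algebra.TensorProduct.algebraMap_apply]
    rfl
  | add t₁ t₂ h₁ h₂ => simp only [map_add, h₁, h₂]

variable {ι : Type x} [Fintype ι] (a : Module.Basis ι R A)

/-- coordinate functionals `K ⊗ A → K` -/
noncomputable def phiC (i : ι) : K ⊗[R] A →ₗ[R] K :=
  (TensorProduct.rid R K).toLinearMap ∘ₗ (LinearMap.lTensor K (a.coord i))

lemma phiC_tmul (i : ι) (c : K) (y : A) : phiC a i (c ⊗ₜ[R] y) = a.coord i y • c := by
  simp [phiC]

lemma phiC_smul (i : ι) (c : K) (w : K ⊗[R] A) : phiC a i (c • w) = c * phiC a i w := by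
  induction w using TensorProduct.induction_on with
  | zero => simp
  | tmul c' y => rw [TensorProduct.smul_tmul', phiC_tmul, phiC_tmul, smul_eq_mul, mul_smul_comm]
  | add w₁ w₂ h₁ h₂ => rw [smul_add, map_add, map_add, h₁, h₂, mul_add]

lemma sum_phiC_tmul (w : K ⊗[R] A) : ∑ i, phiC a i w ⊗ₜ[R] a i = w := by
  induction w using TensorProduct.induction_on with
  | zero => simp
  | tmul c y =>
    simp only [phiC_tmul]
    have h1 : ∀ i, (a.coord i y • c) ⊗ₜ[R] a i = c ⊗ₜ[R] (a.coord i y • a i) := by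
      intro i
      rw [TensorProduct.smul_tmul]
    simp only [h1]
    rw [← TensorProduct.tmul_sum]
    congr 1
    exact a.sum_repr y
  | add w₁ w₂ h₁ h₂ =>
    simp only [map_add, TensorProduct.add_tmul, Finset.sum_add_distrib, h₁, h₂]

noncomputable def equivFunBE : WithConv (A →ₗ[R] K ⊗[R] A) ≃ₗ[WithConv (A →ₗ[R] K)]
    (ι → WithConv (A →ₗ[R] K)) where
  toFun f i := toConv (phiC a i ∘ₗ f.ofConv)
  invFun g := toConv (∑ i, ((TensorProduct.mk R K A).flip (a i)) ∘ₗ (g i).ofConv)
  map_add' f g := by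
    funext i
    apply WithConv.ofConv_injective
    simp [LinearMap.comp_add]
  map_smul' β f := by
    funext i
    show toConv (phiC a i ∘ₗ (iotaBE β * f).ofConv) = β * toConv (phiC a i ∘ₗ f.ofConv)
    exact comp_iota_mul (phiC a i) (phiC_smul a i) β f
  left_inv f := by
    apply WithConv.ofConv_injective
    apply LinearMap.ext
    intro y
    show (∑ i, ((TensorProduct.mk R K A).flip (a i)) ∘ₗ (phiC a i ∘ₗ f.ofConv)) y = f.ofConv y
    rw [LinearMap.sum_apply]
    exact sum_phiC_tmul a (f.ofConv y)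
  right_inv g := by
    classical
    funext j
    apply WithConv.ofConv_injective
    apply LinearMap.ext
    intro y
    show phiC a j ((∑ i, ((TensorProduct.mk R K A).flip (a i)) ∘ₗ (g i).ofConv) y) =
      (g j).ofConv y
    rw [LinearMap.sum_apply, map_sum, Finset.sum_eq_single j]
    · rw [LinearMap.comp_apply, LinearMap.flip_apply, TensorProduct.mk_apply, phiC_tmul,
        Module.Basis.coord_apply, Module.Basis.repr_self, Finsupp.single_eq_same, one_smul]
    · intro i _ hij
      rw [LinearMap.comp_apply, LinearMap.flip_apply, TensorProduct.mk_apply, phiC_tmul,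
        Module.Basis.coord_apply, Module.Basis.repr_self, Finsupp.single_apply, if_neg hij,
        zero_smul]
    · intro h
      exact absurd (Finset.mem_univ j) h

/-- `G(K) → G(K ⊗ A)` -/
noncomputable def jL (u : WithConv (A →ₐ[R] K)) : WithConv (A →ₐ[R] K ⊗[R] A) :=
  toConv ((Algebra.TensorProduct.includeLeft : K →ₐ[R] K ⊗[R] A).comp u.ofConv)

lemma jL_mul (u v : WithConv (A →ₐ[R] K)) : jL (u * v) = jL u * jL v := by
  apply WithConv.ofConv_injective
  exact AlgHom.comp_convMul_distrib _ u v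

lemma jL_one : jL (1 : WithConv (A →ₐ[R] K)) = 1 := by
  apply WithConv.ofConv_injective
  apply AlgHom.ext
  intro y
  exact (Algebra.TensorProduct.includeLeft : K →ₐ[R] K ⊗[R] A).commutes _

/-- the universal point -/
noncomputable def thetaG : WithConv (A →ₐ[R] K ⊗[R] A) :=
  toConv Algebra.TensorProduct.includeRight

/-- translation by `u` on `K ⊗ A` -/
noncomputable def TT (u : WithConv (A →ₐ[R] K)) : K ⊗[R] A →ₐ[R] K ⊗[R] A :=
  Algebra.TensorProduct.lift (Algebra.TensorProduct.includeLeft : K →ₐ[R] K ⊗[R] A)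
    (jL u * thetaG).ofConv (fun _ _ => Commute.all _ _)

lemma TT_tmul (u : WithConv (A →ₐ[R] K)) (c : K) (y : A) :
    TT u (c ⊗ₜ[R] y) = (c ⊗ₜ[R] (1 : A)) * (jL u * thetaG).ofConv y := rfl

lemma TT_comp_incL (u : WithConv (A →ₐ[R] K)) :
    (TT u).comp (Algebra.TensorProduct.includeLeft : K →ₐ[R] K ⊗[R] A) =
      Algebra.TensorProduct.includeLeft :=
  Algebra.TensorProduct.lift_comp_includeLeft _ _ _

lemma TT_comp_incR (u : WithConv (A →ₐ[R] K)) :
    (TT u).comp (Algebra.TensorProduct.includeRight : A →ₐ[R] K ⊗[R] A) =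
      (jL u * thetaG).ofConv :=
  Algebra.TensorProduct.lift_comp_includeRight' _ _ _

lemma TT_incL (u : WithConv (A →ₐ[R] K)) (c : K) :
    TT u (c ⊗ₜ[R] (1 : A)) = c ⊗ₜ[R] (1 : A) :=
  AlgHom.congr_fun (TT_comp_incL u) c

lemma TT_comp_conv (u : WithConv (A →ₐ[R] K)) (f g : WithConv (A →ₐ[R] K ⊗[R] A)) :
    toConv ((TT u).comp (f * g).ofConv) =
      toConv ((TT u).comp f.ofConv) * toConv ((TT u).comp g.ofConv) := by
  apply WithConv.ofConv_injective
  exact AlgHom.comp_convMul_distrib _ f g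

lemma TT_comp_jL (u v : WithConv (A →ₐ[R] K)) : toConv ((TT u).comp (jL v).ofConv) = jL v := by
  apply WithConv.ofConv_injective
  show (TT u).comp ((Algebra.TensorProduct.includeLeft : K →ₐ[R] K ⊗[R] A).comp v.ofConv) =
    (Algebra.TensorProduct.includeLeft : K →ₐ[R] K ⊗[R] A).comp v.ofConv
  rw [← AlgHom.comp_assoc, TT_comp_incL]

lemma TT_comp_theta (u : WithConv (A →ₐ[R] K)) :
    toConv ((TT u).comp (thetaG (R := R) (A := A) (K := K)).ofConv) = jL u * thetaG := by
  apply WithConv.ofConv_injective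
  exact TT_comp_incR u

lemma TT_comp (u v : WithConv (A →ₐ[R] K)) : (TT u).comp (TT v) = TT (v * u) := by
  have h1 : (TT u).comp (jL v * thetaG).ofConv = (jL (v * u) * thetaG).ofConv := by
    have h2 := TT_comp_conv u (jL v) thetaG
    rw [TT_comp_jL, TT_comp_theta, ← mul_assoc, ← jL_mul] at h2
    exact congrArg WithConv.ofConv h2
  apply Algebra.TensorProduct.ext'
  intro c y
  show TT u (TT v (c ⊗ₜ[R] y)) = TT (v * u) (c ⊗ₜ[R] y)
  rw [TT_tmul, TT_tmul, map_mul, TT_incL]
  congr 1
  exact AlgHom.congr_fun h1 y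

lemma TT_one : TT (1 : WithConv (A →ₐ[R] K)) = AlgHom.id R (K ⊗[R] A) := by
  apply Algebra.TensorProduct.ext'
  intro c y
  rw [TT_tmul, jL_one, one_mul]
  show (c ⊗ₜ[R] (1 : A)) * ((1 : K) ⊗ₜ[R] y) = c ⊗ₜ[R] y
  rw [Algebra.TensorProduct.tmul_mul_tmul, mul_one, one_mul]

/-- post-composition with the translation, as an algebra endomorphism of `Hom(A, K ⊗ A)` -/
noncomputable def PhiHom (u : WithConv (A →ₐ[R] K)) :
    WithConv (A →ₗ[R] K ⊗[R] A) →ₐ[WithConv (A →ₗ[R] K)] WithConv (A →ₗ[R] K ⊗[R] A) where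
  toFun f := toConv ((TT u).toLinearMap ∘ₗ f.ofConv)
  map_one' := by
    apply WithConv.ofConv_injective
    apply LinearMap.ext
    intro y
    exact (TT u).commutes _
  map_mul' f g := by
    apply WithConv.ofConv_injective
    exact LinearMap.algHom_comp_convMul_distrib (TT u) f g
  map_zero' := by
    apply WithConv.ofConv_injective
    simp
  map_add' f g := by
    apply WithConv.ofConv_injective
    simp [LinearMap.comp_add]
  commutes' β := by
    apply WithConv.ofConv_injective
    apply LinearMap.ext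
    intro y
    show TT u ((β.ofConv y) ⊗ₜ[R] (1 : A)) = (β.ofConv y) ⊗ₜ[R] (1 : A)
    exact TT_incL u _

lemma PhiHom_apply (u : WithConv (A →ₐ[R] K)) (f : WithConv (A →ₗ[R] K ⊗[R] A)) :
    PhiHom u f = toConv ((TT u).toLinearMap ∘ₗ f.ofConv) := rfl

lemma PhiHom_comp (u v : WithConv (A →ₐ[R] K)) :
    (PhiHom u).comp (PhiHom v) = PhiHom (v * u) := by
  apply AlgHom.ext
  intro f
  show toConv ((TT u).toLinearMap ∘ₗ ((TT v).toLinearMap ∘ₗ f.ofConv)) =
    toConv ((TT (v * u)).toLinearMap ∘ₗ f.ofConv)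
  rw [← TT_comp, ← LinearMap.comp_assoc]
  rfl

lemma PhiHom_one : PhiHom (1 : WithConv (A →ₐ[R] K)) = AlgHom.id _ _ := by
  apply AlgHom.ext
  intro f
  show toConv ((TT (1 : WithConv (A →ₐ[R] K))).toLinearMap ∘ₗ f.ofConv) = f
  rw [TT_one]
  rfl

/-- the inverse point -/
noncomputable def uinv (u : WithConv (A →ₐ[R] K)) : WithConv (A →ₐ[R] K) :=
  toConv (u.ofConv.comp (HopfAlgebra.antipodeAlgHom R A))

lemma comp_convOne (h : A →ₐ[R] K) :
    h.comp (1 : WithConv (A →ₐ[R] A)).ofConv = (1 : WithConv (A →ₐ[R] K)).ofConv := by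
  apply AlgHom.ext
  intro y
  exact h.commutes _

lemma uinv_mul (u : WithConv (A →ₐ[R] K)) : uinv u * u = 1 := by
  have h := AlgHom.comp_convMul_distrib u.ofConv (toConv (HopfAlgebra.antipodeAlgHom R A))
    (toConv (AlgHom.id R A))
  rw [AlgHom.antipode_id_cancel, comp_convOne] at h
  apply WithConv.ofConv_injective
  rw [h]
  rfl

lemma mul_uinv (u : WithConv (A →ₐ[R] K)) : u * uinv u = 1 := by
  rw [mul_comm]
  exact uinv_mul u

noncomputable def PhiEquiv (u : WithConv (A →ₐ[R] K)) :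
    WithConv (A →ₗ[R] K ⊗[R] A) ≃ₐ[WithConv (A →ₗ[R] K)] WithConv (A →ₗ[R] K ⊗[R] A) :=
  AlgEquiv.ofAlgHom (PhiHom u) (PhiHom (uinv u))
    (by rw [PhiHom_comp, uinv_mul, PhiHom_one])
    (by rw [PhiHom_comp, mul_uinv, PhiHom_one])

include a in
/-- **Deligne's theorem**, free case: a `K`-point of a commutative finite free group scheme of
order `n` is killed by `n`. -/
theorem convPow_card_eq_one (u : WithConv (A →ₐ[R] K)) : u ^ Fintype.card ι = 1 := by
  classical
  set bas : Module.Basis ι (WithConv (A →ₗ[R] K)) (WithConv (A →ₗ[R] K ⊗[R] A)) :=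
    Module.Basis.ofEquivFun (equivFunBE a) with hbas
  set θ : WithConv (A →ₗ[R] K ⊗[R] A) :=
    toConv (Algebra.TensorProduct.includeRight : A →ₐ[R] K ⊗[R] A).toLinearMap with hθdef
  set θ' : WithConv (A →ₗ[R] K ⊗[R] A) :=
    toConv ((Algebra.TensorProduct.includeRight : A →ₐ[R] K ⊗[R] A).toLinearMap ∘ₗ
      HopfAlgebra.antipode R (A := A)) with hθ'def
  set u' : WithConv (A →ₗ[R] K) := toConv u.ofConv.toLinearMap with hu'
  have hθ : θ * θ' = 1 := by
    have h := LinearMap.algHom_comp_convMul_distrib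
      (Algebra.TensorProduct.includeRight : A →ₐ[R] K ⊗[R] A)
      (toConv (LinearMap.id : A →ₗ[R] A)) (toConv (HopfAlgebra.antipode R (A := A)))
    rw [LinearMap.id_mul_antipode, WithConv.ofConv_toConv, WithConv.ofConv_toConv,
      LinearMap.comp_id] at h
    apply WithConv.ofConv_injective
    rw [← h]
    apply LinearMap.ext
    intro y
    exact (Algebra.TensorProduct.includeRight : A →ₐ[R] K ⊗[R] A).commutes _
  have hΦθ : PhiEquiv u θ = algebraMap (WithConv (A →ₗ[R] K)) (WithConv (A →ₗ[R] K ⊗[R] A)) u' * θ := by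
    show toConv ((TT u).toLinearMap ∘ₗ
        (Algebra.TensorProduct.includeRight : A →ₐ[R] K ⊗[R] A).toLinearMap) = iotaBE u' * θ
    have h1 : (TT u).toLinearMap ∘ₗ
        (Algebra.TensorProduct.includeRight : A →ₐ[R] K ⊗[R] A).toLinearMap =
        (jL u * thetaG).ofConv.toLinearMap := by
      rw [← TT_comp_incR]
      rfl
    rw [h1]
    rfl
  have hN : Algebra.norm (WithConv (A →ₗ[R] K)) θ =
      u' ^ Fintype.card ι * Algebra.norm (WithConv (A →ₗ[R] K)) θ := by
    calc Algebra.norm (WithConv (A →ₗ[R] K)) θ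
        = Algebra.norm (WithConv (A →ₗ[R] K)) (PhiEquiv u θ) :=
          (Algebra.norm_eq_of_algEquiv (PhiEquiv u) θ).symm
      _ = u' ^ Fintype.card ι * Algebra.norm (WithConv (A →ₗ[R] K)) θ := by
          rw [hΦθ, map_mul, Algebra.norm_algebraMap_of_basis bas]
  have hunit : Algebra.norm (WithConv (A →ₗ[R] K)) θ * Algebra.norm (WithConv (A →ₗ[R] K)) θ' = 1 := by
    rw [← map_mul, hθ, map_one]
  have hpow : u' ^ Fintype.card ι = 1 := by
    calc u' ^ Fintype.card ι
        = u' ^ Fintype.card ι * (Algebra.norm (WithConv (A →ₗ[R] K)) θ *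
            Algebra.norm (WithConv (A →ₗ[R] K)) θ') := by rw [hunit, mul_one]
      _ = (u' ^ Fintype.card ι * Algebra.norm (WithConv (A →ₗ[R] K)) θ) *
            Algebra.norm (WithConv (A →ₗ[R] K)) θ' := by ring
      _ = Algebra.norm (WithConv (A →ₗ[R] K)) θ * Algebra.norm (WithConv (A →ₗ[R] K)) θ' := by
          rw [← hN]
      _ = 1 := hunit
  have h3 := AlgHom.toLinearMap_convPow u (Fintype.card ι)
  rw [← hu', hpow] at h3
  apply WithConv.ofConv_injective
  apply AlgHom.toLinearMap_injective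
  apply WithConv.toConv_injective
  rw [h3]
  rfl

end Deligne

end Groth.Agent.H1.FinHopf
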