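import Mathlib

set_option autoImplicit false
universe u v w

namespace Groth.Agent.H1.FinHopf

open Finset

section Mon
variable {B : Type v} [CommRing B] {ι : Type w} [Fintype ι] [DecidableEq ι]

/-- monomial in the `x j` with exponent vector `α` -/
def mon (x : ι → B) (α : ι → ℕ) : B := ∏ j, x j ^ α j

lemma mon_zero (x : ι → B) : mon x (fun _ => 0) = 1 := by simp [mon]

lemma mon_split (x : ι → B) (α : ι → ℕ) (i : ι) :
    mon x α = x i ^ α i * ∏ j ∈ univ.erase i, x j ^ α j := by
  unfold mon
  rw [Finset.mul_prod_erase univ (fun j => x j ^ α j) (Finset.mem_univ i)]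

lemma mon_update (x : ι → B) (α : ι → ℕ) (i : ι) (m : ℕ) :
    mon x (Function.update α i m) = x i ^ m * ∏ j ∈ univ.erase i, x j ^ α j := by
  rw [mon_split x _ i, Function.update_self]
  congr 1
  apply Finset.prod_congr rfl
  intro j hj
  rw [Function.update_of_ne (Finset.ne_of_mem_erase hj)]

/-- decrement the `i`-th exponent -/
def dec (α : ι → ℕ) (i : ι) : ι → ℕ := Function.update α i (α i - 1)
/-- increment the `i`-th exponent -/
def inc (α : ι → ℕ) (i : ι) : ι → ℕ := Function.update α i (α i + 1)

lemma inc_dec (α : ι → ℕ) (i : ι) (h : 0 < α i) : inc (dec α i) i = α := by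
  unfold inc dec
  rw [Function.update_self, Function.update_idem, Nat.sub_add_cancel h, Function.update_eq_self]

lemma dec_apply_le (α : ι → ℕ) (i j : ι) : dec α i j ≤ α j := by
  unfold dec
  by_cases h : j = i
  · subst h; rw [Function.update_self]; exact Nat.sub_le _ _
  · rw [Function.update_of_ne h]

lemma sum_dec (α : ι → ℕ) (i : ι) (h : 0 < α i) : ∑ j, dec α i j + 1 = ∑ j, α j := by
  rw [← Finset.add_sum_erase univ (dec α i) (Finset.mem_univ i),
    ← Finset.add_sum_erase univ α (Finset.mem_univ i)]
  have h1 : ∑ j ∈ univ.erase i, dec α i j = ∑ j ∈ univ.erase i, α j := by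
    apply Finset.sum_congr rfl
    intro j hj
    unfold dec
    rw [Function.update_of_ne (Finset.ne_of_mem_erase hj)]
  rw [h1]
  unfold dec
  rw [Function.update_self]
  omega

variable {k : Type u} [CommRing k] [Algebra k B]

lemma deriv_prod_eq_zero (D : Derivation k B B) (s : Finset ι) (f : ι → B)
    (h : ∀ j ∈ s, D (f j) = 0) : D (∏ j ∈ s, f j) = 0 := by
  induction s using Finset.induction_on with
  | empty => simp
  | insert a s ha ih =>
    rw [Finset.prod_insert ha, Derivation.leibniz, h a (Finset.mem_insert_self a s),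
      ih (fun j hj => h j (Finset.mem_insert_of_mem hj))]
    simp

lemma deriv_mon (D : Derivation k B B) (x : ι → B) (i : ι)
    (hD : ∀ j, D (x j) = if i = j then 1 else 0) (α : ι → ℕ) :
    D (mon x α) = (α i : B) * mon x (dec α i) := by
  unfold dec
  rw [mon_split x α i, mon_update x α i, Derivation.leibniz, Derivation.leibniz_pow]
  have h0 : D (∏ j ∈ univ.erase i, x j ^ α j) = 0 := by
    apply deriv_prod_eq_zero
    intro j hj
    rw [Derivation.leibniz_pow, hD j, if_neg (Finset.ne_of_mem_erase hj).symm]
    simp
  rw [h0, hD i, if_pos rfl]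
  simp only [smul_eq_mul, mul_zero, zero_add, mul_one, nsmul_eq_mul]
  ring

/-- Monomials are linearly independent over the constants of a system of derivations dual to
the variables, as long as the exponents that occur are units. -/
theorem indep_of_deriv (D : ι → Derivation k B B) (x : ι → B)
    (hD : ∀ i j, D i (x j) = if i = j then 1 else 0)
    (N : ℕ) (hN : ∀ m : ℕ, 0 < m → m < N → IsUnit (m : B)) :
    ∀ (d : ℕ) (S : Finset (ι → ℕ)) (g : (ι → ℕ) → B),
      (∀ α ∈ S, ∑ i, α i ≤ d) → (∀ α ∈ S, ∀ i, α i < N) → (∀ α i, D i (g α) = 0) →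
      ∑ α ∈ S, g α * mon x α = 0 → ∀ α ∈ S, g α = 0 := by
  have fin : ∀ (S : Finset (ι → ℕ)) (g : (ι → ℕ) → B),
      ∑ α ∈ S, g α * mon x α = 0 →
      (∀ α ∈ S, ∀ i, 0 < α i → g α = 0) → ∀ α ∈ S, g α = 0 := by
    intro S g hR hA α hα
    by_cases h : ∃ i, 0 < α i
    · obtain ⟨i, hi⟩ := h
      exact hA α hα i hi
    · push Not at h
      have hα0 : α = fun _ => 0 := funext fun i => Nat.le_zero.mp (h i)
      have hsum : ∑ β ∈ S, g β * mon x β = g α * mon x α := by
        apply Finset.sum_eq_single_of_mem α hα
        intro β hβ hne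
        have : ∃ i, 0 < β i := by
          by_contra hcon
          push Not at hcon
          apply hne
          rw [hα0]
          exact funext fun i => Nat.le_zero.mp (hcon i)
        obtain ⟨i, hi⟩ := this
        rw [hA β hβ i hi, zero_mul]
      rw [hsum, hα0, mon_zero, mul_one] at hR
      rw [← hα0] at hR
      exact hR
  intro d
  induction d with
  | zero =>
    intro S g hdeg _ _ hR
    apply fin S g hR
    intro α hα i hi
    exfalso
    have h1 := hdeg α hα
    have h2 : α i ≤ ∑ j, α j := Finset.single_le_sum (fun _ _ => Nat.zero_le _) (Finset.mem_univ i)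
    omega
  | succ d ih =>
    intro S g hdeg hbox hconst hR
    apply fin S g hR
    intro α₀ hα₀ i hi₀
    -- apply `D i` to the relation
    have h1 : ∑ α ∈ S, g α * ((α i : B) * mon x (dec α i)) = 0 := by
      have h2 := congrArg (D i) hR
      rw [map_sum, map_zero] at h2
      rw [← h2]
      apply Finset.sum_congr rfl
      intro α _
      rw [Derivation.leibniz, hconst α i, deriv_mon (D i) x i (hD i)]
      simp
    set Si := S.filter (fun α => 0 < α i) with hSi
    have h3 : ∑ α ∈ Si, g α * ((α i : B) * mon x (dec α i)) = 0 := by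
      rw [← h1, hSi]
      apply Finset.sum_filter_of_ne
      intro α _ hne
      by_contra hcon
      apply hne
      have : α i = 0 := by omega
      rw [this]
      simp
    have hinj : Set.InjOn (fun α => dec α i) (Si : Set (ι → ℕ)) := by
      intro α hα β hβ hab
      have ha : 0 < α i := (Finset.mem_filter.mp hα).2
      have hb : 0 < β i := (Finset.mem_filter.mp hβ).2
      have hab' : dec α i = dec β i := hab
      rw [← inc_dec α i ha, ← inc_dec β i hb, hab']
    set g' : (ι → ℕ) → B := fun β => ((β i + 1 : ℕ) : B) * g (inc β i) with hg'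
    have h4 : ∑ β ∈ Si.image (fun α => dec α i), g' β * mon x β = 0 := by
      rw [Finset.sum_image hinj, ← h3]
      apply Finset.sum_congr rfl
      intro α hα
      have ha : 0 < α i := (Finset.mem_filter.mp hα).2
      have e1 : dec α i i + 1 = α i := by
        unfold dec
        rw [Function.update_self]
        omega
      rw [hg']
      simp only
      rw [inc_dec α i ha, e1]
      ring
    have h5 := ih (Si.image (fun α => dec α i)) g' ?_ ?_ ?_ h4
    · have h6 := h5 (dec α₀ i) (Finset.mem_image_of_mem _ (Finset.mem_filter.mpr ⟨hα₀, hi₀⟩))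
      rw [hg'] at h6
      simp only at h6
      rw [inc_dec α₀ i hi₀] at h6
      have e1 : dec α₀ i i + 1 = α₀ i := by
        unfold dec
        rw [Function.update_self]
        omega
      rw [e1] at h6
      exact (hN (α₀ i) hi₀ (hbox α₀ hα₀ i)).mul_right_eq_zero.mp h6
    · intro β hβ
      obtain ⟨α, hα, rfl⟩ := Finset.mem_image.mp hβ
      have ha : 0 < α i := (Finset.mem_filter.mp hα).2
      have := hdeg α (Finset.mem_filter.mp hα).1
      have := sum_dec α i ha
      omega
    · intro β hβ j
      obtain ⟨α, hα, rfl⟩ := Finset.mem_image.mp hβ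
      exact lt_of_le_of_lt (dec_apply_le α i j) (hbox α (Finset.mem_filter.mp hα).1 j)
    · intro β j
      rw [hg']
      simp only
      rw [Derivation.leibniz, hconst, Derivation.map_natCast]
      simp

end Mon

end Groth.Agent.H1.FinHopf
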