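import Groth.Agent.H1.FinHopf.Deriv

set_option autoImplicit false
set_option linter.unusedSectionVars false
universe u v w

namespace Groth.Agent.H1.FinHopf

open Finset

section Exact
variable {k : Type u} [CommRing k] {B : Type v} [CommRing B] [Algebra k B]
  {ι : Type w} [Fintype ι] [DecidableEq ι]

lemma derivation_sum_apply (s : Finset ι) (f : ι → Derivation k B B) (b : B) :
    (∑ l ∈ s, f l) b = ∑ l ∈ s, f l b := by
  induction s using Finset.induction_on with
  | empty => simp
  | insert a s ha ih => rw [Finset.sum_insert ha, Finset.sum_insert ha, Derivation.add_apply, ih]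

theorem exists_exact_deriv (ε : B →ₐ[k] k) (hnil : ∀ b, ε b = 0 → IsNilpotent b)
    (D : ι → Derivation k B B) (x : ι → B)
    (hD : ∀ i j, ε (D i (x j)) = if i = j then 1 else 0) :
    ∃ D' : ι → Derivation k B B, (∀ i j, D' i (x j) = if i = j then 1 else 0) ∧
      ∀ b, (∀ i, D i b = 0) → ∀ i, D' i b = 0 := by
  classical
  set M : Matrix ι ι B := fun i j => D i (x j) with hM
  have hdet1 : ε M.det = 1 := by
    have h1 : (ε : B →+* k) M.det = ((ε : B →+* k).mapMatrix M).det := RingHom.map_det _ _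
    have h2 : (ε : B →+* k).mapMatrix M = 1 := by
      ext i j
      simp only [RingHom.mapMatrix_apply, Matrix.map_apply, hM, RingHom.coe_coe, hD,
        Matrix.one_apply]
    rw [h2, Matrix.det_one] at h1
    exact h1
  have hunit : IsUnit M.det := by
    have h1 : IsNilpotent (M.det - 1) := hnil _ (by rw [map_sub, hdet1, map_one, sub_self])
    have h2 := h1.isUnit_add_one
    simpa using h2
  have hMu : IsUnit M := (Matrix.isUnit_iff_isUnit_det M).mpr hunit
  have hinv : M⁻¹ * M = 1 := Matrix.nonsing_inv_mul M hunit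
  set N : Matrix ι ι B := M⁻¹ with hN
  refine ⟨fun i => ∑ l, N i l • D l, ?_, ?_⟩
  · intro i j
    have h1 : (∑ l, N i l • D l) (x j) = ∑ l, N i l * D l (x j) := by
      rw [derivation_sum_apply]
      simp
    rw [h1]
    have h2 : (N * M) i j = ∑ l, N i l * D l (x j) := by
      rw [Matrix.mul_apply]
    rw [← h2, hinv, Matrix.one_apply]
  · intro b hb i
    have h1 : (∑ l, N i l • D l) b = ∑ l, N i l * D l b := by
      rw [derivation_sum_apply]
      simp
    rw [h1]
    apply Finset.sum_eq_zero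
    intro l _
    rw [hb l, mul_zero]

end Exact

section Gen
variable {k : Type u} [Field k] {B : Type v} [CommRing B] [Algebra k B]
  {ι : Type w} [Fintype ι]

theorem adjoin_eq_top_of_cotangent (ε : B →ₐ[k] k) (hnilp : ∃ m, (RingHom.ker ε) ^ m = ⊥)
    (x : ι → B)
    (hspan : ∀ v, ε v = 0 → ∃ c : ι → k, v - ∑ i, c i • x i ∈ (RingHom.ker ε) ^ 2) :
    Algebra.adjoin k (Set.range x) = ⊤ := by
  set V : Ideal B := RingHom.ker ε with hV
  set S := Algebra.adjoin k (Set.range x) with hS
  have hxS : ∀ i, x i ∈ S := fun i => Algebra.subset_adjoin ⟨i, rfl⟩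
  have T1 : ∀ a ∈ V, ∃ s ∈ S, a - s ∈ V ^ 2 := by
    intro a ha
    obtain ⟨c, hc⟩ := hspan a ((RingHom.mem_ker).mp ha)
    exact ⟨∑ i, c i • x i, Subalgebra.sum_mem _ (fun i _ => Subalgebra.smul_mem _ (hxS i) _), hc⟩
  have T : ∀ j : ℕ, ∀ a ∈ V ^ (j + 1), ∃ s ∈ S, a - s ∈ V ^ (j + 2) := by
    intro j
    induction j with
    | zero =>
      intro a ha
      rw [zero_add, pow_one] at ha
      exact T1 a ha
    | succ j ih =>
      intro a ha
      rw [pow_succ] at ha
      refine Submodule.smul_induction_on (p := fun a => ∃ s ∈ S, a - s ∈ V ^ (j + 1 + 2)) ha ?_ ?_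
      · intro r hr n hn
        obtain ⟨s₁, hs₁, h₁⟩ := ih r hr
        obtain ⟨s₂, hs₂, h₂⟩ := T1 n hn
        refine ⟨s₁ * s₂, Subalgebra.mul_mem _ hs₁ hs₂, ?_⟩
        have e : r • n - s₁ * s₂ = (r - s₁) * n + s₁ * (n - s₂) := by
          rw [smul_eq_mul]; ring
        rw [e]
        apply Ideal.add_mem
        · have : (r - s₁) * n ∈ V ^ (j + 2) * V := Ideal.mul_mem_mul h₁ hn
          rwa [← pow_succ] at this
        · have hs₁V : s₁ ∈ V ^ (j + 1) := by
            have h3 : r - s₁ ∈ V ^ (j + 1) := Ideal.pow_le_pow_right (by omega) h₁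
            have h4 : s₁ = r - (r - s₁) := by ring
            rw [h4]
            exact Ideal.sub_mem _ hr h3
          have : s₁ * (n - s₂) ∈ V ^ (j + 1) * V ^ 2 := Ideal.mul_mem_mul hs₁V h₂
          rwa [← pow_add] at this
      · rintro a b ⟨s, hs, h⟩ ⟨t, ht, h'⟩
        refine ⟨s + t, Subalgebra.add_mem _ hs ht, ?_⟩
        have e : a + b - (s + t) = (a - s) + (b - t) := by ring
        rw [e]
        exact Ideal.add_mem _ h h'
  have U : ∀ m : ℕ, ∀ a ∈ V, ∃ s ∈ S, a - s ∈ V ^ (m + 1) := by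
    intro m
    induction m with
    | zero =>
      intro a ha
      exact ⟨0, Subalgebra.zero_mem _, by simpa using ha⟩
    | succ m ih =>
      intro a ha
      obtain ⟨s, hs, h⟩ := ih a ha
      obtain ⟨s', hs', h'⟩ := T m (a - s) h
      refine ⟨s + s', Subalgebra.add_mem _ hs hs', ?_⟩
      have e : a - (s + s') = a - s - s' := by ring
      rw [e]
      exact h'
  obtain ⟨m, hm⟩ := hnilp
  have hVS : ∀ a ∈ V, a ∈ S := by
    intro a ha
    obtain ⟨s, hs, h⟩ := U m a ha
    have h2 : a - s ∈ V ^ m := Ideal.pow_le_pow_right (by omega) h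
    rw [hm, Ideal.mem_bot, sub_eq_zero] at h2
    rw [h2]
    exact hs
  rw [eq_top_iff]
  intro b _
  have h1 : b - algebraMap k B (ε b) ∈ V := by
    rw [hV, RingHom.mem_ker, map_sub, AlgHom.commutes]
    simp
  have h2 : b = algebraMap k B (ε b) + (b - algebraMap k B (ε b)) := by ring
  rw [h2]
  exact Subalgebra.add_mem _ (Subalgebra.algebraMap_mem _ _) (hVS _ h1)

end Gen

end Groth.Agent.H1.FinHopf
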