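import Groth.Agent.H1.FinHopf.Deriv2

set_option autoImplicit false
set_option linter.unusedSectionVars false
universe u v w

namespace Groth.Agent.H1.FinHopf

open Finset

theorem finrank_eq_mul_pow {k : Type u} [Field k] {B : Type v} [CommRing B] [Algebra k B]
    [Module.Finite k B] (p : ℕ) [Fact p.Prime] [CharP k p]
    (ε : B →ₐ[k] k) (hnil : ∀ b, ε b = 0 → IsNilpotent b)
    {ι : Type w} [Fintype ι] [DecidableEq ι] (x : ι → B)
    (D : ι → Derivation k B B) (hD : ∀ i j, ε (D i (x j)) = if i = j then 1 else 0)
    (hspan : ∀ v, ε v = 0 → ∃ c : ι → k, v - ∑ i, c i • x i ∈ (RingHom.ker ε) ^ 2) :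
    Module.finrank k B =
      Module.finrank k (Algebra.adjoin k (Set.range fun b : B => b ^ p)) *
        p ^ Fintype.card ι := by
  classical
  haveI : Nontrivial B := (ε : B →+* k).domain_nontrivial
  haveI : CharP B p := charP_of_injective_algebraMap (algebraMap k B).injective p
  have hp : p.Prime := Fact.out
  haveI : IsNoetherianRing B := IsNoetherianRing.of_finite k B
  have hnilp : ∃ m, (RingHom.ker ε) ^ m = ⊥ := by
    have h1 : RingHom.ker ε ≤ nilradical B := fun b hb =>
      (mem_nilradical).mpr (hnil b ((RingHom.mem_ker).mp hb))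
    exact (Ideal.FG.isNilpotent_iff_le_nilradical (IsNoetherian.noetherian _)).mpr h1
  have hgen := adjoin_eq_top_of_cotangent ε hnilp x hspan
  obtain ⟨D', hD', hconst'⟩ := exists_exact_deriv ε hnil D x hD
  set S' := Algebra.adjoin k (Set.range fun b : B => b ^ p) with hS'
  have hDS : ∀ c ∈ S', ∀ i, D i c = 0 := by
    intro c hc i
    induction hc using Algebra.adjoin_induction with
    | mem y hy =>
      obtain ⟨b, rfl⟩ := hy
      rw [Derivation.leibniz_pow, nsmul_eq_mul, CharP.cast_eq_zero B p, zero_mul]
    | algebraMap r => exact Derivation.map_algebraMap _ _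
    | add y z _ _ hy hz => rw [map_add, hy, hz, add_zero]
    | mul y z _ _ hy hz => rw [Derivation.leibniz, hy, hz]; simp
  have hD'S : ∀ c ∈ S', ∀ i, D' i c = 0 := fun c hc => hconst' c (hDS c hc)
  set Sbox : Finset (ι → ℕ) := Fintype.piFinset (fun _ => Finset.range p) with hSbox
  set v : ↥Sbox → B := fun α => mon x α.1 with hv
  have hunits : ∀ m : ℕ, 0 < m → m < p → IsUnit (m : B) := by
    intro m hm hmp
    have h1 : (m : k) ≠ 0 := by
      rw [Ne, CharP.cast_eq_zero_iff k p m]
      exact Nat.not_dvd_of_pos_of_lt hm hmp
    have h2 := (IsUnit.mk0 _ h1).map (algebraMap k B)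
    rwa [map_natCast] at h2
  have hli : LinearIndependent ↥S' v := by
    rw [Fintype.linearIndependent_iff]
    intro g hg α
    set g' : (ι → ℕ) → B := fun β => if h : β ∈ Sbox then (g ⟨β, h⟩ : B) else 0 with hg'
    have hsum : ∑ β ∈ Sbox, g' β * mon x β = 0 := by
      rw [← Finset.sum_coe_sort Sbox (fun β => g' β * mon x β), ← hg]
      apply Finset.sum_congr rfl
      intro β _
      rw [hg']
      simp only
      rw [dif_pos β.2, Subalgebra.smul_def, smul_eq_mul]
    have h3 := indep_of_deriv D' x hD' p hunits (Fintype.card ι * p) Sbox g' ?_ ?_ ?_ hsum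
      α.1 α.2
    · rw [hg'] at h3
      simp only at h3
      rw [dif_pos α.2] at h3
      exact Subtype.ext h3
    · intro β hβ
      have h4 : ∀ i ∈ (Finset.univ : Finset ι), β i ≤ p := fun i _ =>
        (Finset.mem_range.mp (Fintype.mem_piFinset.mp hβ i)).le
      have h5 := Finset.sum_le_card_nsmul _ _ _ h4
      simpa using h5
    · intro β hβ i
      exact Finset.mem_range.mp (Fintype.mem_piFinset.mp hβ i)
    · intro β i
      rw [hg']
      simp only
      split_ifs with h
      · exact hD'S _ (g ⟨β, h⟩).2 i
      · exact map_zero _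
  have hsp : ⊤ ≤ Submodule.span ↥S' (Set.range v) := by
    set P := Submodule.span ↥S' (Set.range v) with hP
    have hmul : ∀ i, ∀ y ∈ P, x i * y ∈ P := by
      intro i y hy
      induction hy using Submodule.span_induction with
      | mem y hy =>
        obtain ⟨α, rfl⟩ := hy
        have hα := Fintype.mem_piFinset.mp α.2
        by_cases h : α.1 i + 1 < p
        · have hmem : inc α.1 i ∈ Sbox := by
            rw [Fintype.mem_piFinset]
            intro j
            rw [Finset.mem_range]
            unfold inc
            by_cases hj : j = i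
            · subst hj; rw [Function.update_self]; exact h
            · rw [Function.update_of_ne hj]; exact Finset.mem_range.mp (hα j)
          have e : x i * v α = v ⟨inc α.1 i, hmem⟩ := by
            show x i * mon x α.1 = mon x (inc α.1 i)
            unfold inc
            rw [mon_update, mon_split x α.1 i, pow_succ]
            ring
          rw [e]
          exact Submodule.subset_span ⟨_, rfl⟩
        · have hαi : α.1 i + 1 = p := by
            have := Finset.mem_range.mp (hα i)
            omega
          have hmem : Function.update α.1 i 0 ∈ Sbox := by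
            rw [Fintype.mem_piFinset]
            intro j
            rw [Finset.mem_range]
            by_cases hj : j = i
            · subst hj; rw [Function.update_self]; exact hp.pos
            · rw [Function.update_of_ne hj]; exact Finset.mem_range.mp (hα j)
          have hxp : x i ^ p ∈ S' := Algebra.subset_adjoin ⟨x i, rfl⟩
          have e : x i * v α =
              (⟨x i ^ p, hxp⟩ : ↥S') • v ⟨Function.update α.1 i 0, hmem⟩ := by
            rw [Subalgebra.smul_def, smul_eq_mul]
            show x i * mon x α.1 = x i ^ p * mon x (Function.update α.1 i 0)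
            rw [mon_update, mon_split x α.1 i, ← hαi, pow_succ]
            ring
          rw [e]
          exact Submodule.smul_mem _ _ (Submodule.subset_span ⟨_, rfl⟩)
      | zero => simp
      | add y z _ _ hy hz => rw [mul_add]; exact Submodule.add_mem _ hy hz
      | smul c y _ hy => rw [mul_smul_comm]; exact Submodule.smul_mem _ _ hy
    have hall : ∀ b : B, ∀ y ∈ P, b * y ∈ P := by
      intro b
      have hb : b ∈ Algebra.adjoin k (Set.range x) := by rw [hgen]; trivial
      induction hb using Algebra.adjoin_induction with
      | mem b hb => obtain ⟨i, rfl⟩ := hb; exact hmul i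
      | algebraMap r =>
        intro y hy
        have e : algebraMap k B r * y = (algebraMap k ↥S' r) • y := by
          rw [Subalgebra.smul_def, smul_eq_mul]
          rfl
        rw [e]
        exact Submodule.smul_mem _ _ hy
      | add b c _ _ hb hc =>
        intro y hy
        rw [add_mul]
        exact Submodule.add_mem _ (hb y hy) (hc y hy)
      | mul b c _ _ hb hc =>
        intro y hy
        rw [mul_assoc]
        exact hb _ (hc y hy)
    have h0mem : (fun _ => 0 : ι → ℕ) ∈ Sbox := by
      rw [Fintype.mem_piFinset]
      intro j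
      rw [Finset.mem_range]
      exact hp.pos
    have h1P : (1 : B) ∈ P := by
      have : v ⟨fun _ => 0, h0mem⟩ = 1 := mon_zero x
      rw [← this]
      exact Submodule.subset_span ⟨_, rfl⟩
    intro b _
    have := hall b 1 h1P
    rwa [mul_one] at this
  let bas : Module.Basis ↥Sbox ↥S' B := Module.Basis.mk hli hsp
  haveI : Module.Free ↥S' B := Module.Free.of_basis bas
  have h1 : Module.finrank ↥S' B = p ^ Fintype.card ι := by
    rw [Module.finrank_eq_card_basis bas, Fintype.card_coe, Fintype.card_piFinset]
    simp
  rw [← h1]
  exact (Module.finrank_mul_finrank k ↥S' B).symm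

theorem isEmpty_of_charZero {k : Type u} [Field k] [CharZero k] {B : Type v} [CommRing B]
    [Algebra k B] [Module.Finite k B] (ε : B →ₐ[k] k) (hnil : ∀ b, ε b = 0 → IsNilpotent b)
    {ι : Type w} [Fintype ι] [DecidableEq ι] (x : ι → B)
    (D : ι → Derivation k B B) (hD : ∀ i j, ε (D i (x j)) = if i = j then 1 else 0) :
    IsEmpty ι := by
  classical
  haveI : Nontrivial B := (ε : B →+* k).domain_nontrivial
  obtain ⟨D', hD', _⟩ := exists_exact_deriv ε hnil D x hD
  by_contra hne
  rw [not_isEmpty_iff] at hne
  obtain ⟨i₀⟩ := hne
  set d := Module.finrank k B with hd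
  have hli : LinearIndependent k (fun m : Fin (d + 1) => x i₀ ^ (m : ℕ)) := by
    rw [Fintype.linearIndependent_iff]
    intro c hc m
    set S : Finset (ι → ℕ) :=
      Finset.univ.image (fun m : Fin (d + 1) => (Pi.single i₀ (m : ℕ) : ι → ℕ)) with hS
    set g : (ι → ℕ) → B :=
      fun α => if h : α i₀ < d + 1 then algebraMap k B (c ⟨α i₀, h⟩) else 0 with hg
    have hinj : Function.Injective
        (fun m : Fin (d + 1) => (Pi.single i₀ (m : ℕ) : ι → ℕ)) := by
      intro a b hab
      have := congrFun hab i₀
      simp only [Pi.single_eq_same] at this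
      exact Fin.ext this
    have hmon : ∀ m : ℕ, mon x (Pi.single i₀ m) = x i₀ ^ m := by
      intro m
      unfold mon
      rw [Finset.prod_eq_single i₀]
      · rw [Pi.single_eq_same]
      · intro j _ hj
        rw [Pi.single_eq_of_ne hj, pow_zero]
      · intro h
        exact absurd (Finset.mem_univ _) h
    have hsum : ∑ α ∈ S, g α * mon x α = 0 := by
      rw [hS, Finset.sum_image (fun a _ b _ h => hinj h), ← hc]
      apply Finset.sum_congr rfl
      intro m _
      rw [hmon, hg]
      simp only
      rw [dif_pos (by rw [Pi.single_eq_same]; exact m.2), Algebra.smul_def]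
      simp only [Pi.single_eq_same, Fin.eta]
    have h3 := indep_of_deriv D' x hD' (d + 2) ?_ (d + 1) S g ?_ ?_ ?_ hsum
      (Pi.single i₀ (m : ℕ)) (Finset.mem_image_of_mem _ (Finset.mem_univ m))
    · rw [hg] at h3
      simp only at h3
      rw [dif_pos (by rw [Pi.single_eq_same]; exact m.2)] at h3
      simp only [Pi.single_eq_same, Fin.eta] at h3
      exact (map_eq_zero_iff _ (algebraMap k B).injective).mp h3
    · intro m hm _
      have h1 : (m : k) ≠ 0 := Nat.cast_ne_zero.mpr (by omega)
      have h2 := (IsUnit.mk0 _ h1).map (algebraMap k B)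
      rwa [map_natCast] at h2
    · intro α hα
      obtain ⟨m, _, rfl⟩ := Finset.mem_image.mp hα
      have : ∑ j, (Pi.single i₀ (m : ℕ) : ι → ℕ) j = m := by simp
      rw [this]
      exact m.2.le
    · intro α hα i
      obtain ⟨m, _, rfl⟩ := Finset.mem_image.mp hα
      by_cases h : i = i₀
      · subst h
        rw [Pi.single_eq_same]
        have := m.2
        omega
      · rw [Pi.single_eq_of_ne h]
        omega
    · intro α i
      rw [hg]
      simp only
      split_ifs
      · exact Derivation.map_algebraMap _ _
      · exact map_zero _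
  have := hli.fintype_card_le_finrank
  simp at this
  omega

end Groth.Agent.H1.FinHopf
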