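import Mathlib
import Groth.Prelude.Def_GLin

/-!
# Invariants of a finite group scheme acting on an affine scheme

`k` a field, `A` a finite-dimensional commutative Hopf algebra, `R` a commutative `k`-algebra with a
coaction `ρ : R → R ⊗ A` which is an algebra map.  Every `r : R` is a root of the characteristic
polynomial of multiplication by `ρ r` on the finite free `R`-algebra `R ⊗ A`, and the coefficients
of this polynomial are invariants.  Hence `R` is integral over the invariants, and Artin–Tate gives
finite generation.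
-/

set_option autoImplicit false

open TensorProduct Polynomial WithConv

namespace Groth.Agent.H1.FinHopf.FinInvariants

universe u v w

noncomputable section

section Chi

variable (k : Type u) [Field k] (A : Type v) [CommRing A] [Algebra k A] [Module.Finite k A]

/-- The basis `1 ⊗ aᵢ` of `B ⊗ A` over `B`. -/
def bas (B : Type*) [CommRing B] [Algebra k B] :
    Module.Basis (Fin (Module.finrank k A)) B (B ⊗[k] A) :=
  Algebra.TensorProduct.basis B (Module.finBasis k A)

/-- Characteristic polynomial of multiplication by `m` on the free `B`-algebra `B ⊗ A`. -/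
def chi (B : Type*) [CommRing B] [Algebra k B] (m : B ⊗[k] A) : B[X] :=
  (Algebra.leftMulMatrix (bas k A B) m).charpoly

variable {B B' : Type*} [CommRing B] [Algebra k B] [CommRing B'] [Algebra k B']

lemma bas_apply (i : Fin (Module.finrank k A)) :
    bas k A B i = (1 : B) ⊗ₜ[k] Module.finBasis k A i := by
  simp [bas]

lemma repr_map (φ : B →ₐ[k] B') (y : B ⊗[k] A) (i : Fin (Module.finrank k A)) :
    (bas k A B').repr (Algebra.TensorProduct.map φ (AlgHom.id k A) y) i =
      φ ((bas k A B).repr y i) := by
  induction y using TensorProduct.induction_on with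
  | zero => simp
  | tmul x m =>
    simp only [Algebra.TensorProduct.map_tmul, AlgHom.coe_id, id_eq, bas,
      Algebra.TensorProduct.basis_repr_tmul, Finsupp.smul_apply, Finsupp.mapRange_apply,
      smul_eq_mul, map_mul, AlgHom.commutes]
  | add x y hx hy => simp only [map_add, Finsupp.add_apply, hx, hy]

lemma chi_map (φ : B →ₐ[k] B') (m : B ⊗[k] A) :
    chi k A B' (Algebra.TensorProduct.map φ (AlgHom.id k A) m) =
      (chi k A B m).map (φ : B →+* B') := by
  unfold chi
  rw [← Matrix.charpoly_map]
  congr 1
  ext i j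
  rw [Matrix.map_apply, Algebra.leftMulMatrix_eq_repr_mul, Algebra.leftMulMatrix_eq_repr_mul]
  have hb : bas k A B' j = Algebra.TensorProduct.map φ (AlgHom.id k A) (bas k A B j) := by
    rw [bas_apply, bas_apply, Algebra.TensorProduct.map_tmul, map_one, AlgHom.coe_id, id_eq]
  rw [hb, ← map_mul, repr_map]
  rfl

lemma chi_algEquiv (θ : (B ⊗[k] A) ≃ₐ[B] (B ⊗[k] A)) (m : B ⊗[k] A) :
    chi k A B (θ m) = chi k A B m := by
  unfold chi
  have : Module.Free B (B ⊗[k] A) := Module.Free.of_basis (bas k A B)
  have : Module.Finite B (B ⊗[k] A) := Module.Finite.of_basis (bas k A B)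
  rw [← Algebra.toMatrix_lmul_eq, ← Algebra.toMatrix_lmul_eq, LinearMap.charpoly_toMatrix,
    LinearMap.charpoly_toMatrix]
  have h : LinearMap.mulLeft B (θ m) = θ.toLinearEquiv.conj (LinearMap.mulLeft B m) := by
    apply LinearMap.ext
    intro y
    rw [LinearEquiv.conj_apply]
    simp
  rw [h, LinearEquiv.charpoly_conj]

lemma aeval_chi (m : B ⊗[k] A) : Polynomial.aeval m (chi k A B m) = 0 := by
  apply Algebra.leftMulMatrix_injective (bas k A B)
  rw [map_zero, ← Polynomial.aeval_algHom_apply]
  exact Matrix.aeval_self_charpoly _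

lemma chi_monic (m : B ⊗[k] A) : (chi k A B m).Monic := Matrix.charpoly_monic _

end Chi

section Transl

variable (k : Type u) [Field k] (A : Type v) [CommRing A] [HopfAlgebra k A]
variable {M : Type*} [CommRing M] [Algebra k M] (j : A →ₐ[k] M)

/-- `b ↦ j b ⊗ 1`. -/
def j1 : A →ₐ[k] M ⊗[k] A :=
  (Algebra.TensorProduct.includeLeft : M →ₐ[k] M ⊗[k] A).comp j

variable (M) in
/-- `b ↦ 1 ⊗ b`. -/
def j2 : A →ₐ[k] M ⊗[k] A := Algebra.TensorProduct.includeRight

/-- `b ↦ Σ j b₁ ⊗ b₂`, the convolution product of `j1` and `j2`. -/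
def gg : A →ₐ[k] M ⊗[k] A := (toConv (j1 k A j) * toConv (j2 k A M)).ofConv

/-- Translation by the `M`-point `j` of the group, on the coordinate ring of `G_M`. -/
def theta : M ⊗[k] A →ₐ[M] M ⊗[k] A :=
  Algebra.TensorProduct.lift (Algebra.TensorProduct.includeLeft : M →ₐ[M] M ⊗[k] A) (gg k A j)
    (fun _ _ => Commute.all _ _)

lemma theta_tmul (m : M) (b : A) :
    theta k A j (m ⊗ₜ b) = (m ⊗ₜ[k] (1 : A)) * gg k A j b := by
  simp [theta]

lemma conv_inv_mul {N : Type*} [CommRing N] [Algebra k N] (f : A →ₐ[k] N) :
    (toConv (f.toLinearMap ∘ₗ HopfAlgebra.antipode k) * toConv f.toLinearMap :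
      WithConv (A →ₗ[k] N)) = 1 := by
  have h := LinearMap.algHom_comp_convMul_distrib f (toConv (HopfAlgebra.antipode k (A := A)))
    (toConv LinearMap.id)
  rw [LinearMap.antipode_mul_id] at h
  apply WithConv.ofConv_injective
  simp only [LinearMap.comp_id] at h
  rw [← h]
  ext a
  simp [LinearMap.convOne_def]

lemma includeRight_mem_range (b : A) : (1 : M) ⊗ₜ[k] b ∈ (theta k A j).range := by
  set θl : M ⊗[k] A →ₐ[k] M ⊗[k] A := (theta k A j).restrictScalars k with hθl
  have h1 : θl.toLinearMap ∘ₗ (j1 k A j).toLinearMap = (j1 k A j).toLinearMap := by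
    ext a
    simp [hθl, j1, theta_tmul]
  have h2 : θl.toLinearMap ∘ₗ (j2 k A M).toLinearMap = (gg k A j).toLinearMap := by
    ext a
    simp only [hθl, j2, LinearMap.comp_apply, AlgHom.toLinearMap_apply,
      AlgHom.restrictScalars_apply, Algebra.TensorProduct.includeRight_apply, theta_tmul]
    rw [← Algebra.TensorProduct.one_def, one_mul]
  have hg : toConv (gg k A j).toLinearMap =
      toConv (j1 k A j).toLinearMap * toConv (j2 k A M).toLinearMap :=
    AlgHom.toLinearMap_convMul _ _
  set c1' : WithConv (A →ₗ[k] M ⊗[k] A) :=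
    toConv ((j1 k A j).toLinearMap ∘ₗ HopfAlgebra.antipode k) with hc1'
  set c2 : WithConv (A →ₗ[k] M ⊗[k] A) := toConv (j2 k A M).toLinearMap with hc2
  have key : θl.toLinearMap ∘ₗ (c1' * c2).ofConv = (j2 k A M).toLinearMap := by
    rw [LinearMap.algHom_comp_convMul_distrib]
    have e1 : θl.toLinearMap ∘ₗ c1'.ofConv = c1'.ofConv := by
      simp only [hc1', ofConv_toConv, ← LinearMap.comp_assoc, h1]
    have e2 : θl.toLinearMap ∘ₗ c2.ofConv = (gg k A j).toLinearMap := h2
    rw [e1, e2, toConv_ofConv, hg, ← mul_assoc, hc1', conv_inv_mul, one_mul, ofConv_toConv]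
  refine (AlgHom.mem_range _).mpr ⟨(c1' * c2).ofConv b, ?_⟩
  have := LinearMap.congr_fun key b
  simpa [hθl, j2] using this

lemma theta_surjective : Function.Surjective (theta k A j) := by
  rw [← AlgHom.range_eq_top, eq_top_iff]
  intro y hy
  clear hy
  induction y using TensorProduct.induction_on with
  | zero => exact zero_mem _
  | tmul m b =>
    have : m ⊗ₜ[k] b = m • ((1 : M) ⊗ₜ[k] b) := by
      rw [TensorProduct.smul_tmul', smul_eq_mul, mul_one]
    rw [this]
    exact Subalgebra.smul_mem _ (includeRight_mem_range k A j b) m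
  | add x y hx hy => exact add_mem hx hy

lemma theta_bijective [Module.Finite k A] : Function.Bijective (theta k A j) :=
  ⟨OrzechProperty.injective_of_surjective_endomorphism (theta k A j).toLinearMap
    (theta_surjective k A j), theta_surjective k A j⟩

end Transl

section Main

variable (k : Type u) [Field k] (A : Type v) [CommRing A] [HopfAlgebra k A] [Module.Finite k A]
  (R : Type w) [CommRing R] [Algebra k R] [HopfRep.Comod k A R] [GLin.IsCoactAlg k A R]

/-- `θ ∘ (ι ⊗ id) = assoc⁻¹ ∘ (id ⊗ Δ)`. -/
lemma theta_incl (y : R ⊗[k] A) :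
    theta k A (Algebra.TensorProduct.includeRight : A →ₐ[k] R ⊗[k] A)
      (Algebra.TensorProduct.map (Algebra.TensorProduct.includeLeft : R →ₐ[k] R ⊗[k] A)
        (AlgHom.id k A) y) =
    (TensorProduct.assoc k R A A).symm
      ((CoalgebraStruct.comul (R := k) (A := A)).lTensor R y) := by
  induction y using TensorProduct.induction_on with
  | zero => simp
  | add x y hx hy => simp only [map_add, hx, hy]
  | tmul x b =>
    rw [Algebra.TensorProduct.map_tmul, theta_tmul, LinearMap.lTensor_tmul]
    simp only [AlgHom.coe_id, id_eq, Algebra.TensorProduct.includeLeft_apply]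
    have hgg : gg k A (Algebra.TensorProduct.includeRight : A →ₐ[k] R ⊗[k] A) b =
        Algebra.TensorProduct.lift
          (j1 k A (Algebra.TensorProduct.includeRight : A →ₐ[k] R ⊗[k] A))
          (j2 k A (R ⊗[k] A)) (fun _ _ => Commute.all _ _)
          (CoalgebraStruct.comul (R := k) b) :=
      AlgHom.convMul_apply _ _ b
    rw [hgg]
    generalize CoalgebraStruct.comul (R := k) b = z
    induction z using TensorProduct.induction_on with
    | zero => simp
    | add z w hz hw => simp only [map_add, mul_add, tmul_add, hz, hw]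
    | tmul b₁ b₂ =>
      simp [j1, j2, Algebra.TensorProduct.tmul_mul_tmul]

lemma map_eq_rTensor (y : R ⊗[k] A) :
    Algebra.TensorProduct.map (GLin.coactAlgHom k A R) (AlgHom.id k A) y =
      (HopfRep.Comod.coact (k := k) (A := A) (V := R)).rTensor A y := by
  induction y using TensorProduct.induction_on with
  | zero => simp
  | add x y hx hy => simp only [map_add, hx, hy]
  | tmul x b => simp

lemma map_coact_coact (r : R) :
    Algebra.TensorProduct.map (GLin.coactAlgHom k A R) (AlgHom.id k A)
        (GLin.coactAlgHom k A R r) =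
      (TensorProduct.assoc k R A A).symm
        ((CoalgebraStruct.comul (R := k) (A := A)).lTensor R (GLin.coactAlgHom k A R r)) := by
  have h := LinearMap.congr_fun (HopfRep.Comod.coassoc (k := k) (A := A) (V := R)) r
  simp only [LinearMap.comp_apply, LinearEquiv.coe_coe] at h
  rw [GLin.coactAlgHom_apply, ← h, LinearEquiv.symm_apply_apply, ← GLin.coactAlgHom_apply,
    map_eq_rTensor]

lemma chi_map_eq (r : R) :
    (chi k A R (GLin.coactAlgHom k A R r)).map
      ((GLin.coactAlgHom k A R : R →ₐ[k] R ⊗[k] A) : R →+* R ⊗[k] A) =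
    (chi k A R (GLin.coactAlgHom k A R r)).map
      ((Algebra.TensorProduct.includeLeft : R →ₐ[k] R ⊗[k] A) : R →+* R ⊗[k] A) := by
  rw [← chi_map, ← chi_map, map_coact_coact, ← theta_incl]
  exact chi_algEquiv k A (AlgEquiv.ofBijective (theta k A _) (theta_bijective k A _)) _

lemma coeff_mem (r : R) (n : ℕ) :
    (chi k A R (GLin.coactAlgHom k A R r)).coeff n ∈ GLin.invariants k A R := by
  rw [GLin.mem_invariants_iff]
  have h := congrArg (fun p => Polynomial.coeff p n) (chi_map_eq k A R r)
  simp only [Polynomial.coeff_map] at h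
  exact h

/-- `id ⊗ ε : R ⊗ A → R` as an `R`-algebra map. -/
def epsR : R ⊗[k] A →ₐ[R] R :=
  Algebra.TensorProduct.lift (AlgHom.id R R)
    ((Algebra.ofId k R).comp (Bialgebra.counitAlgHom k A)) (fun _ _ => Commute.all _ _)

lemma epsR_eq (y : R ⊗[k] A) :
    epsR k A R y =
      TensorProduct.rid k R ((CoalgebraStruct.counit (R := k) (A := A)).lTensor R y) := by
  induction y using TensorProduct.induction_on with
  | zero => simp
  | add x y hx hy => simp only [map_add, hx, hy]
  | tmul x b => simp [epsR, Algebra.ofId_apply, Algebra.smul_def, mul_comm]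

lemma epsR_coact (r : R) : epsR k A R (GLin.coactAlgHom k A R r) = r := by
  rw [epsR_eq]
  have h := LinearMap.congr_fun (HopfRep.Comod.counit_comp (k := k) (A := A) (V := R)) r
  simp only [LinearMap.comp_apply] at h
  rw [GLin.coactAlgHom_apply, h]
  simp

lemma aeval_self (r : R) :
    Polynomial.aeval r (chi k A R (GLin.coactAlgHom k A R r)) = 0 := by
  have h := aeval_chi k A (B := R) (GLin.coactAlgHom k A R r)
  have h2 := congrArg (epsR k A R) h
  rw [← Polynomial.aeval_algHom_apply, epsR_coact, map_zero] at h2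
  exact h2

theorem isIntegral (r : R) : IsIntegral (GLin.invariants k A R) r := by
  set p := chi k A R (GLin.coactAlgHom k A R r) with hp
  have hl : p ∈ Polynomial.lifts (algebraMap (GLin.invariants k A R) R) := by
    rw [Polynomial.lifts_iff_coeff_lifts]
    intro n
    exact ⟨⟨p.coeff n, coeff_mem k A R r n⟩, rfl⟩
  obtain ⟨q, hq, -, hqm⟩ := Polynomial.lifts_and_natDegree_eq_and_monic hl (chi_monic k A _)
  refine ⟨q, hqm, ?_⟩
  rw [← Polynomial.eval_map, hq]
  have h0 : Polynomial.eval r p = 0 := by
    rw [← Polynomial.coe_aeval_eq_eval]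
    exact aeval_self k A R r
  exact h0

theorem main [Algebra.FiniteType k R] :
    Algebra.FiniteType k ↥(GLin.invariants k A R) ∧
      Module.Finite ↥(GLin.invariants k A R) R := by
  have : Algebra.IsIntegral (GLin.invariants k A R) R := ⟨fun r => isIntegral k A R r⟩
  have : Algebra.FiniteType (GLin.invariants k A R) R :=
    Algebra.FiniteType.of_restrictScalars_finiteType k (GLin.invariants k A R) R
  have hfin : Module.Finite (GLin.invariants k A R) R := Algebra.IsIntegral.finite
  refine ⟨⟨?_⟩, hfin⟩
  exact fg_of_fg_of_fg k (GLin.invariants k A R) R Algebra.FiniteType.out Module.Finite.fg_top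
    Subtype.val_injective

end Main

end

end Groth.Agent.H1.FinHopf.FinInvariants
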