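import Mathlib
import Groth.Prelude.Def_GLin
import Groth.Agent.H1.FinHopf.FinInvariants
import Groth.Agent.H1.FinHopf.AlgClosed

/-!
# Free actions of finite group schemes: the coordinate ring is free over the invariants

`k` algebraically closed, `H` a finite-dimensional commutative Hopf algebra coacting on a
finite-dimensional commutative `k`-algebra `R` such that the action is free
(`R ⊗ R → R ⊗ H`, `r ⊗ r' ↦ (r ⊗ 1) ρ(r')` is surjective).  Then `R` is free of rank `dim H` over
the ring of invariants.  Applied to a subgroup scheme `Spec (A/I)` of a finite group scheme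
`Spec A` acting by right translations.
-/

set_option autoImplicit false
set_option linter.unusedSectionVars false

open TensorProduct WithConv
open Groth.Agent.H1.FinHopf.FinInvariants

namespace Groth.Agent.H1.FinHopf.FreeAction

universe u v w

noncomputable section

/-! ### Linear algebra: simultaneous linear independence -/

lemma exists_common_li {K : Type*} [Field K] [Infinite K] {V W : Type*} [AddCommGroup V]
    [Module K V] [AddCommGroup W] [Module K W] [Module.Finite K W] {X : Type*} [Finite X]
    (ψ : X → V →ₗ[K] W) (hψ : ∀ x, Function.Surjective (ψ x)) (m : ℕ)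
    (hm : m ≤ Module.finrank K W) :
    ∃ a : Fin m → V, ∀ x, LinearIndependent K (fun j => ψ x (a j)) := by
  induction m with
  | zero => exact ⟨Fin.elim0, fun x => linearIndependent_empty_type⟩
  | succ m ih =>
    obtain ⟨a, ha⟩ := ih (Nat.le_of_succ_le hm)
    have hne : ∀ x, Submodule.comap (ψ x)
        (Submodule.span K (Set.range (fun j => ψ x (a j)))) ≠ ⊤ := by
      intro x htop
      have hspan : Submodule.span K (Set.range (fun j => ψ x (a j))) = ⊤ := by
        rw [eq_top_iff]
        intro w _
        obtain ⟨v, rfl⟩ := hψ x w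
        have hv : v ∈ Submodule.comap (ψ x)
            (Submodule.span K (Set.range (fun j => ψ x (a j)))) := by
          rw [htop]; trivial
        exact hv
      have h1 : (Set.range (fun j => ψ x (a j))).finrank K ≤ Fintype.card (Fin m) :=
        finrank_range_le_card _
      rw [Set.finrank, hspan, finrank_top, Fintype.card_fin] at h1
      omega
    obtain ⟨v, hv⟩ := Submodule.exists_forall_notMem_of_forall_ne_top _ hne
    refine ⟨Fin.snoc a v, fun x => ?_⟩
    have hs : (fun j => ψ x ((Fin.snoc a v : Fin (m + 1) → V) j)) =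
        (Fin.snoc (fun j => ψ x (a j)) (ψ x v) : Fin (m + 1) → W) := by
      funext j
      refine Fin.lastCases ?_ (fun i => ?_) j
      · simp
      · simp
    rw [hs, linearIndependent_finSnoc]
    exact ⟨ha x, hv x⟩

/-! ### Units of a finite-dimensional algebra over an algebraically closed field -/

lemma isUnit_of_forall_point {k : Type u} [Field k] [IsAlgClosed k] {R : Type w} [CommRing R]
    [Algebra k R] [Module.Finite k R] (r : R) (h : ∀ x : R →ₐ[k] k, x r ≠ 0) : IsUnit r := by
  by_contra hr
  obtain ⟨M, hM, hrM⟩ := exists_max_ideal_of_mem_nonunits (show r ∈ nonunits R from hr)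
  obtain ⟨g, hg⟩ := Groth.Agent.H1.FinHopf.exists_point' k R M hM
  have hmem : r ∈ RingHom.ker g := hg ▸ hrM
  exact h g ((RingHom.mem_ker).mp hmem)

/-! ### Base change of determinants and scalars -/

section Det
variable (k : Type u) [Field k] (H : Type v) [CommRing H] [Algebra k H] [Module.Finite k H]
variable {B B' : Type*} [CommRing B] [Algebra k B] [CommRing B'] [Algebra k B']

lemma det_map (φ : B →ₐ[k] B') (v : Fin (Module.finrank k H) → B ⊗[k] H) :
    (bas k H B').det (fun j => Algebra.TensorProduct.map φ (AlgHom.id k H) (v j)) =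
      φ ((bas k H B).det v) := by
  rw [Module.Basis.det_apply, Module.Basis.det_apply, AlgHom.map_det]
  congr 1
  ext i j
  rw [AlgHom.mapMatrix_apply, Matrix.map_apply, Module.Basis.toMatrix_apply,
    Module.Basis.toMatrix_apply, repr_map]

lemma map_smul_left (φ : B →ₐ[k] B') (c : B) (y : B ⊗[k] H) :
    Algebra.TensorProduct.map φ (AlgHom.id k H) (c • y) =
      φ c • Algebra.TensorProduct.map φ (AlgHom.id k H) y := by
  induction y using TensorProduct.induction_on with
  | zero => simp
  | tmul b h =>
    rw [TensorProduct.smul_tmul', Algebra.TensorProduct.map_tmul, Algebra.TensorProduct.map_tmul,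
      TensorProduct.smul_tmul', smul_eq_mul, smul_eq_mul, map_mul]
  | add y z hy hz => rw [smul_add, map_add, map_add, smul_add, hy, hz]

end Det

lemma tmul_one_mul (k : Type u) [Field k] (H : Type v) [CommRing H] [Algebra k H]
    {B : Type*} [CommRing B] [Algebra k B] (c : B) (y : B ⊗[k] H) :
    (c ⊗ₜ[k] (1 : H)) * y = c • y := by
  rw [Algebra.smul_def, Algebra.TensorProduct.algebraMap_apply]
  rfl

/-! ### The general statement -/

section General

variable (k : Type u) [Field k] [IsAlgClosed k] (H : Type v) [CommRing H] [HopfAlgebra k H]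
  [Module.Finite k H]
  (R : Type w) [CommRing R] [Nontrivial R] [Algebra k R] [Module.Finite k R]
  [HopfRep.Comod k H R] [GLin.IsCoactAlg k H R]

/-- The orbit map of a point, with values in `k ⊗ H`. -/
def psi (x : R →ₐ[k] k) : R →ₗ[k] k ⊗[k] H :=
  (Algebra.TensorProduct.map x (AlgHom.id k H)).toLinearMap ∘ₗ
    (GLin.coactAlgHom k H R).toLinearMap

lemma psi_surjective
    (hfree : Submodule.span R (Set.range (GLin.coactAlgHom k H R)) = ⊤) (x : R →ₐ[k] k) :
    Function.Surjective (psi k H R x) := by
  intro w
  have hx : ∀ w : k ⊗[k] H, ∃ y, Algebra.TensorProduct.map x (AlgHom.id k H) y = w := by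
    intro w
    induction w using TensorProduct.induction_on with
    | zero => exact ⟨0, map_zero _⟩
    | tmul c h => exact ⟨algebraMap k R c ⊗ₜ h, by simp⟩
    | add y z hy hz =>
      obtain ⟨y', rfl⟩ := hy
      obtain ⟨z', rfl⟩ := hz
      exact ⟨y' + z', map_add _ _ _⟩
  obtain ⟨y, rfl⟩ := hx w
  have hy : y ∈ Submodule.span R (Set.range (GLin.coactAlgHom k H R)) := by
    rw [hfree]; trivial
  have hmem : Algebra.TensorProduct.map x (AlgHom.id k H) y ∈ LinearMap.range (psi k H R x) := by
    induction hy using Submodule.span_induction with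
    | mem y hy =>
      obtain ⟨r, rfl⟩ := hy
      exact ⟨r, rfl⟩
    | zero => rw [map_zero]; exact zero_mem _
    | add y z _ _ hy hz => rw [map_add]; exact add_mem hy hz
    | smul c y _ hy =>
      rw [map_smul_left k H x c y]
      exact Submodule.smul_mem _ _ hy
  exact hmem

theorem exists_basis_coact
    (hfree : Submodule.span R (Set.range (GLin.coactAlgHom k H R)) = ⊤) :
    ∃ a : Fin (Module.finrank k H) → R,
      IsUnit ((bas k H R).det (fun j => GLin.coactAlgHom k H R (a j))) := by
  have hfr : Module.finrank k (k ⊗[k] H) = Module.finrank k H := by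
    rw [Module.finrank_eq_card_basis (bas k H k), Fintype.card_fin]
  obtain ⟨a, ha⟩ := exists_common_li (fun x : R →ₐ[k] k => psi k H R x)
    (psi_surjective k H R hfree) (Module.finrank k H) (le_of_eq hfr.symm)
  refine ⟨a, isUnit_of_forall_point (k := k) _ (fun x => ?_)⟩
  rw [← det_map k H x]
  have hsp := (ha x).span_eq_top_of_card_eq_finrank' (by rw [Fintype.card_fin, hfr])
  have hu := (Module.Basis.is_basis_iff_det (bas k H k)).mp ⟨ha x, hsp⟩
  exact hu.ne_zero

theorem free_of_free_action
    (hfree : Submodule.span R (Set.range (GLin.coactAlgHom k H R)) = ⊤) :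
    Module.Free (GLin.invariants k H R) R ∧
      Module.finrank (GLin.invariants k H R) R = Module.finrank k H := by
  obtain ⟨a, hu⟩ := exists_basis_coact k H R hfree
  obtain ⟨hli, hsp⟩ := (Module.Basis.is_basis_iff_det (bas k H R)).mpr hu
  -- base change to `M = R ⊗ H`
  have hΘ := theta_bijective k H (Algebra.TensorProduct.includeRight : H →ₐ[k] R ⊗[k] H)
  have hu' : IsUnit ((bas k H (R ⊗[k] H)).det (fun j => Algebra.TensorProduct.map
      (Algebra.TensorProduct.includeLeft : R →ₐ[k] R ⊗[k] H) (AlgHom.id k H)
      (GLin.coactAlgHom k H R (a j)))) := by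
    rw [det_map k H (Algebra.TensorProduct.includeLeft : R →ₐ[k] R ⊗[k] H)
      (fun j => GLin.coactAlgHom k H R (a j))]
    exact hu.map _
  obtain ⟨hliu, -⟩ := (Module.Basis.is_basis_iff_det (bas k H (R ⊗[k] H))).mpr hu'
  have hliw : LinearIndependent (R ⊗[k] H)
      (fun j => theta k H (Algebra.TensorProduct.includeRight : H →ₐ[k] R ⊗[k] H)
        (Algebra.TensorProduct.map
          (Algebra.TensorProduct.includeLeft : R →ₐ[k] R ⊗[k] H) (AlgHom.id k H)
          (GLin.coactAlgHom k H R (a j)))) :=
    hliu.map' (theta k H (Algebra.TensorProduct.includeRight : H →ₐ[k] R ⊗[k] H)).toLinearMap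
      (LinearMap.ker_eq_bot.mpr hΘ.1)
  have hw : ∀ r : R, theta k H (Algebra.TensorProduct.includeRight : H →ₐ[k] R ⊗[k] H)
      (Algebra.TensorProduct.map (Algebra.TensorProduct.includeLeft : R →ₐ[k] R ⊗[k] H)
        (AlgHom.id k H) (GLin.coactAlgHom k H R r)) =
      Algebra.TensorProduct.map (GLin.coactAlgHom k H R) (AlgHom.id k H)
        (GLin.coactAlgHom k H R r) := by
    intro r
    rw [map_coact_coact, ← theta_incl]
  -- coefficients with respect to the basis `ρ(a j)` of an element `ρ r` are invariant
  have claim : ∀ (c : Fin (Module.finrank k H) → R) (r : R),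
      GLin.coactAlgHom k H R r = ∑ j, c j • GLin.coactAlgHom k H R (a j) →
      ∀ j, c j ∈ GLin.invariants k H R := by
    intro c r hr j
    have e1 : Algebra.TensorProduct.map (GLin.coactAlgHom k H R) (AlgHom.id k H)
        (GLin.coactAlgHom k H R r) =
        ∑ j, GLin.coactAlgHom k H R (c j) •
          theta k H (Algebra.TensorProduct.includeRight : H →ₐ[k] R ⊗[k] H)
            (Algebra.TensorProduct.map
              (Algebra.TensorProduct.includeLeft : R →ₐ[k] R ⊗[k] H) (AlgHom.id k H)
              (GLin.coactAlgHom k H R (a j))) := by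
      rw [hr, map_sum]
      refine Finset.sum_congr rfl (fun j _ => ?_)
      rw [map_smul_left k H (GLin.coactAlgHom k H R), hw (a j)]
    have e2 : theta k H (Algebra.TensorProduct.includeRight : H →ₐ[k] R ⊗[k] H)
        (Algebra.TensorProduct.map (Algebra.TensorProduct.includeLeft : R →ₐ[k] R ⊗[k] H)
          (AlgHom.id k H) (GLin.coactAlgHom k H R r)) =
        ∑ j, (Algebra.TensorProduct.includeLeft : R →ₐ[k] R ⊗[k] H) (c j) •
          theta k H (Algebra.TensorProduct.includeRight : H →ₐ[k] R ⊗[k] H)
            (Algebra.TensorProduct.map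
              (Algebra.TensorProduct.includeLeft : R →ₐ[k] R ⊗[k] H) (AlgHom.id k H)
              (GLin.coactAlgHom k H R (a j))) := by
      rw [hr, map_sum, map_sum]
      refine Finset.sum_congr rfl (fun j _ => ?_)
      rw [map_smul_left k H (Algebra.TensorProduct.includeLeft : R →ₐ[k] R ⊗[k] H), map_smul]
    have e3 : ∑ j, (GLin.coactAlgHom k H R (c j) -
        (Algebra.TensorProduct.includeLeft : R →ₐ[k] R ⊗[k] H) (c j)) •
          theta k H (Algebra.TensorProduct.includeRight : H →ₐ[k] R ⊗[k] H)
            (Algebra.TensorProduct.map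
              (Algebra.TensorProduct.includeLeft : R →ₐ[k] R ⊗[k] H) (AlgHom.id k H)
              (GLin.coactAlgHom k H R (a j))) = 0 := by
      simp only [sub_smul, Finset.sum_sub_distrib]
      rw [← e1, ← e2, hw r, sub_self]
    have h0 := Fintype.linearIndependent_iff.mp hliw _ e3 j
    rw [GLin.mem_invariants_iff]
    exact sub_eq_zero.mp h0
  -- `a` is a basis of `R` over the invariants
  have hliS : LinearIndependent (GLin.invariants k H R) a := by
    rw [Fintype.linearIndependent_iff]
    intro g hg j
    have h1 : ∑ j, ((g j : GLin.invariants k H R) : R) • GLin.coactAlgHom k H R (a j) = 0 := by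
      have h2 := congrArg (GLin.coactAlgHom k H R) hg
      rw [map_sum, map_zero] at h2
      rw [← h2]
      refine Finset.sum_congr rfl (fun j _ => ?_)
      rw [Subalgebra.smul_def, smul_eq_mul, map_mul]
      have hgj : GLin.coactAlgHom k H R ((g j : GLin.invariants k H R) : R) =
          ((g j : GLin.invariants k H R) : R) ⊗ₜ[k] (1 : H) := (g j).2
      rw [hgj, Algebra.smul_def, Algebra.TensorProduct.algebraMap_apply]
      rfl
    have h0 := Fintype.linearIndependent_iff.mp hli _ h1 j
    exact Subtype.ext h0
  have hspS : ⊤ ≤ Submodule.span (GLin.invariants k H R) (Set.range a) := by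
    intro r _
    obtain ⟨c, hr⟩ : ∃ c : Fin (Module.finrank k H) → R, GLin.coactAlgHom k H R r =
        ∑ j, c j • GLin.coactAlgHom k H R (a j) := by
      refine ⟨fun j => (Module.Basis.mk hli hsp.ge).repr (GLin.coactAlgHom k H R r) j, ?_⟩
      have h2 := (Module.Basis.mk hli hsp.ge).sum_repr (GLin.coactAlgHom k H R r)
      simp only [Module.Basis.coe_mk] at h2
      exact h2.symm
    have hc := claim c r hr
    have hrr : r = ∑ j, (⟨c j, hc j⟩ : GLin.invariants k H R) • a j := by
      have h2 := congrArg (epsR k H R) hr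
      rw [epsR_coact, map_sum] at h2
      refine h2.trans ?_
      refine Finset.sum_congr rfl (fun j _ => ?_)
      rw [map_smul, epsR_coact]
      rfl
    rw [hrr]
    exact Submodule.sum_mem _
      (fun j _ => Submodule.smul_mem _ _ (Submodule.subset_span ⟨j, rfl⟩))
  have hnt : Nontrivial (GLin.invariants k H R) :=
    ⟨⟨0, 1, fun h => zero_ne_one (congrArg Subtype.val h)⟩⟩
  refine ⟨Module.Free.of_basis (Module.Basis.mk hliS hspS), ?_⟩
  rw [Module.finrank_eq_card_basis (Module.Basis.mk hliS hspS), Fintype.card_fin]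

end General

/-! ### Application: a subgroup scheme acting by right translations -/

section Quot

variable (k : Type u) [Field k] (A : Type v) [CommRing A] [HopfAlgebra k A] (I : Ideal A)
  [I.IsHopfIdeal k]

/-- The coaction of the subgroup scheme `Spec (A/I)` on `Spec A` by right translation. -/
def rhoQ : A →ₐ[k] A ⊗[k] (A ⧸ I) :=
  (Algebra.TensorProduct.map (AlgHom.id k A) (Ideal.Quotient.mkₐ k I)).comp
    (Bialgebra.comulAlgHom k A)

lemma rhoQ_apply (a : A) : rhoQ k A I a =
    Algebra.TensorProduct.map (AlgHom.id k A) (Ideal.Quotient.mkₐ k I)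
      (Coalgebra.comul (R := k) a) := rfl

set_option synthInstance.maxHeartbeats 400000 in
lemma aux_assoc (z' : A ⊗[k] A) (b : A) :
    TensorProduct.map (LinearMap.id : A →ₗ[k] A)
      (TensorProduct.map (Ideal.Quotient.mkₐ k I).toLinearMap (Ideal.Quotient.mkₐ k I).toLinearMap)
      (TensorProduct.assoc k A A A (z' ⊗ₜ[k] b)) =
    TensorProduct.assoc k A (A ⧸ I) (A ⧸ I)
      ((Algebra.TensorProduct.map (AlgHom.id k A) (Ideal.Quotient.mkₐ k I) z') ⊗ₜ[k]
        (Ideal.Quotient.mkₐ k I b)) := by
  induction z' using TensorProduct.induction_on with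
  | zero => simp
  | tmul a₁ a₂ => simp
  | add x y hx hy => simp only [add_tmul, map_add, hx, hy]

set_option synthInstance.maxHeartbeats 400000 in
lemma aux_L (z : A ⊗[k] A) :
    TensorProduct.map (LinearMap.id : A →ₗ[k] A)
      (TensorProduct.map (Ideal.Quotient.mkₐ k I).toLinearMap (Ideal.Quotient.mkₐ k I).toLinearMap)
      (TensorProduct.assoc k A A A ((Coalgebra.comul (R := k) (A := A)).rTensor A z)) =
    TensorProduct.assoc k A (A ⧸ I) (A ⧸ I)
      (((rhoQ k A I).toLinearMap).rTensor (A ⧸ I)
        (Algebra.TensorProduct.map (AlgHom.id k A) (Ideal.Quotient.mkₐ k I) z)) := by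
  induction z using TensorProduct.induction_on with
  | zero => simp
  | tmul a' b =>
    rw [LinearMap.rTensor_tmul, aux_assoc, Algebra.TensorProduct.map_tmul,
      LinearMap.rTensor_tmul]
    rfl
  | add x y hx hy => simp only [map_add, hx, hy]

set_option synthInstance.maxHeartbeats 400000 in
lemma aux_R (z : A ⊗[k] A) :
    TensorProduct.map (LinearMap.id : A →ₗ[k] A)
      (TensorProduct.map (Ideal.Quotient.mkₐ k I).toLinearMap (Ideal.Quotient.mkₐ k I).toLinearMap)
      ((Coalgebra.comul (R := k) (A := A)).lTensor A z) =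
    (Coalgebra.comul (R := k) (A := A ⧸ I)).lTensor A
      (Algebra.TensorProduct.map (AlgHom.id k A) (Ideal.Quotient.mkₐ k I) z) := by
  induction z using TensorProduct.induction_on with
  | zero => simp
  | tmul a' b =>
    rw [LinearMap.lTensor_tmul, TensorProduct.map_tmul, Algebra.TensorProduct.map_tmul,
      LinearMap.lTensor_tmul]
    rfl
  | add x y hx hy => simp only [map_add, hx, hy]

lemma aux_counit (z : A ⊗[k] A) :
    (Coalgebra.counit (R := k) (A := A ⧸ I)).lTensor A
      (Algebra.TensorProduct.map (AlgHom.id k A) (Ideal.Quotient.mkₐ k I) z) =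
    (Coalgebra.counit (R := k) (A := A)).lTensor A z := by
  induction z using TensorProduct.induction_on with
  | zero => simp
  | tmul a' b =>
    rw [Algebra.TensorProduct.map_tmul, LinearMap.lTensor_tmul, LinearMap.lTensor_tmul]
    rfl
  | add x y hx hy => simp only [map_add, hx, hy]

/-- `A` as a comodule over `A/I` (restriction of the regular comodule). -/
@[reducible] def comodQ : HopfRep.Comod k (A ⧸ I) A where
  coact := (rhoQ k A I).toLinearMap
  coassoc := by
    apply LinearMap.ext
    intro a
    simp only [LinearMap.comp_apply, LinearEquiv.coe_coe, AlgHom.toLinearMap_apply]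
    rw [rhoQ_apply, ← aux_L, Coalgebra.coassoc_apply, aux_R]
  counit_comp := by
    apply LinearMap.ext
    intro a
    simp only [LinearMap.comp_apply, AlgHom.toLinearMap_apply, LinearMap.flip_apply,
      TensorProduct.mk_apply]
    rw [rhoQ_apply, aux_counit, Coalgebra.lTensor_counit_comul]

lemma span_range_rhoQ : Submodule.span A (Set.range (rhoQ k A I)) = ⊤ := by
  rw [eq_top_iff]
  intro y hy
  clear hy
  have hπ : ∀ y : A ⊗[k] (A ⧸ I), ∃ y',
      Algebra.TensorProduct.map (AlgHom.id k A) (Ideal.Quotient.mkₐ k I) y' = y := by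
    intro y
    induction y using TensorProduct.induction_on with
    | zero => exact ⟨0, map_zero _⟩
    | tmul a q =>
      obtain ⟨b, rfl⟩ := Ideal.Quotient.mk_surjective q
      exact ⟨a ⊗ₜ b, by simp⟩
    | add y z hy hz =>
      obtain ⟨y', rfl⟩ := hy
      obtain ⟨z', rfl⟩ := hz
      exact ⟨y' + z', map_add _ _ _⟩
  obtain ⟨y', rfl⟩ := hπ y
  obtain ⟨z, rfl⟩ := theta_surjective k A (AlgHom.id k A) y'
  have hl : ∀ z : A ⊗[k] A, Algebra.TensorProduct.lift (j1 k A (AlgHom.id k A)) (j2 k A A)
      (fun _ _ => Commute.all _ _) z = z := by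
    intro z
    induction z using TensorProduct.induction_on with
    | zero => simp
    | tmul a₁ a₂ => simp [j1, j2]
    | add x y hx hy => simp only [map_add, hx, hy]
  induction z using TensorProduct.induction_on with
  | zero => simp
  | tmul m b =>
    rw [theta_tmul]
    have hgg : gg k A (AlgHom.id k A) b = Coalgebra.comul (R := k) b := by
      have h := AlgHom.convMul_apply (toConv (j1 k A (AlgHom.id k A))) (toConv (j2 k A A)) b
      rw [hl] at h
      exact h
    rw [hgg, map_mul, Algebra.TensorProduct.map_tmul, map_one]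
    have hsm : (AlgHom.id k A) m ⊗ₜ[k] (1 : A ⧸ I) *
        Algebra.TensorProduct.map (AlgHom.id k A) (Ideal.Quotient.mkₐ k I)
          (Coalgebra.comul (R := k) b) = m • rhoQ k A I b :=
      tmul_one_mul k (A ⧸ I) m (rhoQ k A I b)
    rw [hsm]
    exact Submodule.smul_mem _ _ (Submodule.subset_span ⟨b, rfl⟩)
  | add x y hx hy =>
    rw [map_add, map_add]
    exact add_mem hx hy

theorem main [IsAlgClosed k] [Module.Finite k A] :
    Module.Free
        ↥(AlgHom.equalizer
          ((Algebra.TensorProduct.map (AlgHom.id k A) (Ideal.Quotient.mkₐ k I)).comp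
            (Bialgebra.comulAlgHom k A))
          (Algebra.TensorProduct.includeLeft : A →ₐ[k] A ⊗[k] (A ⧸ I))) A ∧
      Module.finrank
        ↥(AlgHom.equalizer
          ((Algebra.TensorProduct.map (AlgHom.id k A) (Ideal.Quotient.mkₐ k I)).comp
            (Bialgebra.comulAlgHom k A))
          (Algebra.TensorProduct.includeLeft : A →ₐ[k] A ⊗[k] (A ⧸ I))) A =
        Module.finrank k (A ⧸ I) := by
  let _ := comodQ k A I
  have : GLin.IsCoactAlg k (A ⧸ I) A := ⟨map_one (rhoQ k A I), map_mul (rhoQ k A I)⟩
  have : Module.Finite k (A ⧸ I) :=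
    Module.Finite.of_surjective (Ideal.Quotient.mkₐ k I).toLinearMap
      (Ideal.Quotient.mkₐ_surjective k I)
  have : Nontrivial A := (Bialgebra.counitAlgHom k A).toRingHom.domain_nontrivial
  have heq : GLin.invariants k (A ⧸ I) A = AlgHom.equalizer
      ((Algebra.TensorProduct.map (AlgHom.id k A) (Ideal.Quotient.mkₐ k I)).comp
        (Bialgebra.comulAlgHom k A))
      (Algebra.TensorProduct.includeLeft : A →ₐ[k] A ⊗[k] (A ⧸ I)) := by
    ext a
    exact Iff.rfl
  have hfree : Submodule.span A (Set.range (GLin.coactAlgHom k (A ⧸ I) A)) = ⊤ :=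
    span_range_rhoQ k A I
  have h := free_of_free_action k (A ⧸ I) A hfree
  rw [heq] at h
  exact h

end Quot

end

end Groth.Agent.H1.FinHopf.FreeAction
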