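import Groth.Agent.H1.FinHopf.PPow

set_option autoImplicit false
set_option linter.unusedSectionVars false
universe u v w

namespace Groth.Agent.H1.FinHopf

open Finset

section MonMore
variable {B : Type v} [CommRing B] {ι : Type w} [Fintype ι] [DecidableEq ι]

lemma mon_inc (x : ι → B) (α : ι → ℕ) (i : ι) : mon x (inc α i) = mon x α * x i := by
  unfold inc
  rw [mon_update, mon_split x α i, pow_succ]
  ring

lemma sum_inc (α : ι → ℕ) (i : ι) : ∑ j, inc α i j = ∑ j, α j + 1 := by
  rw [← Finset.add_sum_erase univ (inc α i) (Finset.mem_univ i),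
    ← Finset.add_sum_erase univ α (Finset.mem_univ i)]
  have h1 : ∑ j ∈ univ.erase i, inc α i j = ∑ j ∈ univ.erase i, α j := by
    apply Finset.sum_congr rfl
    intro j hj
    unfold inc
    rw [Function.update_of_ne (Finset.ne_of_mem_erase hj)]
  rw [h1]
  unfold inc
  rw [Function.update_self]
  omega

lemma prod_mem_pow (V : Ideal B) (s : Finset ι) (f : ι → B) (m : ι → ℕ)
    (hf : ∀ j ∈ s, f j ∈ V ^ m j) : ∏ j ∈ s, f j ∈ V ^ ∑ j ∈ s, m j := by
  rw [← Finset.prod_pow_eq_pow_sum]
  exact Ideal.prod_mem_prod hf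

lemma mon_mem_pow (V : Ideal B) (x : ι → B) (hx : ∀ j, x j ∈ V) (α : ι → ℕ) :
    mon x α ∈ V ^ ∑ j, α j := by
  unfold mon
  exact prod_mem_pow V univ _ α (fun j _ => Ideal.pow_mem_pow (hx j) (α j))

variable {k : Type u} [CommRing k] [Algebra k B]

lemma deriv_pow_mem (D : Derivation k B B) (V : Ideal B) (m : ℕ) :
    ∀ a ∈ V ^ (m + 1), D a ∈ V ^ m := by
  induction m with
  | zero =>
    intro a _
    rw [pow_zero, Ideal.one_eq_top]
    exact Submodule.mem_top
  | succ m ih =>
    intro a ha
    rw [pow_succ] at ha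
    refine Submodule.smul_induction_on (p := fun a => D a ∈ V ^ (m + 1)) ha ?_ ?_
    · intro r hr n hn
      rw [smul_eq_mul, Derivation.leibniz]
      apply Ideal.add_mem
      · rw [smul_eq_mul]
        exact Ideal.mul_mem_right _ _ hr
      · rw [smul_eq_mul, pow_succ']
        exact Ideal.mul_mem_mul hn (ih r hr)
    · intro a b ha hb
      rw [map_add]
      exact Ideal.add_mem _ ha hb

lemma deriv_prod_mem (D : Derivation k B B) (V : Ideal B) (s : Finset ι) (f : ι → B)
    (m : ι → ℕ) (hf : ∀ j ∈ s, f j ∈ V ^ m j) (hDf : ∀ j ∈ s, D (f j) ∈ V ^ m j) :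
    D (∏ j ∈ s, f j) ∈ V ^ ∑ j ∈ s, m j := by
  induction s using Finset.induction_on with
  | empty =>
    rw [Finset.prod_empty, Derivation.map_one_eq_zero]
    exact Ideal.zero_mem _
  | insert a s ha ih =>
    rw [Finset.prod_insert ha, Finset.sum_insert ha, Derivation.leibniz, pow_add]
    apply Ideal.add_mem
    · rw [smul_eq_mul]
      exact Ideal.mul_mem_mul (hf a (Finset.mem_insert_self a s))
        (ih (fun j hj => hf j (Finset.mem_insert_of_mem hj))
          (fun j hj => hDf j (Finset.mem_insert_of_mem hj)))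
    · rw [smul_eq_mul, mul_comm (V ^ m a)]
      exact Ideal.mul_mem_mul
        (prod_mem_pow V s f m (fun j hj => hf j (Finset.mem_insert_of_mem hj)))
        (hDf a (Finset.mem_insert_self a s))

lemma deriv_mon_mod (D : Derivation k B B) (x : ι → B) (V : Ideal B) (i : ι)
    (hx : ∀ j, x j ∈ V) (hD : ∀ j, D (x j) - (if i = j then 1 else 0) ∈ V) (α : ι → ℕ) :
    D (mon x α) - (α i : B) * mon x (dec α i) ∈ V ^ ∑ j, α j := by
  set P : B := ∏ j ∈ univ.erase i, x j ^ α j with hP
  set s : ℕ := ∑ j ∈ univ.erase i, α j with hs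
  have hsum : ∑ j, α j = α i + s := by
    rw [hs, Finset.add_sum_erase univ α (Finset.mem_univ i)]
  have hPmem : P ∈ V ^ s :=
    prod_mem_pow V _ _ α (fun j _ => Ideal.pow_mem_pow (hx j) (α j))
  have hDP : D P ∈ V ^ s := by
    apply deriv_prod_mem D V _ _ α (fun j _ => Ideal.pow_mem_pow (hx j) (α j))
    intro j hj
    rw [Derivation.leibniz_pow]
    apply nsmul_mem
    rw [smul_eq_mul]
    by_cases h0 : α j = 0
    · rw [h0, pow_zero, Ideal.one_eq_top]
      exact Submodule.mem_top
    · have hj' : D (x j) ∈ V := by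
        have := hD j
        rw [if_neg (Finset.ne_of_mem_erase hj).symm, sub_zero] at this
        exact this
      have h1 : x j ^ (α j - 1) * D (x j) ∈ V ^ (α j - 1) * V :=
        Ideal.mul_mem_mul (Ideal.pow_mem_pow (hx j) _) hj'
      rw [← pow_succ] at h1
      have e : α j - 1 + 1 = α j := by omega
      rw [e] at h1
      exact h1
  have e1 : mon x α = x i ^ α i * P := mon_split x α i
  have e2 : mon x (dec α i) = x i ^ (α i - 1) * P := mon_update x α i (α i - 1)
  have e3 : D (mon x α) - (α i : B) * mon x (dec α i) =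
      x i ^ α i * D P + (α i : B) * (x i ^ (α i - 1) * P * (D (x i) - 1)) := by
    rw [e1, e2, Derivation.leibniz, Derivation.leibniz_pow]
    simp only [smul_eq_mul, nsmul_eq_mul]
    ring
  rw [e3, hsum]
  apply Ideal.add_mem
  · rw [pow_add]
    exact Ideal.mul_mem_mul (Ideal.pow_mem_pow (hx i) _) hDP
  · by_cases h0 : α i = 0
    · rw [h0]
      simp
    · have hi' : D (x i) - 1 ∈ V := by
        have := hD i
        rwa [if_pos rfl] at this
      have h1 : x i ^ (α i - 1) * P * (D (x i) - 1) ∈ V ^ (α i - 1) * V ^ s * V :=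
        Ideal.mul_mem_mul (Ideal.mul_mem_mul (Ideal.pow_mem_pow (hx i) _) hPmem) hi'
      rw [← pow_add, ← pow_succ] at h1
      have e : α i - 1 + s + 1 = α i + s := by omega
      rw [e] at h1
      exact Ideal.mul_mem_left _ _ h1

end MonMore

section Indep
variable {k : Type u} [Field k] {B : Type v} [CommRing B] [Algebra k B]
  {ι : Type w} [Fintype ι] [DecidableEq ι]

/-- Monomials of degree `n` are linearly independent modulo `V ^ (n + 1)` when `n!` is
invertible, given derivations approximately dual to the `x i`. -/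
theorem indep_mod (D : ι → Derivation k B B) (x : ι → B) (V : Ideal B) (hV1 : (1 : B) ∉ V)
    (hx : ∀ j, x j ∈ V) (hD : ∀ i j, D i (x j) - (if i = j then 1 else 0) ∈ V) :
    ∀ (n : ℕ), ((n.factorial : ℕ) : k) ≠ 0 → ∀ (S : Finset (ι → ℕ)) (g : (ι → ℕ) → k),
      (∀ α ∈ S, ∑ i, α i = n) → ∑ α ∈ S, g α • mon x α ∈ V ^ (n + 1) →
      ∀ α ∈ S, g α = 0 := by
  intro n
  induction n with
  | zero =>
    intro _ S g hdeg hR α₀ hα₀
    have hzero : ∀ α ∈ S, α = fun _ => 0 := by
      intro α hα
      funext i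
      have h1 := hdeg α hα
      have h2 : α i ≤ ∑ j, α j :=
        Finset.single_le_sum (fun _ _ => Nat.zero_le _) (Finset.mem_univ i)
      omega
    have hsum : ∑ β ∈ S, g β • mon x β = g α₀ • mon x α₀ := by
      apply Finset.sum_eq_single_of_mem α₀ hα₀
      intro β hβ hne
      exact absurd ((hzero β hβ).trans (hzero α₀ hα₀).symm) hne
    have hα0 := hzero α₀ hα₀
    rw [hsum, hα0, mon_zero, zero_add, pow_one] at hR
    rw [hα0]
    by_contra hne
    apply hV1
    have h3 := Submodule.smul_of_tower_mem V (g (fun _ => 0))⁻¹ hR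
    rwa [smul_smul, inv_mul_cancel₀ hne, one_smul] at h3
  | succ n ih =>
    intro hfac S g hdeg hR α₀ hα₀
    have hfac' : ((n.factorial : ℕ) : k) ≠ 0 := by
      intro h
      apply hfac
      rw [Nat.factorial_succ, Nat.cast_mul, h, mul_zero]
    have hunit : ∀ m : ℕ, 0 < m → m ≤ n + 1 → ((m : ℕ) : k) ≠ 0 := by
      intro m hm hmn h
      apply hfac
      obtain ⟨q, hq⟩ := Nat.dvd_factorial hm hmn
      rw [hq, Nat.cast_mul, h, zero_mul]
    have hex : ∃ i, 0 < α₀ i := by
      by_contra hcon
      push Not at hcon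
      have h1 := hdeg α₀ hα₀
      have h2 : ∑ j, α₀ j = 0 := Finset.sum_eq_zero (fun j _ => Nat.le_zero.mp (hcon j))
      omega
    obtain ⟨i, hi₀⟩ := hex
    have h1 : D i (∑ α ∈ S, g α • mon x α) ∈ V ^ (n + 1) :=
      deriv_pow_mem (D i) V (n + 1) _ hR
    have h2 : ∑ α ∈ S, g α • ((α i : B) * mon x (dec α i)) ∈ V ^ (n + 1) := by
      have h3 : ∑ α ∈ S, g α • (D i (mon x α) - (α i : B) * mon x (dec α i)) ∈
          V ^ (n + 1) := by
        apply Ideal.sum_mem
        intro α hα
        apply Submodule.smul_of_tower_mem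
        have := deriv_mon_mod (D i) x V i hx (hD i) α
        rwa [hdeg α hα] at this
      have e : ∑ α ∈ S, g α • ((α i : B) * mon x (dec α i)) =
          D i (∑ α ∈ S, g α • mon x α) -
            ∑ α ∈ S, g α • (D i (mon x α) - (α i : B) * mon x (dec α i)) := by
        rw [map_sum, ← Finset.sum_sub_distrib]
        apply Finset.sum_congr rfl
        intro α _
        rw [Derivation.map_smul, smul_sub]
        abel
      rw [e]
      exact Ideal.sub_mem _ h1 h3
    set Si := S.filter (fun α => 0 < α i) with hSi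
    have h3 : ∑ α ∈ Si, g α • ((α i : B) * mon x (dec α i)) ∈ V ^ (n + 1) := by
      have e : ∑ α ∈ Si, g α • ((α i : B) * mon x (dec α i)) =
          ∑ α ∈ S, g α • ((α i : B) * mon x (dec α i)) := by
        rw [hSi]
        apply Finset.sum_filter_of_ne
        intro α _ hne
        by_contra hcon
        apply hne
        have : α i = 0 := by omega
        rw [this]
        simp
      rw [e]
      exact h2
    have hinj : Set.InjOn (fun α => dec α i) (Si : Set (ι → ℕ)) := by
      intro α hα β hβ hab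
      have ha : 0 < α i := (Finset.mem_filter.mp hα).2
      have hb : 0 < β i := (Finset.mem_filter.mp hβ).2
      have hab' : dec α i = dec β i := hab
      rw [← inc_dec α i ha, ← inc_dec β i hb, hab']
    set g' : (ι → ℕ) → k := fun β => ((β i + 1 : ℕ) : k) * g (inc β i) with hg'
    have h4 : ∑ β ∈ Si.image (fun α => dec α i), g' β • mon x β ∈ V ^ (n + 1) := by
      have e : ∑ β ∈ Si.image (fun α => dec α i), g' β • mon x β =
          ∑ α ∈ Si, g α • ((α i : B) * mon x (dec α i)) := by
        rw [Finset.sum_image hinj]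
        apply Finset.sum_congr rfl
        intro α hα
        have ha : 0 < α i := (Finset.mem_filter.mp hα).2
        have e1 : dec α i i + 1 = α i := by
          unfold dec
          rw [Function.update_self]
          omega
        rw [hg']
        simp only
        rw [inc_dec α i ha, e1]
        simp only [Algebra.smul_def, map_mul, map_natCast]
        ring
      rw [e]
      exact h3
    have h5 := ih hfac' (Si.image (fun α => dec α i)) g' ?_ h4
    · have h6 := h5 (dec α₀ i) (Finset.mem_image_of_mem _ (Finset.mem_filter.mpr ⟨hα₀, hi₀⟩))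
      rw [hg'] at h6
      simp only at h6
      rw [inc_dec α₀ i hi₀] at h6
      have e1 : dec α₀ i i + 1 = α₀ i := by
        unfold dec
        rw [Function.update_self]
        omega
      rw [e1] at h6
      have hle : α₀ i ≤ n + 1 := by
        have := hdeg α₀ hα₀
        have h2 : α₀ i ≤ ∑ j, α₀ j :=
          Finset.single_le_sum (fun _ _ => Nat.zero_le _) (Finset.mem_univ i)
        omega
      exact (mul_eq_zero.mp h6).resolve_left (hunit (α₀ i) hi₀ hle)
    · intro β hβ
      obtain ⟨α, hα, rfl⟩ := Finset.mem_image.mp hβ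
      have ha : 0 < α i := (Finset.mem_filter.mp hα).2
      have := hdeg α (Finset.mem_filter.mp hα).1
      have := sum_dec α i ha
      omega

/-- index type of the monomials of degree `m` -/
abbrev Tm (ι : Type w) [Fintype ι] (m : ℕ) : Type w := {α : ι → ℕ // ∑ j, α j = m}

noncomputable instance instFintypeTm (m : ℕ) : Fintype (Tm ι m) :=
  Fintype.ofEquiv _ (Sym.equivNatSumOfFintype ι m)

lemma card_Tm (m : ℕ) : Fintype.card (Tm ι m) = Nat.choose (Fintype.card ι + m - 1) m := by
  rw [Fintype.card_congr (Sym.equivNatSumOfFintype ι m).symm, Sym.card_sym_eq_choose]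

theorem span_mod (ε : B →ₐ[k] k) (x : ι → B) (hx : ∀ i, ε (x i) = 0)
    (hspan : ∀ v, ε v = 0 → ∃ c : ι → k, v - ∑ i, c i • x i ∈ (RingHom.ker ε) ^ 2) :
    ∀ (n : ℕ), ∀ a ∈ (RingHom.ker ε) ^ n,
      ∃ s ∈ Submodule.span k (Set.range fun α : Tm ι n => mon x α.1),
        a - s ∈ (RingHom.ker ε) ^ (n + 1) := by
  set V : Ideal B := RingHom.ker ε with hV
  have hxV : ∀ j, x j ∈ V := fun j => (RingHom.mem_ker).mpr (hx j)
  have hspanV : ∀ n, ∀ s ∈ Submodule.span k (Set.range fun α : Tm ι n => mon x α.1),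
      s ∈ V ^ n := by
    intro n s hs
    refine Submodule.span_induction (p := fun s _ => s ∈ V ^ n) ?_ ?_ ?_ ?_ hs
    · rintro _ ⟨α, rfl⟩
      have := mon_mem_pow V x hxV α.1
      rwa [α.2] at this
    · exact Ideal.zero_mem _
    · intro a b _ _ ha hb
      exact Ideal.add_mem _ ha hb
    · intro c a _ ha
      exact Submodule.smul_of_tower_mem _ c ha
  intro n
  induction n with
  | zero =>
    intro a _
    refine ⟨ε a • mon x (fun _ => 0), Submodule.smul_mem _ _
      (Submodule.subset_span ⟨⟨fun _ => 0, by simp⟩, rfl⟩), ?_⟩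
    rw [mon_zero, zero_add, pow_one, hV, RingHom.mem_ker, map_sub, map_smul, map_one,
      smul_eq_mul, mul_one, sub_self]
  | succ n ih =>
    intro a ha
    rw [pow_succ] at ha
    refine Submodule.smul_induction_on
      (p := fun a => ∃ s ∈ Submodule.span k (Set.range fun α : Tm ι (n + 1) => mon x α.1),
        a - s ∈ V ^ (n + 1 + 1)) ha ?_ ?_
    · intro r hr v hv
      obtain ⟨s₁, hs₁, h₁⟩ := ih r hr
      obtain ⟨c, hc⟩ := hspan v ((RingHom.mem_ker).mp hv)
      set t : B := ∑ i, c i • x i with ht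
      have hs₁V : s₁ ∈ V ^ n := hspanV n s₁ hs₁
      refine ⟨s₁ * t, ?_, ?_⟩
      · refine Submodule.span_induction
          (p := fun s _ => s * t ∈
            Submodule.span k (Set.range fun α : Tm ι (n + 1) => mon x α.1)) ?_ ?_ ?_ ?_ hs₁
        · rintro _ ⟨α, rfl⟩
          rw [ht, Finset.mul_sum]
          apply Submodule.sum_mem
          intro i _
          rw [mul_smul_comm]
          apply Submodule.smul_mem
          apply Submodule.subset_span
          refine ⟨⟨inc α.1 i, ?_⟩, ?_⟩
          · rw [sum_inc, α.2]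
          · show mon x (inc α.1 i) = mon x α.1 * x i
            exact mon_inc x α.1 i
        · rw [zero_mul]
          exact Submodule.zero_mem _
        · intro a b _ _ ha hb
          rw [add_mul]
          exact Submodule.add_mem _ ha hb
        · intro c a _ ha
          rw [smul_mul_assoc]
          exact Submodule.smul_mem _ c ha
      · have e : r • v - s₁ * t = (r - s₁) * v + s₁ * (v - t) := by
          rw [smul_eq_mul]
          ring
        rw [e]
        apply Ideal.add_mem
        · have : (r - s₁) * v ∈ V ^ (n + 1) * V := Ideal.mul_mem_mul h₁ hv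
          rwa [← pow_succ] at this
        · have : s₁ * (v - t) ∈ V ^ n * V ^ 2 := Ideal.mul_mem_mul hs₁V hc
          rwa [← pow_add] at this
    · rintro a b ⟨s, hs, h⟩ ⟨t, ht, h'⟩
      refine ⟨s + t, Submodule.add_mem _ hs ht, ?_⟩
      have e : a + b - (s + t) = (a - s) + (b - t) := by ring
      rw [e]
      exact Ideal.add_mem _ h h'

theorem finrank_quot_succ (ε : B →ₐ[k] k) (x : ι → B) (D : ι → Derivation k B B)
    (hx : ∀ i, ε (x i) = 0) (hD : ∀ i j, ε (D i (x j)) = if i = j then 1 else 0)
    (hspan : ∀ v, ε v = 0 → ∃ c : ι → k, v - ∑ i, c i • x i ∈ (RingHom.ker ε) ^ 2)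
    (n : ℕ) (hn : ((n.factorial : ℕ) : k) ≠ 0) :
    Module.finrank k (B ⧸ (RingHom.ker ε) ^ (n + 1)) =
      Module.finrank k (B ⧸ (RingHom.ker ε) ^ n) +
        Nat.choose (Fintype.card ι + n - 1) n := by
  classical
  set V : Ideal B := RingHom.ker ε with hV
  have hxV : ∀ j, x j ∈ V := fun j => (RingHom.mem_ker).mpr (hx j)
  have hV1 : (1 : B) ∉ V := by
    intro h
    have := (RingHom.mem_ker).mp h
    rw [map_one] at this
    exact one_ne_zero this
  have hDV : ∀ i j, D i (x j) - (if i = j then 1 else 0) ∈ V := by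
    intro i j
    rw [hV, RingHom.mem_ker, map_sub, hD]
    split_ifs <;> simp
  let π : ∀ m : ℕ, (B ⧸ V ^ (m + 1)) →ₗ[k] (B ⧸ V ^ m) := fun m =>
    (Ideal.Quotient.factorₐ k (Ideal.pow_le_pow_right (Nat.le_succ m))).toLinearMap
  let vv : ∀ m : ℕ, Tm ι m → B ⧸ V ^ (m + 1) := fun m α =>
    Ideal.Quotient.mkₐ k (V ^ (m + 1)) (mon x α.1)
  have hmk0 : ∀ (m : ℕ) (b : B), Ideal.Quotient.mkₐ k (V ^ m) b = 0 ↔ b ∈ V ^ m :=
    fun m b => Ideal.Quotient.eq_zero_iff_mem
  have hπmk : ∀ (m : ℕ) (b : B), π m (Ideal.Quotient.mkₐ k (V ^ (m + 1)) b) =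
      Ideal.Quotient.mkₐ k (V ^ m) b := fun m b => rfl
  have hπsurj : ∀ m, Function.Surjective (π m) := by
    intro m q
    obtain ⟨b, rfl⟩ := Ideal.Quotient.mkₐ_surjective k (V ^ m) q
    exact ⟨Ideal.Quotient.mkₐ k (V ^ (m + 1)) b, hπmk m b⟩
  have hK : ∀ m, LinearMap.ker (π m) = Submodule.span k (Set.range (vv m)) := by
    intro m
    apply le_antisymm
    · intro q hq
      obtain ⟨b, rfl⟩ := Ideal.Quotient.mkₐ_surjective k (V ^ (m + 1)) q
      have hb : b ∈ V ^ m := by
        rw [LinearMap.mem_ker, hπmk] at hq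
        exact (hmk0 m b).mp hq
      obtain ⟨s, hs, hbs⟩ := span_mod ε x hx hspan m b hb
      have e : Ideal.Quotient.mkₐ k (V ^ (m + 1)) b = Ideal.Quotient.mkₐ k (V ^ (m + 1)) s := by
        rw [← sub_eq_zero, ← map_sub]
        exact (hmk0 (m + 1) _).mpr hbs
      rw [e]
      have hmap : Submodule.map ((Ideal.Quotient.mkₐ k (V ^ (m + 1))).toLinearMap)
          (Submodule.span k (Set.range fun α : Tm ι m => mon x α.1)) =
          Submodule.span k (Set.range (vv m)) := by
        rw [Submodule.map_span, ← Set.range_comp]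
        rfl
      rw [← hmap]
      exact Submodule.mem_map_of_mem hs
    · rw [Submodule.span_le]
      rintro _ ⟨α, rfl⟩
      rw [SetLike.mem_coe, LinearMap.mem_ker]
      show π m (Ideal.Quotient.mkₐ k (V ^ (m + 1)) (mon x α.1)) = 0
      rw [hπmk, hmk0]
      have := mon_mem_pow V x hxV α.1
      rwa [α.2] at this
  have hF : ∀ m, Module.Finite k (B ⧸ V ^ m) := by
    intro m
    induction m with
    | zero =>
      haveI : Subsingleton (B ⧸ V ^ 0) := by
        rw [Ideal.Quotient.subsingleton_iff, pow_zero, Ideal.one_eq_top]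
      exact Module.Finite.of_surjective (0 : k →ₗ[k] (B ⧸ V ^ 0))
        (fun q => ⟨0, Subsingleton.elim _ _⟩)
    | succ m ih =>
      haveI := ih
      haveI h1 : Module.Finite k (LinearMap.ker (π m)) := by
        rw [hK m]
        exact Module.Finite.span_of_finite k (Set.finite_range (vv m))
      haveI h2 : Module.Finite k ((B ⧸ V ^ (m + 1)) ⧸ LinearMap.ker (π m)) :=
        Module.Finite.equiv ((π m).quotKerEquivOfSurjective (hπsurj m)).symm
      exact Module.Finite.of_submodule_quotient (LinearMap.ker (π m))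
  haveI := hF (n + 1)
  have hLI : LinearIndependent k (vv n) := by
    rw [linearIndependent_iff']
    intro s g hsum α hα
    set S : Finset (ι → ℕ) := s.map (Function.Embedding.subtype _) with hS
    set g' : (ι → ℕ) → k := fun β => if h : ∑ j, β j = n then g ⟨β, h⟩ else 0 with hg'
    have hg'α : ∀ α : Tm ι n, g' α.1 = g α := by
      intro α
      rw [hg']
      simp only
      rw [dif_pos α.2]
    have h0 : Ideal.Quotient.mkₐ k (V ^ (n + 1)) (∑ β ∈ S, g' β • mon x β) = 0 := by
      rw [hS, Finset.sum_map, map_sum, ← hsum]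
      apply Finset.sum_congr rfl
      intro α _
      rw [map_smul]
      show g' α.1 • vv n α = g α • vv n α
      rw [hg'α]
    have hmem := (hmk0 (n + 1) _).mp h0
    have h7 := indep_mod D x V hV1 hxV hDV n hn S g' ?_ hmem α.1 ?_
    · rw [hg'α] at h7
      exact h7
    · intro β hβ
      obtain ⟨α', _, rfl⟩ := Finset.mem_map.mp hβ
      exact α'.2
    · exact Finset.mem_map_of_mem _ hα
  have h1 := LinearMap.finrank_range_add_finrank_ker (π n)
  rw [LinearMap.range_eq_top.mpr (hπsurj n), finrank_top, hK n, finrank_span_eq_card hLI,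
    card_Tm] at h1
  exact h1.symm

end Indep

end Groth.Agent.H1.FinHopf
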