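import Groth.Agent.H1.FinHopf.GrAug

set_option autoImplicit false
set_option linter.unusedSectionVars false
set_option linter.style.haveILetI false
universe u v

namespace Groth.Agent.H1.FinHopf

open Finset

section HopfData
variable {k : Type u} [Field k] {A : Type v} [CommRing A] [Bialgebra k A]

/-- a functional vanishing on `1` and on the square of the augmentation ideal is an
`ε`-derivation -/
lemma funct_der (φ : A →ₗ[k] k) (h1 : φ 1 = 0)
    (h2 : ∀ w ∈ (RingHom.ker (Bialgebra.counitAlgHom k A)) ^ 2, φ w = 0) (u v : A) :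
    φ (u * v) = Coalgebra.counit (R := k) u * φ v + Coalgebra.counit (R := k) v * φ u := by
  have e : u * v = (u - algebraMap k A (Coalgebra.counit (R := k) u)) *
      (v - algebraMap k A (Coalgebra.counit (R := k) v)) +
      Coalgebra.counit (R := k) u • v + Coalgebra.counit (R := k) v • u -
      (Coalgebra.counit (R := k) u * Coalgebra.counit (R := k) v) • (1 : A) := by
    simp only [Algebra.smul_def, map_mul]
    ring
  have hmemV : ∀ w : A, w - algebraMap k A (Coalgebra.counit (R := k) w) ∈
      RingHom.ker (Bialgebra.counitAlgHom k A) := by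
    intro w
    rw [RingHom.mem_ker, map_sub, Bialgebra.counitAlgHom_apply,
      Bialgebra.counitAlgHom_apply, Bialgebra.counit_algebraMap]
    simp
  have hW1 : (u - algebraMap k A (Coalgebra.counit (R := k) u)) *
      (v - algebraMap k A (Coalgebra.counit (R := k) v)) ∈
      (RingHom.ker (Bialgebra.counitAlgHom k A)) ^ 2 := by
    rw [pow_two]
    exact Ideal.mul_mem_mul (hmemV u) (hmemV v)
  rw [e, map_sub, map_add, map_add, h2 _ hW1, map_smul, map_smul, map_smul, h1]
  simp [smul_eq_mul]

theorem finite_cotangent [Algebra.FiniteType k A] :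
    Module.Finite k (RingHom.ker (Bialgebra.counitAlgHom k A)).Cotangent := by
  set I : Ideal A := RingHom.ker (Bialgebra.counitAlgHom k A) with hI
  haveI : IsNoetherianRing A := Algebra.FiniteType.isNoetherianRing k A
  haveI : Module.Finite A I.Cotangent :=
    Module.Finite.of_surjective I.toCotangent I.toCotangent_surjective
  haveI : Module.Finite (A ⧸ I) I.Cotangent :=
    Module.Finite.of_restrictScalars_finite A (A ⧸ I) I.Cotangent
  haveI : IsScalarTower k (A ⧸ I) I.Cotangent := by
    apply IsScalarTower.of_algebraMap_smul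
    intro c m
    calc algebraMap k (A ⧸ I) c • m = algebraMap A (A ⧸ I) (algebraMap k A c) • m := rfl
      _ = algebraMap k A c • m := algebraMap_smul (A ⧸ I) _ m
      _ = c • m := algebraMap_smul A c m
  have hsurj : Function.Surjective (Bialgebra.counitAlgHom k A) := by
    intro c
    refine ⟨algebraMap k A c, ?_⟩
    rw [AlgHom.commutes]
    rfl
  haveI : Module.Finite k (A ⧸ I) :=
    Module.Finite.equiv (Ideal.quotientKerAlgEquivOfSurjective hsurj).symm.toLinearEquiv
  exact Module.Finite.trans (A ⧸ I) I.Cotangent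

theorem exists_data_cot [Algebra.FiniteType k A] :
    ∃ (x : Fin (Module.finrank k (RingHom.ker (Bialgebra.counitAlgHom k A)).Cotangent) → A)
      (D : Fin (Module.finrank k (RingHom.ker (Bialgebra.counitAlgHom k A)).Cotangent) →
        Derivation k A A),
      (∀ i, Bialgebra.counitAlgHom k A (x i) = 0) ∧
      (∀ i j, Bialgebra.counitAlgHom k A (D i (x j)) = if i = j then 1 else 0) ∧
      (∀ v, Bialgebra.counitAlgHom k A v = 0 →
        ∃ c : Fin (Module.finrank k (RingHom.ker (Bialgebra.counitAlgHom k A)).Cotangent) → k,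
        v - ∑ i, c i • x i ∈ (RingHom.ker (Bialgebra.counitAlgHom k A)) ^ 2) := by
  classical
  haveI := finite_cotangent (k := k) (A := A)
  set I : Ideal A := RingHom.ker (Bialgebra.counitAlgHom k A) with hI
  have hmemI : ∀ a : A, a - algebraMap k A (Bialgebra.counitAlgHom k A a) ∈ I := by
    intro a
    rw [hI, RingHom.mem_ker, map_sub, AlgHom.commutes]
    simp
  let τ : A →ₗ[k] I.Cotangent :=
    { toFun := fun a =>
        I.toCotangent ⟨a - algebraMap k A (Bialgebra.counitAlgHom k A a), hmemI a⟩
      map_add' := by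
        intro a b
        rw [← map_add]
        congr 1
        apply Subtype.ext
        show (a + b) - algebraMap k A (Bialgebra.counitAlgHom k A (a + b)) =
          (a - algebraMap k A (Bialgebra.counitAlgHom k A a)) +
            (b - algebraMap k A (Bialgebra.counitAlgHom k A b))
        rw [map_add, map_add]
        ring
      map_smul' := by
        intro c a
        rw [RingHom.id_apply, ← LinearMap.map_smul_of_tower I.toCotangent c
          ⟨a - algebraMap k A (Bialgebra.counitAlgHom k A a), hmemI a⟩]
        congr 1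
        apply Subtype.ext
        show c • a - algebraMap k A (Bialgebra.counitAlgHom k A (c • a)) =
          c • (a - algebraMap k A (Bialgebra.counitAlgHom k A a))
        rw [map_smul, smul_sub, smul_eq_mul, map_mul, ← Algebra.smul_def] }
  have hτdef : ∀ a, τ a =
      I.toCotangent ⟨a - algebraMap k A (Bialgebra.counitAlgHom k A a), hmemI a⟩ :=
    fun a => rfl
  have hτ1 : τ 1 = 0 := by
    rw [hτdef, Ideal.toCotangent_eq_zero]
    simp
  have hτker : ∀ w, Bialgebra.counitAlgHom k A w = 0 → (τ w = 0 ↔ w ∈ I ^ 2) := by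
    intro w hw
    rw [hτdef, Ideal.toCotangent_eq_zero]
    simp [hw]
  have hτ2 : ∀ w ∈ I ^ 2, τ w = 0 := by
    intro w hw
    have hwI : w ∈ I := Ideal.pow_le_self (by norm_num) hw
    exact (hτker w ((RingHom.mem_ker).mp hwI)).mpr hw
  have hτy : ∀ y : I, τ y.1 = I.toCotangent y := by
    intro y
    have h0 : Bialgebra.counitAlgHom k A y.1 = 0 := (RingHom.mem_ker).mp y.2
    rw [hτdef]
    congr 1
    apply Subtype.ext
    simp [h0]
  let b := Module.finBasis k I.Cotangent
  choose y hy using fun i => Ideal.toCotangent_surjective I (b i)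
  set x : Fin (Module.finrank k I.Cotangent) → A := fun i => (y i).1 with hx
  have hx0 : ∀ i, Bialgebra.counitAlgHom k A (x i) = 0 :=
    fun i => (RingHom.mem_ker).mp (y i).2
  have hτx : ∀ i, τ (x i) = b i := fun i => (hτy (y i)).trans (hy i)
  set φ : Fin (Module.finrank k I.Cotangent) → A →ₗ[k] k := fun i => (b.coord i) ∘ₗ τ with hφ
  have hφ1 : ∀ i, φ i 1 = 0 := by
    intro i
    simp only [hφ, LinearMap.comp_apply, hτ1, map_zero]
  have hφ2 : ∀ i, ∀ w ∈ I ^ 2, φ i w = 0 := by
    intro i w hw
    simp only [hφ, LinearMap.comp_apply, hτ2 w hw, map_zero]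
  have hφx : ∀ i j, φ i (x j) = if i = j then 1 else 0 := by
    intro i j
    simp only [hφ, LinearMap.comp_apply, hτx]
    rw [Module.Basis.coord_apply, Module.Basis.repr_self, Finsupp.single_apply]
    simp [eq_comm]
  refine ⟨x, fun i => Derivation.mk' (Dφ (φ i)) (fun a b => by
    rw [Dφ_mul (φ i) (funct_der (φ i) (hφ1 i) (hφ2 i))]; simp [smul_eq_mul]), hx0, ?_, ?_⟩
  · intro i j
    show Coalgebra.counit (R := k) (Dφ (φ i) (x j)) = _
    rw [counit_Dφ]
    exact hφx i j
  · intro v hv
    refine ⟨fun i => b.repr (τ v) i, ?_⟩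
    set w := v - ∑ i, b.repr (τ v) i • x i with hw
    have hεw : Bialgebra.counitAlgHom k A w = 0 := by
      rw [hw, map_sub, map_sum, hv]
      simp [hx0]
    have hτw : τ w = 0 := by
      rw [hw, map_sub, map_sum]
      simp only [map_smul, hτx]
      rw [b.sum_repr, sub_self]
    exact (hτker w hεw).mp hτw

end HopfData

end Groth.Agent.H1.FinHopf
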