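import Groth.Agent.H1.FinHopf.HeightOne

set_option autoImplicit false
set_option linter.unusedSectionVars false
universe u v

namespace Groth.Agent.H1.FinHopf

open Finset

/-- Generic version of `height_one_basis`: an augmented finite algebra of height `≤ 1` with
approximately dual derivations has the box monomials as a basis. -/
theorem height_one_basis_gen {k : Type u} [Field k] {B : Type v} [CommRing B] [Algebra k B]
    (p : ℕ) [Fact p.Prime] [CharP k p] [Module.Finite k B] (ε : B →ₐ[k] k)
    (h1 : ∀ b : B, ε b = 0 → b ^ p = 0) {n : ℕ} (x : Fin n → B)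
    (D : Fin n → Derivation k B B)
    (hD : ∀ i j, ε (D i (x j)) = if i = j then 1 else 0)
    (hspan : ∀ v, ε v = 0 → ∃ c : Fin n → k, v - ∑ i, c i • x i ∈ (RingHom.ker ε) ^ 2) :
    Function.Bijective (Finsupp.linearCombination k
      (fun α : ↥(Fintype.piFinset (fun _ : Fin n => Finset.range p)) => mon x α.1)) := by
  classical
  haveI : Nontrivial B := (ε : B →+* k).domain_nontrivial
  haveI : CharP B p := charP_of_injective_algebraMap (algebraMap k B).injective p
  have hp : p.Prime := Fact.out
  have hnil : ∀ b, ε b = 0 → IsNilpotent b := fun b hb => ⟨p, h1 b hb⟩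
  have hbot : Algebra.adjoin k (Set.range fun b : B => b ^ p) = ⊥ := by
    rw [eq_bot_iff]
    apply Algebra.adjoin_le
    rintro _ ⟨b, rfl⟩
    have h2 := h1 (b - algebraMap k B (ε b)) (by
      rw [map_sub, AlgHom.commutes]; simp)
    rw [sub_pow_char, sub_eq_zero] at h2
    show b ^ p ∈ (⊥ : Subalgebra k B)
    rw [h2, ← map_pow]
    exact Subalgebra.algebraMap_mem _ _
  have hF := finrank_eq_mul_pow p ε hnil x D hD hspan
  rw [hbot, Subalgebra.finrank_bot, one_mul, Fintype.card_fin] at hF
  obtain ⟨D', hD', hconst'⟩ := exists_exact_deriv ε hnil D x hD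
  set Sbox := Fintype.piFinset (fun _ : Fin n => Finset.range p) with hSbox
  set v : ↥Sbox → B := fun α => mon x α.1 with hv
  have hunits : ∀ m : ℕ, 0 < m → m < p → IsUnit (m : B) := by
    intro m hm hmp
    have h1 : (m : k) ≠ 0 := by
      rw [Ne, CharP.cast_eq_zero_iff k p m]
      exact Nat.not_dvd_of_pos_of_lt hm hmp
    have h2 := (IsUnit.mk0 _ h1).map (algebraMap k B)
    rwa [map_natCast] at h2
  have hli : LinearIndependent k v := by
    rw [Fintype.linearIndependent_iff]
    intro g hg α
    set g' : (Fin n → ℕ) → B :=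
      fun β => if h : β ∈ Sbox then algebraMap k B (g ⟨β, h⟩) else 0 with hg'
    have hsum : ∑ β ∈ Sbox, g' β * mon x β = 0 := by
      rw [← Finset.sum_coe_sort Sbox (fun β => g' β * mon x β), ← hg]
      apply Finset.sum_congr rfl
      intro β _
      rw [hg']
      simp only
      rw [dif_pos β.2, Algebra.smul_def]
    have h3 := indep_of_deriv D' x hD' p hunits (Fintype.card (Fin n) * p) Sbox g' ?_ ?_ ?_ hsum
      α.1 α.2
    · rw [hg'] at h3
      simp only at h3
      rw [dif_pos α.2] at h3
      exact (map_eq_zero_iff _ (algebraMap k B).injective).mp h3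
    · intro β hβ
      have h4 : ∀ i ∈ (Finset.univ : Finset (Fin n)), β i ≤ p := fun i _ =>
        (Finset.mem_range.mp (Fintype.mem_piFinset.mp hβ i)).le
      have h5 := Finset.sum_le_card_nsmul _ _ _ h4
      simpa using h5
    · intro β hβ i
      exact Finset.mem_range.mp (Fintype.mem_piFinset.mp hβ i)
    · intro β i
      rw [hg']
      simp only
      split_ifs with h
      · exact Derivation.map_algebraMap _ _
      · exact map_zero _
  have hcard : Fintype.card ↥Sbox = Module.finrank k B := by
    rw [hF, Fintype.card_coe, Fintype.card_piFinset]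
    simp
  have hsp := hli.span_eq_top_of_card_eq_finrank' hcard
  let bas := Module.Basis.mk hli hsp.ge
  have e : Finsupp.linearCombination k v = (bas.repr.symm : (↥Sbox →₀ k) →ₗ[k] B) := by
    rw [Module.Basis.coe_repr_symm, Module.Basis.coe_mk]
  rw [e]
  exact bas.repr.symm.bijective

end Groth.Agent.H1.FinHopf
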