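import Mathlib
import Groth.Prelude.Def_Red
import Groth.Agent.S15048

/-!
# A commutative finite locally free group scheme of constant rank `r` is killed by `r` (S7782)

Deligne's theorem (`Groth.Agent.S15048.result`, on Hopf algebras) transported to schemes:
affine base via `essImage_hopfSpec` and `Spec.mapMulEquiv`, then globalised over an affine cover.
-/

set_option autoImplicit false
set_option linter.style.haveILetI false
universe u
open CategoryTheory Limits MonoidalCategory CartesianMonoidalCategory MonObj GrpObj AlgebraicGeometry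
  Opposite TensorProduct

namespace Groth.Agent.H1.KillRank

section Alg
variable (R A : Type u) [CommRing R] [CommRing A] [HopfAlgebra R A]

lemma lift_swap_apply (t : A ⊗[R] A) :
    Algebra.TensorProduct.lift (Algebra.TensorProduct.includeRight : A →ₐ[R] A ⊗[R] A)
      (Algebra.TensorProduct.includeLeft : A →ₐ[R] A ⊗[R] A) (fun _ _ => .all ..) t =
      TensorProduct.comm R A A t := by
  induction t using TensorProduct.induction_on with
  | zero => simp
  | tmul a b =>
    rw [Algebra.TensorProduct.lift_tmul]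
    simp [Algebra.TensorProduct.tmul_mul_tmul]
  | add x y hx hy => rw [map_add, map_add, hx, hy]

lemma lift_id_apply (t : A ⊗[R] A) :
    Algebra.TensorProduct.lift (Algebra.TensorProduct.includeLeft : A →ₐ[R] A ⊗[R] A)
      (Algebra.TensorProduct.includeRight : A →ₐ[R] A ⊗[R] A) (fun _ _ => .all ..) t = t := by
  induction t using TensorProduct.induction_on with
  | zero => simp
  | tmul a b =>
    rw [Algebra.TensorProduct.lift_tmul]
    simp [Algebra.TensorProduct.tmul_mul_tmul]
  | add x y hx hy => rw [map_add, hx, hy]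

/-- a Hopf algebra whose `A ⊗ A`-points commute is cocommutative -/
theorem isCocomm_of_comm
    (hc : ∀ x y : WithConv (A →ₐ[R] A ⊗[R] A), x * y = y * x) : Coalgebra.IsCocomm R A := by
  constructor
  apply LinearMap.ext
  intro c
  have h := hc (WithConv.toConv Algebra.TensorProduct.includeLeft)
    (WithConv.toConv Algebra.TensorProduct.includeRight)
  have h1 : (WithConv.toConv (Algebra.TensorProduct.includeLeft : A →ₐ[R] A ⊗[R] A) *
      WithConv.toConv (Algebra.TensorProduct.includeRight : A →ₐ[R] A ⊗[R] A)) c =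
      (WithConv.toConv (Algebra.TensorProduct.includeRight : A →ₐ[R] A ⊗[R] A) *
      WithConv.toConv (Algebra.TensorProduct.includeLeft : A →ₐ[R] A ⊗[R] A)) c := by rw [h]
  rw [AlgHom.convMul_apply, AlgHom.convMul_apply] at h1
  rw [lift_id_apply, lift_swap_apply] at h1
  exact h1.symm

/-- Deligne's theorem on `Spec A` over `Spec R`. -/
theorem pow_id_spec [Coalgebra.IsCocomm R A] [Module.Finite R A] [Module.Projective R A] (n : ℕ)
    (hn : ∀ p : PrimeSpectrum R, Module.rankAtStalk A p = n) :
    (𝟙 ((Spec (CommRingCat.of A)).asOver (Spec (CommRingCat.of R))) :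
      (Spec (CommRingCat.of A)).asOver (Spec (CommRingCat.of R)) ⟶
        (Spec (CommRingCat.of A)).asOver (Spec (CommRingCat.of R))) ^ n = 1 := by
  have h := Groth.Agent.S15048.result R A n hn
  have h2 := congrArg (Spec.mapMulEquiv (R := R) (S := A) (T := A)) h
  rw [map_pow, map_one] at h2
  have h3 : Spec.mapMulEquiv (R := R) (S := A) (T := A) (WithConv.toConv (AlgHom.id R A)) =
      𝟙 ((Spec (CommRingCat.of A)).asOver (Spec (CommRingCat.of R))) := by
    apply Over.OverMorphism.ext
    show Spec.map (CommRingCat.ofHom (AlgHom.id R A).toRingHom) = 𝟙 _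
    have : CommRingCat.ofHom (AlgHom.id R A).toRingHom = 𝟙 (CommRingCat.of A) := rfl
    rw [this, Spec.map_id]
  rw [h3] at h2
  exact h2

end Alg

/-- transport of `(𝟙)^n = 1` along an isomorphism of monoid objects -/
theorem pow_id_of_iso {C : Type*} [Category C] [CartesianMonoidalCategory C] {M N : C}
    [MonObj M] [MonObj N] (e : M ⟶ N) [IsIso e] [IsMonHom e] (n : ℕ)
    (h : (𝟙 M : M ⟶ M) ^ n = 1) : (𝟙 N : N ⟶ N) ^ n = 1 := by
  rw [← cancel_epi e, MonObj.comp_pow, Category.comp_id, MonObj.comp_one]
  have h2 := MonObj.pow_comp (𝟙 M) n e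
  rw [h, Category.id_comp, MonObj.one_comp] at h2
  exact h2.symm

theorem pow_id_of_iso_spec (R A : Type u) [CommRing R] [CommRing A] [HopfAlgebra R A]
    (H : Over (Spec (CommRingCat.of R))) [GrpObj H] [IsCommMonObj H] [IsFinite H.hom] [Flat H.hom]
    [LocallyOfFinitePresentation H.hom]
    (f : (Spec (CommRingCat.of A)).asOver (Spec (CommRingCat.of R)) ⟶ H) [IsIso f] [IsMonHom f]
    (r : ℕ) (hr : ∀ s : ↥(Spec (CommRingCat.of R)), Scheme.Hom.finrank H.hom s = r) :
    (𝟙 H : H ⟶ H) ^ r = 1 := by
  haveI : IsIso f.left := (Over.forget _).map_isIso f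
  have hw : f.left ≫ H.hom = Spec.map (CommRingCat.ofHom (algebraMap R A)) := Over.w f
  haveI hfin : IsFinite (Spec.map (CommRingCat.ofHom (algebraMap R A))) := by
    have h0 : IsFinite (f.left ≫ H.hom) := inferInstance
    rw [hw] at h0; exact h0
  haveI hflat : Flat (Spec.map (CommRingCat.ofHom (algebraMap R A))) := by
    have h0 : Flat (f.left ≫ H.hom) := inferInstance
    rw [hw] at h0; exact h0
  haveI hfp : LocallyOfFinitePresentation (Spec.map (CommRingCat.ofHom (algebraMap R A))) := by
    have h0 : LocallyOfFinitePresentation (f.left ≫ H.hom) := inferInstance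
    rw [hw] at h0; exact h0
  haveI : Module.Finite R A := by
    have h1 := (IsFinite.SpecMap_iff _).1 hfin
    rw [CommRingCat.hom_ofHom] at h1
    exact RingHom.finite_algebraMap.1 h1
  haveI : Module.Flat R A := by
    have h1 := Flat.SpecMap_iff.1 hflat
    rw [CommRingCat.hom_ofHom] at h1
    exact RingHom.flat_algebraMap_iff.1 h1
  haveI : Algebra.FinitePresentation R A := by
    have h1 := (LocallyOfFinitePresentation.SpecMap_iff _).1 hfp
    rw [CommRingCat.hom_ofHom] at h1
    exact RingHom.finitePresentation_algebraMap.1 h1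
  haveI : Module.FinitePresentation R A :=
    Module.FinitePresentation.of_finite_of_finitePresentation R A
  haveI : Module.Projective R A := Module.Flat.projective_of_finitePresentation
  have hn : ∀ p : PrimeSpectrum R, Module.rankAtStalk A p = r := by
    intro p
    have h0 := Scheme.Hom.finrank_comp_left_of_isIso f.left H.hom
    rw [hw] at h0
    have h1 := Scheme.Hom.finrank_SpecMap_algebraMap R A p
    rw [← h1]
    exact (congrFun h0 p).trans (hr p)
  haveI : Coalgebra.IsCocomm R A := by
    apply isCocomm_of_comm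
    intro x y
    apply (Spec.mapMulEquiv (R := R) (S := A) (T := A ⊗[R] A)).injective
    rw [map_mul, map_mul, ← cancel_mono f, MonObj.mul_comp, MonObj.mul_comp, mul_comm]
  exact pow_id_of_iso f r (pow_id_spec R A r hn)

/-- affine base -/
theorem pow_id_affine (R : Type u) [CommRing R] (H : Over (Spec (CommRingCat.of R))) [GrpObj H]
    [IsCommMonObj H] [IsFinite H.hom] [Flat H.hom] [LocallyOfFinitePresentation H.hom] (r : ℕ)
    (hr : ∀ s : ↥(Spec (CommRingCat.of R)), Scheme.Hom.finrank H.hom s = r) :
    (𝟙 H : H ⟶ H) ^ r = 1 := by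
  haveI : IsAffine H.left := isAffine_of_isAffineHom H.hom
  obtain ⟨Y, ⟨e⟩⟩ : (hopfSpec (CommRingCat.of R)).essImage (Grp.mk H) :=
    essImage_hopfSpec.mpr ‹_›
  let f : (Spec (CommRingCat.of ↑(unop Y))).asOver (Spec (CommRingCat.of R)) ⟶ H :=
    e.hom.hom.hom
  haveI : IsIso f := (inferInstance : IsIso ((Grp.forget _).map e.hom))
  haveI : IsMonHom f := (inferInstance : IsMonHom e.hom.hom.hom)
  exact pow_id_of_iso_spec R ↑(unop Y) H f r hr

lemma map_left_fst {S S' : Scheme.{u}} (j : S' ⟶ S) {G G' : Over S} (φ : G ⟶ G') :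
    ((Over.pullback j).map φ).left ≫ pullback.fst G'.hom j = pullback.fst G.hom j ≫ φ.left :=
  pullback.lift_fst _ _ _

lemma hom_ext_of_cover {S : Scheme.{u}} (𝒰 : S.AffineOpenCover) {X Y : Scheme.{u}} (p : X ⟶ S)
    (a b : X ⟶ Y)
    (h : ∀ i, pullback.fst p (𝒰.f i) ≫ a = pullback.fst p (𝒰.f i) ≫ b) : a = b :=
  (𝒰.openCover.pullback₁ p).hom_ext h

section Glob
variable {S : Scheme.{u}} (G : Over S) [GrpObj G]

open scoped CategoryTheory.Obj in
lemma map_pow_id {S' : Scheme.{u}} (j : S' ⟶ S) (r : ℕ) :
    (Over.pullback j).map ((𝟙 G : G ⟶ G) ^ r) =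
      (𝟙 (Red.bc j G) : Red.bc j G ⟶ Red.bc j G) ^ r := by
  have h3 := map_pow ((Over.pullback j).homMonoidHom (X := G) (M := G)) (𝟙 G) r
  simp only [Functor.homMonoidHom_apply] at h3
  rw [h3, CategoryTheory.Functor.map_id]

open scoped CategoryTheory.Obj in
lemma map_one_bc {S' : Scheme.{u}} (j : S' ⟶ S) :
    (Over.pullback j).map (1 : G ⟶ G) = (1 : Red.bc j G ⟶ Red.bc j G) := by
  have h4 := map_one ((Over.pullback j).homMonoidHom (X := G) (M := G))
  simp only [Functor.homMonoidHom_apply] at h4
  exact h4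

variable [IsCommMonObj G] [IsFinite G.hom] [Flat G.hom] [LocallyOfFinitePresentation G.hom]
  (r : ℕ) (hr : ∀ s : S, Scheme.Hom.finrank G.hom s = r)
include hr

open scoped CategoryTheory.Obj in
theorem pow_id_bc (R : CommRingCat.{u}) (j : Spec R ⟶ S) :
    (𝟙 (Red.bc j G) : Red.bc j G ⟶ Red.bc j G) ^ r = 1 := by
  haveI : IsFinite (Red.bc j G).hom := (inferInstance : IsFinite (pullback.snd G.hom j))
  haveI : Flat (Red.bc j G).hom := (inferInstance : Flat (pullback.snd G.hom j))
  haveI : LocallyOfFinitePresentation (Red.bc j G).hom :=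
    (inferInstance : LocallyOfFinitePresentation (pullback.snd G.hom j))
  haveI : IsCommMonObj (Red.bc j G) := Functor.isCommMonObj_obj (F := Over.pullback j)
  refine pow_id_affine ↑R (Red.bc j G) r (fun y => ?_)
  rw [show (Red.bc j G).hom = pullback.snd G.hom j from rfl, Scheme.Hom.finrank_pullback_snd, hr]

theorem pow_id : (𝟙 G : G ⟶ G) ^ r = 1 := by
  apply Over.OverMorphism.ext
  apply hom_ext_of_cover S.affineOpenCover G.hom
  intro i
  have h2 : (Over.pullback (S.affineOpenCover.f i)).map ((𝟙 G : G ⟶ G) ^ r) =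
      (Over.pullback (S.affineOpenCover.f i)).map 1 := by
    rw [map_pow_id, map_one_bc, pow_id_bc G r hr _ (S.affineOpenCover.f i)]
  have h3 := congrArg (fun φ => φ.left ≫ pullback.fst G.hom (S.affineOpenCover.f i)) h2
  simp only [map_left_fst] at h3
  exact h3

/-- S7782 -/
theorem main (T : Over S) (g : T ⟶ G) : g ^ r = 1 := by
  have key : (𝟙 G : G ⟶ G) ^ r = 1 := pow_id G r hr
  have h5 := MonObj.comp_pow (𝟙 G) r g
  rw [key, Category.comp_id, MonObj.comp_one] at h5
  exact h5.symm

end Glob

end Groth.Agent.H1.KillRank
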