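import Groth.Agent.H1.FinHopf.Deriv3
import Groth.Agent.H1.FinHopf.SubBialg

set_option autoImplicit false
set_option linter.unusedSectionVars false
universe u v

namespace Groth.Agent.H1.FinHopf

open TensorProduct

section Dphi
variable {k : Type u} [Field k] {B : Type v} [CommRing B] [Bialgebra k B]

/-- the left invariant operator attached to a functional -/
noncomputable def Dφ (φ : B →ₗ[k] k) : B →ₗ[k] B :=
  (TensorProduct.rid k B).toLinearMap ∘ₗ (LinearMap.lTensor B φ) ∘ₗ Coalgebra.comul

lemma counit_Dφ (φ : B →ₗ[k] k) (b : B) : Coalgebra.counit (R := k) (Dφ φ b) = φ b := by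
  have key : (Coalgebra.counit (R := k) (A := B)) ∘ₗ (TensorProduct.rid k B).toLinearMap ∘ₗ
      (LinearMap.lTensor B φ) =
      φ ∘ₗ (TensorProduct.lid k B).toLinearMap ∘ₗ
        (LinearMap.rTensor B (Coalgebra.counit (R := k) (A := B))) := by
    apply TensorProduct.ext'
    intro a b
    simp [mul_comm]
  have h := LinearMap.congr_fun key (Coalgebra.comul b)
  simp only [LinearMap.comp_apply] at h
  rw [Coalgebra.rTensor_counit_comul] at h
  simp only [LinearEquiv.coe_coe, TensorProduct.lid_tmul, one_smul] at h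
  exact h

lemma Dφ_mul (φ : B →ₗ[k] k)
    (hφ : ∀ u v : B, φ (u * v) =
      Coalgebra.counit (R := k) u * φ v + Coalgebra.counit (R := k) v * φ u)
    (a b : B) : Dφ φ (a * b) = a * Dφ φ b + b * Dφ φ a := by
  set F : B ⊗[k] B →ₗ[k] B :=
    (TensorProduct.rid k B).toLinearMap ∘ₗ (LinearMap.lTensor B φ) with hF
  set G : B ⊗[k] B →ₗ[k] B :=
    (TensorProduct.rid k B).toLinearMap ∘ₗ
      (LinearMap.lTensor B (Coalgebra.counit (R := k) (A := B))) with hG
  have key : ∀ s t : B ⊗[k] B, F (s * t) = G s * F t + G t * F s := by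
    intro s t
    induction s using TensorProduct.induction_on with
    | zero => simp
    | add s₁ s₂ h₁ h₂ => rw [add_mul, map_add, h₁, h₂]; simp only [map_add]; ring
    | tmul u v =>
      induction t using TensorProduct.induction_on with
      | zero => simp
      | add t₁ t₂ h₁ h₂ => rw [mul_add, map_add, h₁, h₂]; simp only [map_add]; ring
      | tmul u' v' =>
        simp only [hF, hG, Algebra.TensorProduct.tmul_mul_tmul, LinearMap.comp_apply,
          LinearMap.lTensor_tmul, LinearEquiv.coe_coe, TensorProduct.rid_tmul, hφ]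
        simp only [Algebra.smul_def, map_add, map_mul]
        ring
  have hGa : ∀ a : B, G (Coalgebra.comul a) = a := by
    intro a
    simp only [hG, LinearMap.comp_apply]
    rw [Coalgebra.lTensor_counit_comul]
    simp
  show F (Coalgebra.comul (a * b)) = a * F (Coalgebra.comul b) + b * F (Coalgebra.comul a)
  rw [Bialgebra.comul_mul, key, hGa, hGa]

lemma exists_ker_pow_eq_bot {B : Type v} [CommRing B] [Algebra k B] [Module.Finite k B]
    (ε : B →ₐ[k] k) (hnil : ∀ b, ε b = 0 → IsNilpotent b) :
    ∃ m, (RingHom.ker ε) ^ m = ⊥ := by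
  haveI : IsNoetherianRing B := IsNoetherianRing.of_finite k B
  have h1 : RingHom.ker ε ≤ nilradical B := fun b hb =>
    (mem_nilradical).mpr (hnil b ((RingHom.mem_ker).mp hb))
  exact (Ideal.FG.isNilpotent_iff_le_nilradical (IsNoetherian.noetherian _)).mpr h1

theorem exists_data [Module.Finite k B] :
    ∃ (n : ℕ) (x : Fin n → B) (D : Fin n → Derivation k B B),
      (∀ i j, Bialgebra.counitAlgHom k B (D i (x j)) = if i = j then 1 else 0) ∧
      (∀ v, Bialgebra.counitAlgHom k B v = 0 → ∃ c : Fin n → k,
        v - ∑ i, c i • x i ∈ (RingHom.ker (Bialgebra.counitAlgHom k B)) ^ 2) := by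
  classical
  set V : Ideal B := RingHom.ker (Bialgebra.counitAlgHom k B) with hV
  set W : Submodule k B := (V ^ 2).restrictScalars k with hW
  set Z : Submodule k B := Submodule.span k {(1 : B)} ⊔ W with hZ
  let bQ := Module.finBasis k (B ⧸ Z)
  set n := Module.finrank k (B ⧸ Z) with hn
  have hsurj := Z.mkQ_surjective
  choose x₀ hx₀ using fun i => hsurj (bQ i)
  set x : Fin n → B :=
    fun i => x₀ i - algebraMap k B (Coalgebra.counit (R := k) (x₀ i)) with hx
  have h1Z : (1 : B) ∈ Z := Submodule.mem_sup_left (Submodule.mem_span_singleton_self 1)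
  have hmk1 : Z.mkQ 1 = 0 := by
    rw [Submodule.mkQ_apply]
    exact (Submodule.Quotient.mk_eq_zero Z).mpr h1Z
  have hxQ : ∀ i, Z.mkQ (x i) = bQ i := by
    intro i
    rw [hx]
    simp only
    rw [map_sub, hx₀, Algebra.algebraMap_eq_smul_one, map_smul, hmk1, smul_zero, sub_zero]
  have hcx : ∀ i, Coalgebra.counit (R := k) (x i) = 0 := by
    intro i
    rw [hx]
    simp only
    rw [map_sub, Bialgebra.counit_algebraMap]
    simp
  set φ : Fin n → B →ₗ[k] k := fun i => (bQ.coord i) ∘ₗ Z.mkQ with hφ
  have hφZ : ∀ i, ∀ z ∈ Z, φ i z = 0 := by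
    intro i z hz
    simp only [hφ, LinearMap.comp_apply]
    rw [Submodule.mkQ_apply, (Submodule.Quotient.mk_eq_zero Z).mpr hz]
    simp
  have hφder : ∀ i, ∀ u v : B, φ i (u * v) =
      Coalgebra.counit (R := k) u * φ i v + Coalgebra.counit (R := k) v * φ i u := by
    intro i u v
    have e : u * v = (u - algebraMap k B (Coalgebra.counit (R := k) u)) *
        (v - algebraMap k B (Coalgebra.counit (R := k) v)) +
        Coalgebra.counit (R := k) u • v + Coalgebra.counit (R := k) v • u -
        (Coalgebra.counit (R := k) u * Coalgebra.counit (R := k) v) • (1 : B) := by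
      simp only [Algebra.smul_def, map_mul]
      ring
    have hmemV : ∀ w : B, w - algebraMap k B (Coalgebra.counit (R := k) w) ∈ V := by
      intro w
      rw [hV, RingHom.mem_ker, map_sub, Bialgebra.counitAlgHom_apply,
        Bialgebra.counitAlgHom_apply, Bialgebra.counit_algebraMap]
      simp
    have hW1 : (u - algebraMap k B (Coalgebra.counit (R := k) u)) *
        (v - algebraMap k B (Coalgebra.counit (R := k) v)) ∈ Z := by
      apply Submodule.mem_sup_right
      refine (Submodule.restrictScalars_mem k _ _).mpr ?_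
      rw [pow_two]
      exact Ideal.mul_mem_mul (hmemV u) (hmemV v)
    rw [e, map_sub, map_add, map_add, hφZ i _ hW1, map_smul, map_smul, map_smul,
      hφZ i 1 h1Z]
    simp [smul_eq_mul]
  refine ⟨n, x, fun i => Derivation.mk' (Dφ (φ i)) (fun a b => by
    rw [Dφ_mul (φ i) (hφder i)]; simp [smul_eq_mul]), ?_, ?_⟩
  · intro i j
    show Coalgebra.counit (R := k) (Dφ (φ i) (x j)) = _
    rw [counit_Dφ]
    simp only [hφ, LinearMap.comp_apply]
    rw [hxQ, Module.Basis.coord_apply, Module.Basis.repr_self, Finsupp.single_apply]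
    simp [eq_comm]
  · intro v hv
    refine ⟨fun i => bQ.repr (Z.mkQ v) i, ?_⟩
    have hmemZ : v - ∑ i, (bQ.repr (Z.mkQ v) i) • x i ∈ Z := by
      rw [← Submodule.Quotient.mk_eq_zero Z, ← Submodule.mkQ_apply, map_sub, map_sum]
      simp only [map_smul, hxQ]
      rw [Module.Basis.sum_repr, sub_self]
    obtain ⟨y, hy, w, hw, hyw⟩ := Submodule.mem_sup.mp hmemZ
    obtain ⟨c, rfl⟩ := Submodule.mem_span_singleton.mp hy
    have h0 : Coalgebra.counit (R := k) (v - ∑ i, (bQ.repr (Z.mkQ v) i) • x i) = 0 := by
      rw [map_sub, map_sum]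
      have hv' : Coalgebra.counit (R := k) v = 0 := hv
      rw [hv']
      simp [hcx]
    have hwV : w ∈ V := Ideal.pow_le_self (by norm_num) hw
    have hw0 : Coalgebra.counit (R := k) w = 0 := by
      rw [hV, RingHom.mem_ker] at hwV
      exact hwV
    rw [← hyw, map_add, map_smul, hw0, Bialgebra.counit_one] at h0
    have hc0 : c = 0 := by simpa using h0
    rw [← hyw, hc0, zero_smul, zero_add]
    exact hw

end Dphi

section Frob
variable {k : Type u} [Field k] {B : Type v} [CommRing B] [Bialgebra k B]

/-- the subalgebra generated by `p`-th powers -/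
def frobSub (k : Type u) [Field k] (B : Type v) [CommRing B] [Bialgebra k B] (p : ℕ) :
    Subalgebra k B := Algebra.adjoin k (Set.range fun b : B => b ^ p)

lemma frob_stable (p : ℕ) [Fact p.Prime] [CharP k p] :
    ∀ b ∈ frobSub k B p, Coalgebra.comul (R := k) b ∈ (incl₂ (frobSub k B p)).range := by
  haveI : Nontrivial (B ⊗[k] B) :=
    (((Algebra.TensorProduct.lmul' k).comp
      (Algebra.TensorProduct.map (Bialgebra.counitAlgHom k B) (Bialgebra.counitAlgHom k B)) :
        B ⊗[k] B →ₐ[k] k) : B ⊗[k] B →+* k).domain_nontrivial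
  haveI : CharP (B ⊗[k] B) p :=
    charP_of_injective_algebraMap (algebraMap k (B ⊗[k] B)).injective p
  have hpow : ∀ t : B ⊗[k] B, t ^ p ∈ (incl₂ (frobSub k B p)).range := by
    intro t
    induction t using TensorProduct.induction_on with
    | zero =>
      rw [zero_pow (Fact.out : p.Prime).ne_zero]
      exact Subalgebra.zero_mem _
    | tmul u v =>
      rw [Algebra.TensorProduct.tmul_pow]
      exact ⟨(⟨u ^ p, Algebra.subset_adjoin ⟨u, rfl⟩⟩ : frobSub k B p) ⊗ₜ
        (⟨v ^ p, Algebra.subset_adjoin ⟨v, rfl⟩⟩ : frobSub k B p), rfl⟩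
    | add s t hs ht =>
      rw [add_pow_char]
      exact Subalgebra.add_mem _ hs ht
  have hle : frobSub k B p ≤
      Subalgebra.comap (Bialgebra.comulAlgHom k B) (incl₂ (frobSub k B p)).range := by
    apply Algebra.adjoin_le
    rintro _ ⟨b, rfl⟩
    show Bialgebra.comulAlgHom k B (b ^ p) ∈ (incl₂ (frobSub k B p)).range
    rw [map_pow]
    exact hpow _
  intro b hb
  exact hle hb

end Frob

section Main
variable {k : Type u} [Field k]

lemma finrank_eq_one_of_data_zero {B : Type v} [CommRing B] [Algebra k B] [Module.Finite k B]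
    (ε : B →ₐ[k] k) (hnil : ∀ b, ε b = 0 → IsNilpotent b) (x : Fin 0 → B)
    (hspan : ∀ v, ε v = 0 → ∃ c : Fin 0 → k, v - ∑ i, c i • x i ∈ (RingHom.ker ε) ^ 2) :
    Module.finrank k B = 1 := by
  haveI : Nontrivial B := (ε : B →+* k).domain_nontrivial
  have hgen := adjoin_eq_top_of_cotangent ε (exists_ker_pow_eq_bot ε hnil) x hspan
  have h1 : Set.range x = ∅ := Set.range_eq_empty x
  rw [h1, Algebra.adjoin_empty] at hgen
  have h2 : Module.finrank k (⊤ : Subalgebra k B) = Module.finrank k B :=
    (Subalgebra.topEquiv (R := k) (A := B)).toLinearEquiv.finrank_eq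
  rw [← h2, ← hgen]
  exact Subalgebra.finrank_bot

/-- A finite-dimensional commutative bialgebra with nilpotent augmentation ideal over a field of
characteristic `p` has dimension a power of `p`. -/
theorem finrank_eq_pow (p : ℕ) [Fact p.Prime] [CharP k p] :
    ∀ (d : ℕ) (B : Type v) [CommRing B] [Bialgebra k B] [Module.Finite k B],
      (∀ b : B, Coalgebra.counit (R := k) b = 0 → IsNilpotent b) →
      Module.finrank k B = d → ∃ r, d = p ^ r := by
  intro d
  induction d using Nat.strong_induction_on with
  | _ d ih =>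
    intro B _ _ _ hnil hd
    have hp : p.Prime := Fact.out
    haveI : Nontrivial B := (Bialgebra.counitAlgHom k B : B →+* k).domain_nontrivial
    obtain ⟨n, x, D, hD, hspan⟩ := exists_data (k := k) (B := B)
    have hnil' : ∀ b, Bialgebra.counitAlgHom k B b = 0 → IsNilpotent b := hnil
    by_cases hn : n = 0
    · subst hn
      refine ⟨0, ?_⟩
      rw [← hd, pow_zero]
      exact finrank_eq_one_of_data_zero (Bialgebra.counitAlgHom k B) hnil' x hspan
    · have hF := finrank_eq_mul_pow p (Bialgebra.counitAlgHom k B) hnil' x D hD hspan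
      rw [Fintype.card_fin] at hF
      change Module.finrank k B = Module.finrank k ↥(frobSub k B p) * p ^ n at hF
      letI : Bialgebra k ↥(frobSub k B p) := subBialgebra (frobSub k B p) (frob_stable p)
      haveI : IsNoetherian k B := inferInstance
      haveI : Module.Finite k ↥(frobSub k B p) :=
        Module.Finite.of_injective (frobSub k B p).val.toLinearMap Subtype.val_injective
      have hpos : 0 < Module.finrank k ↥(frobSub k B p) := Module.finrank_pos
      have hpn : 2 ≤ p ^ n := by
        calc 2 ≤ p := hp.two_le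
          _ = p ^ 1 := (pow_one p).symm
          _ ≤ p ^ n := Nat.pow_le_pow_right hp.pos (by omega)
      have hlt : Module.finrank k ↥(frobSub k B p) < d := by
        rw [← hd, hF]
        nlinarith
      obtain ⟨r, hr⟩ := ih _ hlt ↥(frobSub k B p) (fun b hb => by
        have h1 : IsNilpotent (b : B) := hnil (b : B) hb
        obtain ⟨m, hm⟩ := h1
        exact ⟨m, Subtype.ext (by simpa using hm)⟩) rfl
      exact ⟨r + n, by rw [← hd, hF, hr, pow_add]⟩

theorem finrank_eq_one_of_charZero [CharZero k] (B : Type v) [CommRing B] [Bialgebra k B]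
    [Module.Finite k B]
    (hnil : ∀ b : B, Coalgebra.counit (R := k) b = 0 → IsNilpotent b) :
    Module.finrank k B = 1 := by
  obtain ⟨n, x, D, hD, hspan⟩ := exists_data (k := k) (B := B)
  have hnil' : ∀ b, Bialgebra.counitAlgHom k B b = 0 → IsNilpotent b := hnil
  have hemp := isEmpty_of_charZero (Bialgebra.counitAlgHom k B) hnil' x D hD
  have hn : n = 0 := by
    by_contra h
    exact hemp.false (⟨0, Nat.pos_of_ne_zero h⟩ : Fin n)
  subst hn
  exact finrank_eq_one_of_data_zero (Bialgebra.counitAlgHom k B) hnil' x hspan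

/-- Unified statement with the exponential characteristic. -/
theorem exists_finrank_eq_ringExpChar_pow (B : Type v) [CommRing B] [Bialgebra k B]
    [Module.Finite k B]
    (hnil : ∀ b : B, Coalgebra.counit (R := k) b = 0 → IsNilpotent b) :
    ∃ r, Module.finrank k B = ringExpChar k ^ r := by
  obtain ⟨p, hp⟩ := CharP.exists k
  rcases CharP.char_is_prime_or_zero k p with hprime | h0
  · haveI := Fact.mk hprime
    haveI : ExpChar k p := ExpChar.prime hprime
    rw [ringExpChar.eq k p]
    obtain ⟨r, hr⟩ := finrank_eq_pow (k := k) p _ B hnil rfl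
    exact ⟨r, hr⟩
  · subst h0
    haveI : CharZero k := CharP.charP_to_charZero k
    refine ⟨0, ?_⟩
    rw [pow_zero]
    exact finrank_eq_one_of_charZero B hnil

end Main

end Groth.Agent.H1.FinHopf
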