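import Groth.Agent.H84.OT1
import Groth.Agent.H1.FinHopf.HeightOne
import Groth.Agent.S16069
import Groth.Agent.S16071
import Groth.Agent.S15829
import Groth.Prelude.Def_CartDual2
import Groth.Prelude.Def_ConstGrp
import Groth.Prelude.Def_AlphaP
import Mathlib

/-!
# Group schemes of prime order over an algebraically closed field of characteristic `p`

`ℤ/ℓ`, and for `ℓ = p` also `μ_p` and `α_p`.
-/

set_option autoImplicit false
set_option linter.unusedSectionVars false
set_option linter.style.haveILetI false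
universe u v w

namespace Groth.Agent.H1.FinHopf.PrimeClass

open WithConv TensorProduct

noncomputable section

/-! ### the pairing of the tensor square of the function algebra is injective -/

section Pair
variable (R : Type u) [CommRing R] (G : Type v) [Fintype G] [DecidableEq G]

theorem pair_injective : Function.Injective (ConstGrp.pair R G) := by
  have key : ∀ (s : ConstGrp.F R G ⊗[R] ConstGrp.F R G) (ab : G × G),
      ((ConstGrp.basis R G).tensorProduct (ConstGrp.basis R G)).repr s ab =
        ConstGrp.pair R G s ab := by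
    intro s
    induction s using TensorProduct.induction_on with
    | zero => intro ab; simp
    | tmul u v =>
      rintro ⟨a, b⟩
      have h1 : (ConstGrp.basis R G).repr u a = u a := Pi.basisFun_repr R G u a
      have h2 : (ConstGrp.basis R G).repr v b = v b := Pi.basisFun_repr R G v b
      rw [Module.Basis.tensorProduct_repr_tmul_apply, ConstGrp.pair_tmul, smul_eq_mul, h1, h2,
        mul_comm]
    | add x y hx hy =>
      intro ab
      rw [map_add, map_add, Finsupp.add_apply, ConstGrp.add_apply, hx, hy]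
  intro t t' h
  apply ((ConstGrp.basis R G).tensorProduct (ConstGrp.basis R G)).repr.injective
  ext ab
  rw [key, key, h]

end Pair

/-! ### the étale case: as many points as the dimension -/

section Etale
variable {k : Type u} [Field k] {H : Type v} [CommRing H] [HopfAlgebra k H]
  {Γ : Type w}

/-- evaluate at a family of points -/
def pointsHom (θ : Γ → WithConv (H →ₐ[k] k)) : H →ₐ[k] ConstGrp.F k Γ :=
  (ConstGrp.equivFun k Γ).symm.toAlgHom.comp
    (AlgHom.pi (R := k) (A := fun _ : Γ => k) (fun γ => (θ γ).ofConv))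

theorem pointsHom_apply (θ : Γ → WithConv (H →ₐ[k] k)) (a : H) (γ : Γ) :
    pointsHom θ a γ = (θ γ).ofConv a := rfl

theorem pair_map_pointsHom (θ : Γ → WithConv (H →ₐ[k] k)) (t : H ⊗[k] H) (γ γ' : Γ) :
    ConstGrp.pair k Γ (Algebra.TensorProduct.map (pointsHom θ) (pointsHom θ) t) (γ, γ') =
      LinearMap.mul' k k
        (TensorProduct.map (θ γ).ofConv.toLinearMap (θ γ').ofConv.toLinearMap t) := by
  induction t using TensorProduct.induction_on with
  | zero => simp
  | tmul x y =>
    rw [Algebra.TensorProduct.map_tmul, ConstGrp.pair_tmul, TensorProduct.map_tmul,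
      LinearMap.mul'_apply]
    rfl
  | add x y hx hy => simp only [map_add, ConstGrp.add_apply, hx, hy]

variable [Module.Finite k H] [Group Γ] [Fintype Γ] [DecidableEq Γ]

theorem nonempty_bialgEquiv_constGrp (θ : Γ ≃* WithConv (H →ₐ[k] k))
    (hrank : Module.finrank k H = Fintype.card Γ) :
    Nonempty (H ≃ₐc[k] ConstGrp.F k Γ) := by
  have hcounit : (Bialgebra.counitAlgHom k (ConstGrp.F k Γ)).comp (pointsHom (⇑θ)) =
      Bialgebra.counitAlgHom k H := by
    apply AlgHom.ext
    intro a
    show (θ 1).ofConv a = CoalgebraStruct.counit (R := k) a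
    rw [map_one θ]
    rfl
  have hcomul : (Algebra.TensorProduct.map (pointsHom (⇑θ)) (pointsHom (⇑θ))).comp
      (Bialgebra.comulAlgHom k H) =
      (Bialgebra.comulAlgHom k (ConstGrp.F k Γ)).comp (pointsHom (⇑θ)) := by
    apply AlgHom.ext
    intro a
    apply pair_injective k Γ
    apply ConstGrp.ext
    rintro ⟨γ, γ'⟩
    have hL := pair_map_pointsHom (⇑θ) (CoalgebraStruct.comul (R := k) a) γ γ'
    have hR := ConstGrp.pair_comul k Γ (pointsHom (⇑θ) a) γ γ'
    have hmul := Groth.Agent.H84.OT.algHom_conv_apply (θ γ) (θ γ') a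
    rw [← map_mul θ] at hmul
    exact hL.trans (hmul.symm.trans hR.symm)
  have hcardΓ : Nat.card (H →ₐ[k] k) = Module.finrank k H := by
    rw [hrank, ← Nat.card_eq_fintype_card]
    exact (Nat.card_congr (θ.toEquiv.trans (WithConv.equiv (H →ₐ[k] k)))).symm
  have hspan := Groth.Agent.H84.OT.span_points_eq_top (K := k) (A := H) hcardΓ
  have hinj : Function.Injective (pointsHom (⇑θ)) := by
    rw [injective_iff_map_eq_zero]
    intro a ha
    have h0 : ∀ g : H →ₐ[k] k, g a = 0 := by
      intro g
      have h1 : (θ (θ.symm (toConv g))).ofConv a = 0 :=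
        congrArg (fun f : ConstGrp.F k Γ => f (θ.symm (toConv g))) ha
      rw [θ.apply_symm_apply] at h1
      exact h1
    apply (Module.forall_dual_apply_eq_zero_iff k a).1
    intro f
    have hf : f ∈ Submodule.span k
        (Set.range (AlgHom.toLinearMap : (H →ₐ[k] k) → H →ₗ[k] k)) := by
      rw [hspan]; exact Submodule.mem_top
    induction hf using Submodule.span_induction with
    | mem f hf =>
      obtain ⟨g, rfl⟩ := hf
      exact h0 g
    | zero => rfl
    | add x y _ _ hx hy => rw [LinearMap.add_apply, hx, hy, add_zero]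
    | smul c x _ hx => rw [LinearMap.smul_apply, hx, smul_zero]
  have hsurj : Function.Surjective (pointsHom (⇑θ)) := by
    have hfr : Module.finrank k H = Module.finrank k (ConstGrp.F k Γ) := by
      rw [hrank, Module.finrank_eq_card_basis (ConstGrp.basis k Γ)]
    exact (LinearMap.injective_iff_surjective_of_finrank_eq_finrank hfr
      (f := (pointsHom (⇑θ)).toLinearMap)).1 hinj
  exact ⟨BialgEquiv.ofBijective (BialgHom.ofAlgHom (pointsHom (⇑θ)) hcounit hcomul)
    ⟨hinj, hsurj⟩⟩

end Etale

theorem etale_case (k : Type u) [Field k] (H : Type v) [CommRing H] [HopfAlgebra k H]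
    [Module.Finite k H] (ℓ : ℕ) [Fact ℓ.Prime] (hH : Module.finrank k H = ℓ)
    (hcard : Nat.card (WithConv (H →ₐ[k] k)) = ℓ) :
    Nonempty (H ≃ₐc[k] ConstGrp.F k (Multiplicative (ZMod ℓ))) := by
  have hΓ : Nat.card (Multiplicative (ZMod ℓ)) = ℓ :=
    (Nat.card_congr Multiplicative.toAdd).trans (Nat.card_zmod ℓ)
  have θ : Multiplicative (ZMod ℓ) ≃* WithConv (H →ₐ[k] k) :=
    mulEquivOfPrimeCardEq (p := ℓ) hΓ hcard
  apply nonempty_bialgEquiv_constGrp θ
  rw [hH, ← Nat.card_eq_fintype_card, hΓ]

/-! ### duality -/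

section Dual
variable (k : Type u) [Field k]

theorem eval_bijective (A : Type v) [Ring A] [Bialgebra k A] [Module.Finite k A] :
    Function.Bijective (CartDual.eval k A) := by
  constructor
  · rw [injective_iff_map_eq_zero]
    intro a ha
    apply (Module.forall_dual_apply_eq_zero_iff k a).1
    intro f
    have h1 : (CartDual.eval k A a).ofConv (toConv f) = f a := rfl
    rw [ha] at h1
    exact h1.symm
  · intro ξ
    obtain ⟨a, ha⟩ := (Module.bijective_dual_eval k A).2
      (ξ.ofConv ∘ₗ (CartDual.toDual k A).symm.toLinearMap)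
    refine ⟨a, ?_⟩
    apply WithConv.ext
    apply LinearMap.ext
    intro x
    exact LinearMap.congr_fun ha x.ofConv

theorem nonempty_dualEquiv {B₁ : Type v} [Ring B₁] [Bialgebra k B₁] [Module.Finite k B₁]
    {B₂ : Type w} [Ring B₂] [Bialgebra k B₂] [Module.Finite k B₂] (e : B₁ ≃ₐc[k] B₂) :
    Nonempty (CartDual.D k B₂ ≃ₐc[k] CartDual.D k B₁) := by
  refine ⟨BialgEquiv.ofBijective (CartDual.transpose k e.toBialgHom) ⟨?_, ?_⟩⟩
  · intro x y hxy
    apply WithConv.ext
    apply LinearMap.ext
    intro b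
    have h : x.ofConv (e (e.symm b)) = y.ofConv (e (e.symm b)) :=
      congrArg (fun z : CartDual.D k B₁ => z.ofConv (e.symm b)) hxy
    rw [BialgEquiv.apply_symm_apply] at h
    exact h
  · intro y
    refine ⟨CartDual.transpose k e.symm.toBialgHom y, ?_⟩
    apply WithConv.ext
    apply LinearMap.ext
    intro a
    show y.ofConv (e.symm (e a)) = y.ofConv a
    rw [BialgEquiv.symm_apply_apply]

end Dual

/-! ### recognising `α_p` -/

theorem nonempty_bialgEquiv_alphaP (p : ℕ) [Fact p.Prime] (k : Type u) [Field k] [CharP k p]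
    (B : Type v) [CommRing B] [Bialgebra k B] [Module.Finite k B]
    (hB : Module.finrank k B = p) (ξ : B)
    (hcomul : Coalgebra.comul (R := k) ξ = ξ ⊗ₜ[k] (1 : B) + (1 : B) ⊗ₜ[k] ξ)
    (hcounit : Coalgebra.counit (R := k) ξ = 0)
    (hpow : ξ ^ p = 0)
    (hli : LinearIndependent k (fun j : Fin p => ξ ^ (j : ℕ))) :
    Nonempty (AlphaP.A p k ≃ₐc[k] B) := by
  have hfx : AlphaP.lift p k ξ hpow (AlphaP.x p k) = ξ := AlphaP.lift_x ξ hpow
  have h1 : (Bialgebra.counitAlgHom k B).comp (AlphaP.lift p k ξ hpow) =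
      Bialgebra.counitAlgHom k (AlphaP.A p k) := by
    apply AlphaP.algHom_ext
    rw [AlgHom.comp_apply, hfx]
    show Coalgebra.counit (R := k) ξ = Coalgebra.counit (R := k) (AlphaP.x p k)
    rw [hcounit, AlphaP.counit_x]
  have h2 : (Algebra.TensorProduct.map (AlphaP.lift p k ξ hpow) (AlphaP.lift p k ξ hpow)).comp
      (Bialgebra.comulAlgHom k (AlphaP.A p k)) =
      (Bialgebra.comulAlgHom k B).comp (AlphaP.lift p k ξ hpow) := by
    apply AlphaP.algHom_ext
    rw [AlgHom.comp_apply, AlgHom.comp_apply, hfx]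
    show Algebra.TensorProduct.map (AlphaP.lift p k ξ hpow) (AlphaP.lift p k ξ hpow)
      (Coalgebra.comul (R := k) (AlphaP.x p k)) = Coalgebra.comul (R := k) ξ
    rw [AlphaP.comul_x, hcomul, map_add, Algebra.TensorProduct.map_tmul,
      Algebra.TensorProduct.map_tmul, hfx, map_one]
  have hsurj : Function.Surjective (AlphaP.lift p k ξ hpow) := by
    have hspan : Submodule.span k (Set.range (fun j : Fin p => ξ ^ (j : ℕ))) = ⊤ :=
      hli.span_eq_top_of_card_eq_finrank' (by rw [Fintype.card_fin, hB])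
    intro b
    have hb : b ∈ Submodule.span k (Set.range (fun j : Fin p => ξ ^ (j : ℕ))) := by
      rw [hspan]; exact Submodule.mem_top
    induction hb using Submodule.span_induction with
    | mem y hy =>
      obtain ⟨j, rfl⟩ := hy
      exact ⟨AlphaP.x p k ^ (j : ℕ), by rw [map_pow, hfx]⟩
    | zero => exact ⟨0, map_zero _⟩
    | add y z _ _ hy hz =>
      obtain ⟨y', rfl⟩ := hy
      obtain ⟨z', rfl⟩ := hz
      exact ⟨y' + z', map_add _ y' z'⟩
    | smul c y _ hy =>
      obtain ⟨y', rfl⟩ := hy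
      exact ⟨c • y', map_smul _ c y'⟩
  have hinj : Function.Injective (AlphaP.lift p k ξ hpow) := by
    have hfr : Module.finrank k (AlphaP.A p k) = Module.finrank k B := by
      rw [AlphaP.finrank_eq, hB]
    exact (LinearMap.injective_iff_surjective_of_finrank_eq_finrank hfr
      (f := (AlphaP.lift p k ξ hpow).toLinearMap)).2 hsurj
  exact ⟨BialgEquiv.ofBijective (BialgHom.ofAlgHom (AlphaP.lift p k ξ hpow) h1 h2)
    ⟨hinj, hsurj⟩⟩

/-! ### a point derivation in the local case -/

theorem exists_point_derivation (k : Type u) [Field k] (p : ℕ) (hp1 : 1 < p)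
    (A : Type v) [CommRing A] [Bialgebra k A] [Module.Finite k A]
    (hA : Module.finrank k A = p)
    (hnil : (RingHom.ker (Bialgebra.counitAlgHom k A)) ^ p = ⊥) :
    ∃ (φ : A →ₗ[k] k) (x : A),
      (∀ u v : A, φ (u * v) = CoalgebraStruct.counit (R := k) u * φ v +
        CoalgebraStruct.counit (R := k) v * φ u) ∧
      CoalgebraStruct.counit (R := k) x = 0 ∧ φ x = 1 := by
  obtain ⟨n, x, D, hx, hD, hspan⟩ := exists_data' (k := k) (B := A)
  have hnil' : ∀ b, Bialgebra.counitAlgHom k A b = 0 → IsNilpotent b := by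
    intro b hb
    refine ⟨p, ?_⟩
    have h1 : b ^ p ∈ (RingHom.ker (Bialgebra.counitAlgHom k A)) ^ p :=
      Ideal.pow_mem_pow ((RingHom.mem_ker).2 hb) p
    rw [hnil] at h1
    exact Ideal.mem_bot.1 h1
  have hn : n ≠ 0 := by
    rintro rfl
    have h1 := finrank_eq_one_of_data_zero (Bialgebra.counitAlgHom k A) hnil' x hspan
    rw [hA] at h1
    omega
  obtain ⟨m, rfl⟩ := Nat.exists_eq_succ_of_ne_zero hn
  refine ⟨(Bialgebra.counitAlgHom k A).toLinearMap ∘ₗ (D 0).toLinearMap, x 0, ?_, hx 0, ?_⟩
  · intro u v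
    show Bialgebra.counitAlgHom k A (D 0 (u * v)) = _
    rw [Derivation.leibniz, map_add, smul_eq_mul, smul_eq_mul, map_mul, map_mul]
    rfl
  · show Bialgebra.counitAlgHom k A (D 0 (x 0)) = 1
    rw [hD 0 0, if_pos rfl]

/-! ### the local case -/

theorem local_case (k : Type u) [Field k] [IsAlgClosed k] (p : ℕ) [Fact p.Prime] [CharP k p]
    (A : Type v) [CommRing A] [HopfAlgebra k A] [Module.Finite k A]
    (hA : Module.finrank k A = p)
    (hnil : (RingHom.ker (Bialgebra.counitAlgHom k A)) ^ p = ⊥) :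
    Nonempty (A ≃ₐc[k] MonoidAlgebra k (Multiplicative (ZMod p))) ∨
      Nonempty (A ≃ₐc[k] AlphaP.A p k) := by
  have hp : p.Prime := Fact.out
  haveI : Coalgebra.IsCocomm k A :=
    Groth.Agent.H84.OT.isCocomm_of_finrank_prime k A p hp hA
  obtain ⟨φ, x, hφ, hx, hφx⟩ := exists_point_derivation k p hp.one_lt A hA hnil
  have hfact := Groth.Agent.H84.OT.factorial_ne_zero_of_nilpotent k A p hp hA hnil
  have hli := Groth.Agent.H84.OT.linearIndependent_convPow p hfact φ hφ x hx hφx
  have hD : Module.finrank k (CartDual.D k A) = p :=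
    ((CartDual.toDual k A).finrank_eq.trans Subspace.dual_finrank_eq).trans hA
  rcases Groth.Agent.H84.OT.card_points_or_nilpotent k (CartDual.D k A) p hp hD with
    hcard | ⟨_, hnilD⟩
  · left
    obtain ⟨e₁⟩ := etale_case k (CartDual.D k A) p hD hcard
    obtain ⟨e₂⟩ := nonempty_dualEquiv k e₁
    obtain ⟨e₃, _⟩ := Groth.Agent.S16069.result k (Multiplicative (ZMod p))
    exact ⟨((BialgEquiv.ofBijective (CartDual.eval k A) (eval_bijective k A)).trans
      e₂.symm).trans e₃⟩
  · right
    have hφ1 : φ 1 = 0 := by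
      have h := hφ 1 1
      rw [mul_one, Bialgebra.counit_one, one_mul] at h
      linear_combination -h
    have hprim : Coalgebra.comul (R := k) (toConv φ : CartDual.D k A) =
        (toConv φ : CartDual.D k A) ⊗ₜ[k] (1 : CartDual.D k A) +
          (1 : CartDual.D k A) ⊗ₜ[k] (toConv φ : CartDual.D k A) :=
      Groth.Agent.S15829.result k A (toConv φ) hφ
    have hcounit : Coalgebra.counit (R := k) (toConv φ : CartDual.D k A) = 0 := hφ1
    have hξp : (toConv φ : CartDual.D k A) ^ p = 0 := by
      have h1 : (toConv φ : CartDual.D k A) ∈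
          RingHom.ker (Bialgebra.counitAlgHom k (CartDual.D k A)) :=
        (RingHom.mem_ker).2 hcounit
      have h2 := Ideal.pow_mem_pow h1 p
      rw [hnilD] at h2
      exact Ideal.mem_bot.1 h2
    obtain ⟨e₁⟩ := nonempty_bialgEquiv_alphaP p k (CartDual.D k A) hD (toConv φ) hprim hcounit
      hξp hli
    obtain ⟨e₂⟩ := nonempty_dualEquiv k e₁
    obtain ⟨e₃, _⟩ := Groth.Agent.S16071.result p k
    exact ⟨((BialgEquiv.ofBijective (CartDual.eval k A) (eval_bijective k A)).trans
      e₂).trans e₃⟩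

/-! ### the classification -/

theorem main (k : Type u) [Field k] [IsAlgClosed k]
    (p : ℕ) [Fact p.Prime] [CharP k p] (A : Type v) [CommRing A] [HopfAlgebra k A]
    (ℓ : ℕ) [Fact ℓ.Prime] (hA : Module.finrank k A = ℓ) :
    (ℓ ≠ p → Nonempty (A ≃ₐc[k] ConstGrp.F k (Multiplicative (ZMod ℓ)))) ∧
      (ℓ = p → Nonempty (A ≃ₐc[k] ConstGrp.F k (Multiplicative (ZMod p))) ∨
        Nonempty (A ≃ₐc[k] MonoidAlgebra k (Multiplicative (ZMod p))) ∨
        Nonempty (A ≃ₐc[k] AlphaP.A p k)) := by
  have hℓ : ℓ.Prime := Fact.out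
  have hp : p.Prime := Fact.out
  haveI : Module.Finite k A := Module.finite_of_finrank_pos (by rw [hA]; exact hℓ.pos)
  rcases Groth.Agent.H84.OT.card_points_or_nilpotent k A ℓ hℓ hA with hcard | ⟨_, hnil⟩
  · have hE := etale_case k A ℓ hA hcard
    refine ⟨fun _ => hE, fun h => ?_⟩
    subst h
    exact Or.inl hE
  · have hnil' : ∀ b : A, Coalgebra.counit (R := k) b = 0 → IsNilpotent b := by
      intro b hb
      refine ⟨ℓ, ?_⟩
      have hb' : Bialgebra.counitAlgHom k A b = 0 := hb
      have h1 : b ^ ℓ ∈ (RingHom.ker (Bialgebra.counitAlgHom k A)) ^ ℓ :=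
        Ideal.pow_mem_pow ((RingHom.mem_ker).2 hb') ℓ
      rw [hnil] at h1
      exact Ideal.mem_bot.1 h1
    obtain ⟨r, hr⟩ := finrank_eq_pow (k := k) p ℓ A hnil' hA
    have hℓp : ℓ = p := by
      have hr0 : r ≠ 0 := by
        rintro rfl
        rw [pow_zero] at hr
        exact hℓ.one_lt.ne' hr
      have hdvd : p ∣ ℓ := by
        rw [hr]
        exact dvd_pow_self p hr0
      exact ((Nat.prime_dvd_prime_iff_eq hp hℓ).1 hdvd).symm
    subst hℓp
    exact ⟨fun h => absurd rfl h, fun _ => Or.inr (local_case k ℓ A hA hnil)⟩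

end

end Groth.Agent.H1.FinHopf.PrimeClass
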