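import Groth.Agent.H1.FinHopf.PrimeClass
import Groth.Agent.S16853
import Mathlib

/-!
# A non-reduced finite group scheme over an algebraically closed field of characteristic `p`
contains `μ_p` or `α_p`
-/

set_option autoImplicit false
set_option linter.unusedSectionVars false
set_option linter.style.haveILetI false
universe u v w

namespace Groth.Agent.H1.FinHopf.SubMuAlpha

open WithConv TensorProduct Groth.Agent.H1.FinHopf.PrimeClass

noncomputable section

/-! ### `p`-th powers of sums of commuting elements -/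

section AddPow
variable (p : ℕ) [hp : Fact p.Prime] (k : Type u) [CommRing k] [CharP k p]

theorem add_pow_p {B : Type v} [Ring B] [Algebra k B] {a b : B} (hab : Commute a b) :
    (a + b) ^ p = a ^ p + b ^ p := by
  obtain ⟨r, hr⟩ := hab.exists_add_pow_prime_eq hp.out
  rw [hr, AlphaP.natCast_eq_zero p k B, zero_mul, zero_mul, zero_mul, add_zero]

theorem neg_pow_p {B : Type v} [Ring B] [Algebra k B] (b : B) : (-b) ^ p = -(b ^ p) := by
  have h := add_pow_p p k ((Commute.refl b).neg_left)
  rw [neg_add_cancel, zero_pow hp.out.ne_zero] at h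
  exact eq_neg_of_add_eq_zero_left h.symm

end AddPow

/-! ### the span of the iterated `p`-th powers of an element -/

section PSpan
variable (p : ℕ) [hp : Fact p.Prime] (k : Type u) [Field k] [CharP k p]
  {B : Type v} [Ring B] [Algebra k B]

def pspan (y : B) : Submodule k B := Submodule.span k (Set.range fun i : ℕ => y ^ (p ^ i))

theorem self_mem_pspan (y : B) : y ∈ pspan p k y :=
  Submodule.subset_span ⟨0, by simp⟩

theorem commute_pspan (y : B) {a b : B} (ha : a ∈ pspan p k y) (hb : b ∈ pspan p k y) :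
    Commute a b := by
  have h1 : ∀ n : ℕ, ∀ b ∈ pspan p k y, Commute (y ^ n) b := by
    intro n b hb
    induction hb using Submodule.span_induction with
    | mem w hw =>
      obtain ⟨i, rfl⟩ := hw
      exact (Commute.refl y).pow_pow n (p ^ i)
    | zero => exact Commute.zero_right _
    | add u v _ _ hu hv => exact hu.add_right hv
    | smul c u _ hu => exact hu.smul_right c
  induction ha using Submodule.span_induction with
  | mem w hw =>
    obtain ⟨i, rfl⟩ := hw
    exact h1 _ b hb
  | zero => exact Commute.zero_left _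
  | add u v _ _ hu hv => exact hu.add_left hv
  | smul c u _ hu => exact hu.smul_left c

theorem pow_mem_pspan (y : B) {a : B} (ha : a ∈ pspan p k y) : a ^ p ∈ pspan p k y := by
  induction ha using Submodule.span_induction with
  | mem w hw =>
    obtain ⟨i, rfl⟩ := hw
    rw [← pow_mul, ← pow_succ]
    exact Submodule.subset_span ⟨i + 1, rfl⟩
  | zero =>
    rw [zero_pow hp.out.ne_zero]
    exact Submodule.zero_mem _
  | add u v hu hv hu' hv' =>
    rw [add_pow_p p k (commute_pspan p k y hu hv)]
    exact Submodule.add_mem _ hu' hv'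
  | smul c u hu hu' =>
    rw [smul_pow]
    exact Submodule.smul_mem _ _ hu'

/-- the `p`-th power map on the span of the iterated `p`-th powers -/
def frobS (y : B) : ↥(pspan p k y) →+ ↥(pspan p k y) where
  toFun a := ⟨(a : B) ^ p, pow_mem_pspan p k y a.2⟩
  map_zero' := Subtype.ext (zero_pow hp.out.ne_zero)
  map_add' a b := Subtype.ext (add_pow_p p k (commute_pspan p k y a.2 b.2))

theorem frobS_smul (y : B) (c : k) (a : ↥(pspan p k y)) :
    frobS p k y (c • a) = c ^ p • frobS p k y a :=
  Subtype.ext (smul_pow c (a : B) p)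

end PSpan

/-! ### semilinear algebra -/

section SL
variable (k : Type u) [Field k] [IsAlgClosed k] (p : ℕ) [hp : Fact p.Prime] [CharP k p]
  (V : Type v) [AddCommGroup V] [Module k V] [FiniteDimensional k V]

theorem semilinear_surjective (F : V →+ V) (hF : ∀ (c : k) (v : V), F (c • v) = c ^ p • F v)
    (hinj : Function.Injective F) : Function.Surjective F := by
  classical
  have hroot : ∀ c : k, ∃ r : k, r ^ p = c := fun c =>
    IsAlgClosed.exists_pow_nat_eq c hp.out.pos
  have hli : LinearIndependent k (fun i => F (Module.finBasis k V i)) := by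
    rw [Fintype.linearIndependent_iff]
    intro g hg i
    choose r hr using fun j => hroot (g j)
    have h1 : F (∑ j, r j • Module.finBasis k V j) = 0 := by
      rw [map_sum, ← hg]
      apply Finset.sum_congr rfl
      intro j _
      rw [hF, hr]
    have h2 : ∑ j, r j • Module.finBasis k V j = 0 := hinj (h1.trans (map_zero F).symm)
    have h3 := Fintype.linearIndependent_iff.1 (Module.finBasis k V).linearIndependent r h2 i
    rw [← hr i, h3, zero_pow hp.out.ne_zero]
  have hspan : Submodule.span k (Set.range fun i => F (Module.finBasis k V i)) = ⊤ :=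
    hli.span_eq_top_of_card_eq_finrank' (by rw [Fintype.card_fin])
  intro w
  have hw : w ∈ Submodule.span k (Set.range fun i => F (Module.finBasis k V i)) := by
    rw [hspan]; exact Submodule.mem_top
  obtain ⟨c, hc⟩ := (Submodule.mem_span_range_iff_exists_fun k).1 hw
  choose r hr using fun j => hroot (c j)
  refine ⟨∑ j, r j • Module.finBasis k V j, ?_⟩
  rw [map_sum, ← hc]
  apply Finset.sum_congr rfl
  intro j _
  rw [hF, hr]

theorem exists_fixed_or_killed [Nontrivial V] (F : V →+ V)
    (hF : ∀ (c : k) (v : V), F (c • v) = c ^ p • F v) :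
    ∃ v : V, v ≠ 0 ∧ (F v = 0 ∨ F v = v) := by
  by_cases hker : ∃ v : V, v ≠ 0 ∧ F v = 0
  · obtain ⟨v, hv, h0⟩ := hker
    exact ⟨v, hv, Or.inl h0⟩
  · have hinj : Function.Injective F := by
      rw [injective_iff_map_eq_zero]
      intro v hv
      by_contra hne
      exact hker ⟨v, hne, hv⟩
    have hsurj : Function.Surjective F := semilinear_surjective k p V F hF hinj
    obtain ⟨ι, b, hb⟩ := Groth.Agent.S16853.result k p 1 le_rfl V F
      (fun a v => by rw [pow_one]; exact hF a v) ⟨hinj, hsurj⟩
    obtain ⟨i⟩ := b.index_nonempty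
    exact ⟨b i, b.ne_zero i, Or.inr (hb i)⟩

end SL

/-! ### primitive elements of the dual -/

section Prim
variable (p : ℕ) [hp : Fact p.Prime] (k : Type u) [Field k] [CharP k p]
  (A : Type v) [CommRing A] [Bialgebra k A] [Module.Finite k A]

def IsPrim (z : CartDual.D k A) : Prop :=
  Coalgebra.comul (R := k) z = z ⊗ₜ[k] (1 : CartDual.D k A) + (1 : CartDual.D k A) ⊗ₜ[k] z

theorem isPrim_iff (z : CartDual.D k A) : IsPrim k A z ↔
    Coalgebra.comul (R := k) z = z ⊗ₜ[k] (1 : CartDual.D k A) + (1 : CartDual.D k A) ⊗ₜ[k] z :=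
  Iff.rfl

theorem isPrim_pow {z : CartDual.D k A} (hz : IsPrim k A z) : IsPrim k A (z ^ p) := by
  have h1 : Coalgebra.comul (R := k) (z ^ p) = (Coalgebra.comul (R := k) z) ^ p :=
    map_pow (Bialgebra.comulAlgHom k (CartDual.D k A)) z p
  have hcomm : Commute (z ⊗ₜ[k] (1 : CartDual.D k A)) ((1 : CartDual.D k A) ⊗ₜ[k] z) := by
    show _ * _ = _ * _
    rw [Algebra.TensorProduct.tmul_mul_tmul, Algebra.TensorProduct.tmul_mul_tmul, mul_one,
      one_mul]
  rw [isPrim_iff] at hz ⊢
  have h2 : (z ⊗ₜ[k] (1 : CartDual.D k A) + (1 : CartDual.D k A) ⊗ₜ[k] z) ^ p =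
      (z ⊗ₜ[k] (1 : CartDual.D k A)) ^ p + ((1 : CartDual.D k A) ⊗ₜ[k] z) ^ p :=
    add_pow_p p k (B := CartDual.D k A ⊗[k] CartDual.D k A) hcomm
  rw [h1, hz, h2, Algebra.TensorProduct.tmul_pow, Algebra.TensorProduct.tmul_pow, one_pow]

theorem isPrim_pow_pow {y : CartDual.D k A} (hy : IsPrim k A y) (i : ℕ) :
    IsPrim k A (y ^ (p ^ i)) := by
  induction i with
  | zero => rw [pow_zero, pow_one]; exact hy
  | succ i ih => rw [pow_succ, pow_mul]; exact isPrim_pow p k A ih

theorem isPrim_of_mem_pspan {y : CartDual.D k A} (hy : IsPrim k A y) {z : CartDual.D k A}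
    (hz : z ∈ pspan p k y) : IsPrim k A z := by
  induction hz using Submodule.span_induction with
  | mem w hw =>
    obtain ⟨i, rfl⟩ := hw
    exact isPrim_pow_pow p k A hy i
  | zero =>
    rw [isPrim_iff, map_zero, TensorProduct.zero_tmul, TensorProduct.tmul_zero, add_zero]
  | add u v _ _ hu hv =>
    rw [isPrim_iff] at hu hv ⊢
    rw [map_add, hu, hv, TensorProduct.add_tmul, TensorProduct.tmul_add]
    abel
  | smul c u _ hu =>
    rw [isPrim_iff] at hu ⊢
    rw [map_smul, hu, smul_add, TensorProduct.smul_tmul', TensorProduct.tmul_smul]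

theorem isPrim_apply_mul {z : CartDual.D k A} (hz : IsPrim k A z) (a b : A) :
    z.ofConv (a * b) = CoalgebraStruct.counit (R := k) a * z.ofConv b +
      CoalgebraStruct.counit (R := k) b * z.ofConv a := by
  have h := CartDual.ev₂_coalgebra_comul_tmul k A z a b
  rw [(isPrim_iff k A z).1 hz, map_add, LinearMap.add_apply, CartDual.ev₂_tmul,
    CartDual.ev₂_tmul] at h
  have e1 : (1 : CartDual.D k A) b = CoalgebraStruct.counit (R := k) b := rfl
  have e2 : (1 : CartDual.D k A) a = CoalgebraStruct.counit (R := k) a := rfl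
  rw [e1, e2] at h
  have h' : z.ofConv (a * b) = z.ofConv a * CoalgebraStruct.counit (R := k) b +
      CoalgebraStruct.counit (R := k) a * z.ofConv b := h.symm
  rw [h']
  ring

theorem exists_dual_vector (z : CartDual.D k A) (hz0 : z ≠ 0)
    (hzd : ∀ a b : A, z.ofConv (a * b) = CoalgebraStruct.counit (R := k) a * z.ofConv b +
      CoalgebraStruct.counit (R := k) b * z.ofConv a) :
    ∃ x' : A, CoalgebraStruct.counit (R := k) x' = 0 ∧ z.ofConv x' = 1 := by
  have hz1 : z.ofConv 1 = 0 := by
    have h := hzd 1 1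
    rw [mul_one, Bialgebra.counit_one, one_mul] at h
    linear_combination -h
  obtain ⟨a, ha⟩ : ∃ a, z.ofConv a ≠ 0 := by
    by_contra hcon
    exact hz0 (WithConv.ext (LinearMap.ext fun a => by_contra fun h => hcon ⟨a, h⟩))
  refine ⟨(z.ofConv a)⁻¹ • (a - algebraMap k A (CoalgebraStruct.counit (R := k) a)), ?_, ?_⟩
  · have h1 : CoalgebraStruct.counit (R := k)
        (algebraMap k A (CoalgebraStruct.counit (R := k) a)) =
        CoalgebraStruct.counit (R := k) a :=
      (Bialgebra.counitAlgHom k A).commutes _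
    rw [map_smul, map_sub, h1, sub_self, smul_zero]
  · rw [map_smul, map_sub, Algebra.algebraMap_eq_smul_one, map_smul, hz1, smul_zero, sub_zero,
      smul_eq_mul, inv_mul_cancel₀ ha]

theorem exists_prim_fixed_or_killed [IsAlgClosed k] (y : CartDual.D k A) (hy : IsPrim k A y)
    (hy0 : y ≠ 0) :
    ∃ z : CartDual.D k A, z ≠ 0 ∧ IsPrim k A z ∧ (z ^ p = 0 ∨ z ^ p = z) := by
  haveI : Nontrivial ↥(pspan p k y) :=
    nontrivial_of_ne (⟨y, self_mem_pspan p k y⟩ : ↥(pspan p k y)) 0
      (fun h => hy0 (congrArg Subtype.val h))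
  obtain ⟨v, hv0, hv⟩ := exists_fixed_or_killed k p ↥(pspan p k y) (frobS p k y)
    (frobS_smul p k y)
  refine ⟨(v : CartDual.D k A), fun h => hv0 (Subtype.ext h),
    isPrim_of_mem_pspan p k A hy v.2, ?_⟩
  rcases hv with h | h
  · left; exact congrArg Subtype.val h
  · right; exact congrArg Subtype.val h

end Prim

/-! ### the Hopf algebra `k[X]/(X^p - cX)` with `X` primitive -/

namespace PG

open Polynomial

section Alg
variable (p : ℕ) [hp : Fact p.Prime] (k : Type u) [Field k] (c : k)

def rel : k[X] := X ^ p - C c * X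

theorem rel_monic : (rel p k c).Monic :=
  monic_X_pow_sub (lt_of_le_of_lt (degree_C_mul_X_le c) (by exact_mod_cast hp.out.one_lt))

theorem rel_natDegree : (rel p k c).natDegree = p := by
  have h1 : (C c * X : k[X]).natDegree < (X ^ p : k[X]).natDegree := by
    rw [natDegree_X_pow]
    exact lt_of_le_of_lt ((natDegree_C_mul_le c X).trans natDegree_X_le) hp.out.one_lt
  rw [rel, natDegree_sub_eq_left_of_natDegree_lt h1, natDegree_X_pow]

abbrev A : Type u := AdjoinRoot (rel p k c)

instance instFinite : Module.Finite k (A p k c) := (rel_monic p k c).finite_adjoinRoot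

def x : A p k c := AdjoinRoot.root (rel p k c)

theorem x_pow : x p k c ^ p = c • x p k c := by
  have h : AdjoinRoot.mk (rel p k c) (X ^ p - C c * X) = 0 := AdjoinRoot.mk_self
  rw [map_sub, map_pow, map_mul, AdjoinRoot.mk_X, AdjoinRoot.mk_C, sub_eq_zero] at h
  rw [Algebra.smul_def, AdjoinRoot.algebraMap_eq]
  exact h

def lift {B : Type v} [Ring B] [Algebra k B] (b : B) (hb : b ^ p = c • b) : A p k c →ₐ[k] B :=
  Ideal.Quotient.liftₐ (Ideal.span {rel p k c}) (aeval b) (by
    intro a ha
    obtain ⟨q, rfl⟩ := Ideal.mem_span_singleton'.1 ha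
    rw [map_mul, rel, map_sub, map_pow, map_mul, aeval_X, aeval_C, hb, Algebra.smul_def, sub_self,
      mul_zero])

theorem lift_x {B : Type v} [Ring B] [Algebra k B] (b : B) (hb : b ^ p = c • b) :
    lift p k c b hb (x p k c) = b := by
  show aeval b (X : k[X]) = b
  exact aeval_X b

theorem algHom_ext {B : Type v} [Semiring B] [Algebra k B] {f g : A p k c →ₐ[k] B}
    (h : f (x p k c) = g (x p k c)) : f = g :=
  AdjoinRoot.algHom_ext h

def basis : Module.Basis (Fin p) k (A p k c) :=
  (AdjoinRoot.powerBasis' (rel_monic p k c)).basis.reindex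
    (finCongr (by rw [AdjoinRoot.powerBasis'_dim, rel_natDegree]))

theorem basis_apply (i : Fin p) : basis p k c i = x p k c ^ (i : ℕ) := by
  simp only [basis, Module.Basis.reindex_apply, finCongr_symm, finCongr_apply,
    PowerBasis.coe_basis, AdjoinRoot.powerBasis'_gen, Fin.val_cast]
  rfl

theorem finrank_eq : Module.finrank k (A p k c) = p := by
  rw [Module.finrank_eq_card_basis (basis p k c), Fintype.card_fin]

theorem linearIndependent_pow : LinearIndependent k (fun j : Fin p => x p k c ^ (j : ℕ)) := by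
  have h : (fun j : Fin p => x p k c ^ (j : ℕ)) = ⇑(basis p k c) :=
    funext fun j => (basis_apply p k c j).symm
  rw [h]
  exact (basis p k c).linearIndependent

theorem x_ne_zero : x p k c ≠ 0 := by
  have h := (linearIndependent_pow p k c).ne_zero ⟨1, hp.out.one_lt⟩
  simpa using h

theorem injective_of_li {B : Type v} [Ring B] [Algebra k B] (f : A p k c →ₗ[k] B) (w : B)
    (hf : ∀ j : Fin p, f (x p k c ^ (j : ℕ)) = w ^ (j : ℕ))
    (hli : LinearIndependent k (fun j : Fin p => w ^ (j : ℕ))) : Function.Injective f := by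
  have h : f = (basis p k c).constr k (fun j : Fin p => w ^ (j : ℕ)) := by
    apply (basis p k c).ext
    intro i
    rw [Module.Basis.constr_basis, basis_apply]
    exact hf i
  rw [h]
  exact (basis p k c).injective_constr_of_linearIndependent (R₂ := k) hli

end Alg

section Hopf
variable (p : ℕ) [hp : Fact p.Prime] (k : Type u) [Field k] [CharP k p] (c : k)

theorem comul_rel : (x p k c ⊗ₜ[k] (1 : A p k c) + (1 : A p k c) ⊗ₜ[k] x p k c) ^ p =
    c • (x p k c ⊗ₜ[k] (1 : A p k c) + (1 : A p k c) ⊗ₜ[k] x p k c) := by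
  rw [add_pow_p p k (Commute.all _ _), Algebra.TensorProduct.tmul_pow,
    Algebra.TensorProduct.tmul_pow, one_pow, x_pow, smul_add, TensorProduct.smul_tmul',
    TensorProduct.tmul_smul]

def comulAlg : A p k c →ₐ[k] A p k c ⊗[k] A p k c :=
  lift p k c (x p k c ⊗ₜ[k] 1 + 1 ⊗ₜ[k] x p k c) (comul_rel p k c)

def counitAlg : A p k c →ₐ[k] k :=
  lift p k c 0 (by rw [zero_pow hp.out.ne_zero, smul_zero])

def antipodeAlg : A p k c →ₐ[k] A p k c :=
  lift p k c (-x p k c) (by rw [neg_pow_p p k, x_pow, smul_neg])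

@[simp] theorem comulAlg_x :
    comulAlg p k c (x p k c) = x p k c ⊗ₜ[k] 1 + 1 ⊗ₜ[k] x p k c := lift_x p k c _ _

@[simp] theorem counitAlg_x : counitAlg p k c (x p k c) = 0 := lift_x p k c _ _

@[simp] theorem antipodeAlg_x : antipodeAlg p k c (x p k c) = -x p k c := lift_x p k c _ _

theorem coassoc :
    (Algebra.TensorProduct.assoc k k k (A p k c) (A p k c) (A p k c)).toAlgHom.comp
        ((Algebra.TensorProduct.map (comulAlg p k c) (AlgHom.id k _)).comp (comulAlg p k c)) =
      (Algebra.TensorProduct.map (AlgHom.id k _) (comulAlg p k c)).comp (comulAlg p k c) := by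
  apply algHom_ext
  simp [TensorProduct.add_tmul, TensorProduct.tmul_add, Algebra.TensorProduct.one_def, add_assoc]

theorem counit_left :
    (Algebra.TensorProduct.map (counitAlg p k c) (AlgHom.id k _)).comp (comulAlg p k c) =
      (Algebra.TensorProduct.lid k (A p k c)).symm.toAlgHom := by
  apply algHom_ext
  simp

theorem counit_right :
    (Algebra.TensorProduct.map (AlgHom.id k _) (counitAlg p k c)).comp (comulAlg p k c) =
      (Algebra.TensorProduct.rid k k (A p k c)).symm.toAlgHom := by
  apply algHom_ext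
  simp

instance instBialgebra : Bialgebra k (A p k c) :=
  Bialgebra.ofAlgHom (comulAlg p k c) (counitAlg p k c) (coassoc p k c) (counit_left p k c)
    (counit_right p k c)

theorem comulAlgHom_eq : Bialgebra.comulAlgHom k (A p k c) = comulAlg p k c :=
  AlgHom.ext fun _ => rfl

theorem counitAlgHom_eq : Bialgebra.counitAlgHom k (A p k c) = counitAlg p k c :=
  AlgHom.ext fun _ => rfl

theorem comul_x : Coalgebra.comul (R := k) (x p k c) = x p k c ⊗ₜ[k] 1 + 1 ⊗ₜ[k] x p k c :=
  comulAlg_x p k c

theorem counit_x : Coalgebra.counit (R := k) (x p k c) = 0 := counitAlg_x p k c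

theorem antipode_left :
    (Algebra.TensorProduct.lift (antipodeAlg p k c) (AlgHom.id k (A p k c))
        fun _ _ => Commute.all _ _).comp (Bialgebra.comulAlgHom k (A p k c)) =
      (Algebra.ofId k (A p k c)).comp (Bialgebra.counitAlgHom k (A p k c)) := by
  apply algHom_ext
  rw [comulAlgHom_eq, counitAlgHom_eq, AlgHom.comp_apply, AlgHom.comp_apply, comulAlg_x,
    counitAlg_x, map_add, Algebra.TensorProduct.lift_tmul, Algebra.TensorProduct.lift_tmul,
    map_one, map_one, antipodeAlg_x, map_zero, AlgHom.id_apply, one_mul, mul_one, neg_add_cancel]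

theorem antipode_right :
    (Algebra.TensorProduct.lift (AlgHom.id k (A p k c)) (antipodeAlg p k c)
        fun _ _ => Commute.all _ _).comp (Bialgebra.comulAlgHom k (A p k c)) =
      (Algebra.ofId k (A p k c)).comp (Bialgebra.counitAlgHom k (A p k c)) := by
  apply algHom_ext
  rw [comulAlgHom_eq, counitAlgHom_eq, AlgHom.comp_apply, AlgHom.comp_apply, comulAlg_x,
    counitAlg_x, map_add, Algebra.TensorProduct.lift_tmul, Algebra.TensorProduct.lift_tmul,
    map_one, map_one, antipodeAlg_x, map_zero, AlgHom.id_apply, one_mul, mul_one, add_neg_cancel]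

instance instHopfAlgebra : HopfAlgebra k (A p k c) :=
  HopfAlgebra.ofAlgHom (antipodeAlg p k c) (antipode_left p k c) (antipode_right p k c)

/-- the bialgebra map out of `k[X]/(X^p - cX)` given by a primitive element -/
theorem exists_bialgHom {B : Type v} [Ring B] [Bialgebra k B] (z : B)
    (hcomul : Coalgebra.comul (R := k) z = z ⊗ₜ[k] (1 : B) + (1 : B) ⊗ₜ[k] z)
    (hcounit : Coalgebra.counit (R := k) z = 0) (hz : z ^ p = c • z) :
    ∃ f : A p k c →ₐc[k] B, f (x p k c) = z := by
  have hfx : lift p k c z hz (x p k c) = z := lift_x p k c z hz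
  have h1 : (Bialgebra.counitAlgHom k B).comp (lift p k c z hz) =
      Bialgebra.counitAlgHom k (A p k c) := by
    apply algHom_ext
    rw [AlgHom.comp_apply, hfx]
    show Coalgebra.counit (R := k) z = counitAlg p k c (x p k c)
    rw [hcounit, counitAlg_x]
  have h2 : (Algebra.TensorProduct.map (lift p k c z hz) (lift p k c z hz)).comp
      (Bialgebra.comulAlgHom k (A p k c)) =
      (Bialgebra.comulAlgHom k B).comp (lift p k c z hz) := by
    apply algHom_ext
    rw [AlgHom.comp_apply, AlgHom.comp_apply, hfx]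
    show Algebra.TensorProduct.map (lift p k c z hz) (lift p k c z hz)
      (comulAlg p k c (x p k c)) = Coalgebra.comul (R := k) z
    rw [comulAlg_x, hcomul, map_add, Algebra.TensorProduct.map_tmul,
      Algebra.TensorProduct.map_tmul, hfx, map_one]
  exact ⟨BialgHom.ofAlgHom (lift p k c z hz) h1 h2, hfx⟩

end Hopf

end PG

/-! ### transposes of injective maps are surjective -/

theorem transpose_surjective (k : Type u) [Field k] {B₁ : Type v} [Ring B₁] [Bialgebra k B₁]
    [Module.Finite k B₁] {B₂ : Type w} [Ring B₂] [Bialgebra k B₂] [Module.Finite k B₂]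
    (f : B₁ →ₐc[k] B₂) (hf : Function.Injective f) :
    Function.Surjective (CartDual.transpose k f) := by
  intro χ
  obtain ⟨g, hg⟩ := LinearMap.exists_leftInverse_of_injective f.toCoalgHom.toLinearMap
    (LinearMap.ker_eq_bot.2 hf)
  refine ⟨toConv (χ.ofConv ∘ₗ g), ?_⟩
  apply WithConv.ext
  apply LinearMap.ext
  intro a
  have h1 : g (f a) = a := LinearMap.congr_fun hg a
  show χ.ofConv (g (f a)) = χ.ofConv a
  rw [h1]

/-! ### a point derivation when the group is not reduced -/

theorem ideal_le_pow {R : Type v} [CommRing R] (I : Ideal R) (h : I ≤ I ^ 2) (j : ℕ) :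
    I ≤ I ^ (j + 1) := by
  induction j with
  | zero => rw [zero_add, pow_one]
  | succ j ih =>
    calc I ≤ I ^ 2 := h
      _ = I * I := pow_two I
      _ ≤ I * I ^ (j + 1) := Ideal.mul_mono_right ih
      _ = I ^ (j + 1 + 1) := (pow_succ' I (j + 1)).symm

theorem isReduced_of_le_sq (k : Type u) [Field k] [IsAlgClosed k] (A : Type v) [CommRing A]
    [HopfAlgebra k A] [Module.Finite k A]
    (h : RingHom.ker (Bialgebra.counitAlgHom k A) ≤
      RingHom.ker (Bialgebra.counitAlgHom k A) ^ 2) : IsReduced A := by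
  haveI : Nontrivial A := (Bialgebra.counitAlgHom k A : A →+* k).domain_nontrivial
  have hN : 0 < Module.finrank k A := Module.finrank_pos
  obtain ⟨N, hNeq⟩ := Nat.exists_eq_succ_of_ne_zero hN.ne'
  have hIN : RingHom.ker (Bialgebra.counitAlgHom k A) ^ Module.finrank k A =
      RingHom.ker (Bialgebra.counitAlgHom k A) := by
    rw [hNeq]
    exact le_antisymm (Ideal.pow_le_self (Nat.succ_ne_zero N)) (ideal_le_pow _ h N)
  have h1 := finrank_eq_card_mul (K := k) (A := A)
  have hsurj : Function.Surjective (Bialgebra.counitAlgHom k A) := fun c =>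
    ⟨algebraMap k A c, (Bialgebra.counitAlgHom k A).commutes c⟩
  have h2a : Module.finrank k
      (A ⧸ RingHom.ker (Bialgebra.counitAlgHom k A) ^ Module.finrank k A) = 1 :=
    ((Ideal.quotientEquivAlgOfEq k hIN).toLinearEquiv.finrank_eq).trans
      ((Ideal.quotientKerAlgEquivOfSurjective hsurj).toLinearEquiv.finrank_eq.trans
        (Module.finrank_self k))
  have h3 : Module.finrank k A = Nat.card (WithConv (A →ₐ[k] k)) := by
    have h2' : Nat.card (WithConv (A →ₐ[k] k)) * Module.finrank k
        (A ⧸ RingHom.ker (Bialgebra.counitAlgHom k A) ^ Module.finrank k A) =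
        Nat.card (WithConv (A →ₐ[k] k)) := by rw [h2a, mul_one]
    exact h1.trans h2'
  have hcard : Nat.card (A →ₐ[k] k) = Module.finrank k A := by
    rw [h3]
    exact Nat.card_congr (WithConv.equiv (A →ₐ[k] k)).symm
  have hspan := Groth.Agent.H84.OT.span_points_eq_top (K := k) (A := A) hcard
  refine ⟨fun a ha => ?_⟩
  obtain ⟨r, hr⟩ := ha
  have h0 : ∀ g : A →ₐ[k] k, g a = 0 := fun g =>
    IsReduced.eq_zero (g a) ⟨r, by rw [← map_pow, hr, map_zero]⟩
  apply (Module.forall_dual_apply_eq_zero_iff k a).1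
  intro f
  have hf : f ∈ Submodule.span k
      (Set.range (AlgHom.toLinearMap : (A →ₐ[k] k) → A →ₗ[k] k)) := by
    rw [hspan]; exact Submodule.mem_top
  induction hf using Submodule.span_induction with
  | mem f hf =>
    obtain ⟨g, rfl⟩ := hf
    exact h0 g
  | zero => rfl
  | add x y _ _ hx hy => rw [LinearMap.add_apply, hx, hy, add_zero]
  | smul c x _ hx => rw [LinearMap.smul_apply, hx, smul_zero]

theorem exists_point_derivation_of_not_isReduced (k : Type u) [Field k] [IsAlgClosed k]
    (A : Type v) [CommRing A] [HopfAlgebra k A] [Module.Finite k A] (hA : ¬ IsReduced A) :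
    ∃ (φ : A →ₗ[k] k) (x : A),
      (∀ u v : A, φ (u * v) = CoalgebraStruct.counit (R := k) u * φ v +
        CoalgebraStruct.counit (R := k) v * φ u) ∧
      CoalgebraStruct.counit (R := k) x = 0 ∧ φ x = 1 := by
  obtain ⟨n, x, D, hx, hD, hspan⟩ := exists_data' (k := k) (B := A)
  have hn : n ≠ 0 := by
    rintro rfl
    apply hA
    apply isReduced_of_le_sq k A
    intro v hv
    obtain ⟨c, hc⟩ := hspan v ((RingHom.mem_ker).1 hv)
    rw [Finset.univ_eq_empty, Finset.sum_empty, sub_zero] at hc
    exact hc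
  obtain ⟨m, rfl⟩ := Nat.exists_eq_succ_of_ne_zero hn
  refine ⟨(Bialgebra.counitAlgHom k A).toLinearMap ∘ₗ (D 0).toLinearMap, x 0, ?_, hx 0, ?_⟩
  · intro u v
    show Bialgebra.counitAlgHom k A (D 0 (u * v)) = _
    rw [Derivation.leibniz, map_add, smul_eq_mul, smul_eq_mul, map_mul, map_mul]
    rfl
  · show Bialgebra.counitAlgHom k A (D 0 (x 0)) = 1
    rw [hD 0 0, if_pos rfl]

/-! ### the main theorem -/

theorem main (k : Type u) [Field k] [IsAlgClosed k]
    (p : ℕ) [Fact p.Prime] [CharP k p] (A : Type v) [CommRing A] [HopfAlgebra k A]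
    [Module.Finite k A] (hA : ¬ IsReduced A) :
    (∃ f : A →ₐc[k] MonoidAlgebra k (Multiplicative (ZMod p)), Function.Surjective f) ∨
      (∃ f : A →ₐc[k] AlphaP.A p k, Function.Surjective f) := by
  have hp : p.Prime := Fact.out
  obtain ⟨φ, x₀, hφ, hx₀, hφx₀⟩ := exists_point_derivation_of_not_isReduced k A hA
  have hy : IsPrim k A (toConv φ) := Groth.Agent.S15829.result k A (toConv φ) hφ
  have hy0 : (toConv φ : CartDual.D k A) ≠ 0 := by
    intro h
    have h1 : φ x₀ = 0 := congrArg (fun w : CartDual.D k A => w.ofConv x₀) h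
    rw [hφx₀] at h1
    exact one_ne_zero h1
  obtain ⟨z, hz0, hzprim, hzp⟩ := exists_prim_fixed_or_killed p k A (toConv φ) hy hy0
  have hzd := isPrim_apply_mul k A hzprim
  obtain ⟨x', hx', hzx'⟩ := exists_dual_vector k A z hz0 hzd
  have hfact : ∀ m < p, (m.factorial : k) ≠ 0 := by
    intro m hm
    rw [Ne, CharP.cast_eq_zero_iff k p, hp.dvd_factorial]
    omega
  have hli : LinearIndependent k (fun j : Fin p => z ^ (j : ℕ)) :=
    Groth.Agent.H84.OT.linearIndependent_convPow p hfact z.ofConv hzd x' hx' hzx'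
  have hzc : Coalgebra.counit (R := k) z = 0 := by
    have h := hzd 1 1
    rw [mul_one, Bialgebra.counit_one, one_mul] at h
    show z.ofConv 1 = 0
    linear_combination -h
  rcases hzp with hzp | hzp
  · right
    have hz' : z ^ p = (0 : k) • z := by rw [hzp, zero_smul]
    obtain ⟨f, hf⟩ := PG.exists_bialgHom p k 0 z ((isPrim_iff k A z).1 hzprim) hzc hz'
    have hfinj : Function.Injective f :=
      PG.injective_of_li p k 0 f.toCoalgHom.toLinearMap z
        (fun j => by
          show f (PG.x p k 0 ^ (j : ℕ)) = z ^ (j : ℕ)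
          rw [map_pow, hf]) hli
    have hsurj := transpose_surjective k f hfinj
    obtain ⟨e₀⟩ := nonempty_bialgEquiv_alphaP p k (PG.A p k 0) (PG.finrank_eq p k 0)
      (PG.x p k 0) (PG.comul_x p k 0) (PG.counit_x p k 0)
      (by rw [PG.x_pow, zero_smul]) (PG.linearIndependent_pow p k 0)
    obtain ⟨e₂⟩ := nonempty_dualEquiv k e₀
    obtain ⟨e₃, _⟩ := Groth.Agent.S16071.result p k
    refine ⟨e₃.toBialgHom.comp (e₂.toBialgHom.comp
      ((CartDual.transpose k f).comp (CartDual.eval k A))), ?_⟩
    intro t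
    obtain ⟨t3, ht3⟩ := hsurj (e₂.symm (e₃.symm t))
    obtain ⟨t4, ht4⟩ := (eval_bijective k A).2 t3
    refine ⟨t4, ?_⟩
    show e₃ (e₂ (CartDual.transpose k f (CartDual.eval k A t4))) = t
    rw [ht4, ht3, BialgEquiv.apply_symm_apply, BialgEquiv.apply_symm_apply]
  · left
    have hz' : z ^ p = (1 : k) • z := by rw [hzp, one_smul]
    obtain ⟨f, hf⟩ := PG.exists_bialgHom p k 1 z ((isPrim_iff k A z).1 hzprim) hzc hz'
    have hfinj : Function.Injective f :=
      PG.injective_of_li p k 1 f.toCoalgHom.toLinearMap z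
        (fun j => by
          show f (PG.x p k 1 ^ (j : ℕ)) = z ^ (j : ℕ)
          rw [map_pow, hf]) hli
    have hsurj := transpose_surjective k f hfinj
    have hP := PG.finrank_eq p k (1 : k)
    have hcard : Nat.card (WithConv (PG.A p k (1 : k) →ₐ[k] k)) = p := by
      rcases Groth.Agent.H84.OT.card_points_or_nilpotent k (PG.A p k (1 : k)) p hp hP with
        h | ⟨_, hnil⟩
      · exact h
      · exfalso
        have hc' : Bialgebra.counitAlgHom k (PG.A p k (1 : k)) (PG.x p k 1) = 0 :=
          PG.counit_x p k 1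
        have h1 : PG.x p k (1 : k) ∈ RingHom.ker (Bialgebra.counitAlgHom k (PG.A p k (1 : k))) :=
          (RingHom.mem_ker).2 hc'
        have h2 := Ideal.pow_mem_pow h1 p
        rw [hnil, Ideal.mem_bot, PG.x_pow, one_smul] at h2
        exact PG.x_ne_zero p k 1 h2
    obtain ⟨e₀⟩ := etale_case k (PG.A p k (1 : k)) p hP hcard
    obtain ⟨e₂⟩ := nonempty_dualEquiv k e₀
    obtain ⟨e₃, _⟩ := Groth.Agent.S16069.result k (Multiplicative (ZMod p))
    refine ⟨e₃.toBialgHom.comp (e₂.symm.toBialgHom.comp
      ((CartDual.transpose k f).comp (CartDual.eval k A))), ?_⟩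
    intro t
    obtain ⟨t3, ht3⟩ := hsurj (e₂ (e₃.symm t))
    obtain ⟨t4, ht4⟩ := (eval_bijective k A).2 t3
    refine ⟨t4, ?_⟩
    show e₃ (e₂.symm (CartDual.transpose k f (CartDual.eval k A t4))) = t
    rw [ht4, ht3, BialgEquiv.symm_apply_apply, BialgEquiv.apply_symm_apply]

end

end Groth.Agent.H1.FinHopf.SubMuAlpha
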