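import Groth.Agent.H1.FinHopf.BaseChangeRing
import Groth.Agent.S15889
import Groth.Agent.S15891

set_option autoImplicit false
set_option linter.unusedSectionVars false
universe u v w

namespace Groth.Agent.H1.FinHopf

open WithConv TensorProduct

section PsiBC
variable {R : Type u} [CommRing R] (K : Type w) [CommRing K] [Algebra R K] {A : Type v} [CommRing A]
  [Bialgebra R A]

/-- the power maps commute with base change -/
theorem psi_baseChange_inc (n : ℕ) (a : A) :
    psi K (K ⊗[R] A) n ((1 : K) ⊗ₜ[R] a) = (1 : K) ⊗ₜ[R] psi R A n a := by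
  have h1 := rhoR_pow K (toConv (AlgHom.id K (K ⊗[R] A))) n
  have h2 := comp_convPow (Algebra.TensorProduct.includeRight : A →ₐ[R] K ⊗[R] A)
    (toConv (AlgHom.id R A)) n
  have e1 : rhoR K (toConv (AlgHom.id K (K ⊗[R] A))).ofConv =
      (Algebra.TensorProduct.includeRight : A →ₐ[R] K ⊗[R] A) := by
    ext x; rfl
  have e2 : (Algebra.TensorProduct.includeRight : A →ₐ[R] K ⊗[R] A).comp
      (toConv (AlgHom.id R A)).ofConv = Algebra.TensorProduct.includeRight := by
    ext x; rfl
  rw [e1] at h1
  rw [e2] at h2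
  have h3 := h1.trans h2.symm
  have h4 := congrArg (fun f : WithConv (A →ₐ[R] K ⊗[R] A) => f.ofConv a) h3
  exact h4

end PsiBC

/-- If the Verschiebung is bijective and the group is killed by `p ^ n`, the `n`-th iterate of
Frobenius kills the augmentation ideal. -/
theorem pow_prime_pow_eq_zero_of_versch
    (p : ℕ) [Fact p.Prime] (k : Type u) [Field k] [CharP k p]
    (A : Type u) [CommRing A] [HopfAlgebra k A] [Coalgebra.IsCocomm k A] [Module.Finite k A]
    (n : ℕ)
    (hn : SGA3b.powConv k A (p ^ n) = (Algebra.ofId k A).comp (Bialgebra.counitAlgHom k A))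
    (v : A →+* FrobAlg.BaseChange p k A) (hv : Versch.IsVerschiebung p k A v)
    (hbij : Function.Bijective v)
    (a : A) (ha : Coalgebra.counit (R := k) a = 0) : a ^ (p ^ n) = 0 := by
  classical
  haveI : Nontrivial A := (Bialgebra.counitAlgHom k A : A →+* k).domain_nontrivial
  haveI : CharP A p := charP_of_injective_algebraMap (algebraMap k A).injective p
  have I1 := Groth.Agent.S15889.result p k A v hv
  have I2 := Groth.Agent.S15891.result p k A v hv
  have hF : ∀ b : A, FrobAlg.relFrob p k A (b ⊗ₜ[k] (1 : FrobAlg.Twist p k)) = b ^ p := by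
    intro b
    show (FrobAlg.toTarget p k A).symm (FrobAlg.frobHom p k A b *
      FrobAlg.inclHom p k A (1 : FrobAlg.Twist p k)) = b ^ p
    rw [map_one, mul_one]
    rfl
  have hE1 : ∀ b : A, FrobAlg.relFrob p k A (v b) = SGA3b.powConv k A p b :=
    fun b => RingHom.congr_fun I1 b
  have hE2 : ∀ b : A, v (b ^ p) = (SGA3b.powConv k A p b) ⊗ₜ[k] (1 : FrobAlg.Twist p k) := by
    intro b
    have h1 := RingHom.congr_fun I2 ((1 : FrobAlg.Twist p k) ⊗ₜ[k] b)
    have h2 : (Algebra.TensorProduct.comm k A (FrobAlg.Twist p k))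
        (v (FrobAlg.relFrob p k A ((Algebra.TensorProduct.comm k A (FrobAlg.Twist p k)).symm
          ((1 : FrobAlg.Twist p k) ⊗ₜ[k] b)))) =
        SGA3b.powConv (FrobAlg.Twist p k) (FrobAlg.Twist p k ⊗[k] A) p
          ((1 : FrobAlg.Twist p k) ⊗ₜ[k] b) := h1
    rw [Algebra.TensorProduct.comm_symm_tmul, hF] at h2
    have h3 : SGA3b.powConv (FrobAlg.Twist p k) (FrobAlg.Twist p k ⊗[k] A) p
        ((1 : FrobAlg.Twist p k) ⊗ₜ[k] b) =
        (1 : FrobAlg.Twist p k) ⊗ₜ[k] SGA3b.powConv k A p b :=
      psi_baseChange_inc (FrobAlg.Twist p k) p b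
    rw [h3] at h2
    have h4 := congrArg (Algebra.TensorProduct.comm k A (FrobAlg.Twist p k)).symm h2
    rw [AlgEquiv.symm_apply_apply, Algebra.TensorProduct.comm_symm_tmul] at h4
    exact h4
  choose β hβ using fun b : A => hbij.2 (b ⊗ₜ[k] (1 : FrobAlg.Twist p k))
  have hβ0 : β 0 = 0 := hbij.1 (by rw [hβ, TensorProduct.zero_tmul, map_zero])
  have hPβ : ∀ b, SGA3b.powConv k A p (β b) = b ^ p := by
    intro b
    rw [← hE1, hβ, hF]
  have hβP : ∀ b, β (SGA3b.powConv k A p b) = b ^ p := by
    intro b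
    apply hbij.1
    rw [hβ, hE2]
  have hcomm : ∀ (m : ℕ) (b : A), (⇑(SGA3b.powConv k A p))^[m] (β b) =
      β ((⇑(SGA3b.powConv k A p))^[m] b) := by
    intro m
    induction m with
    | zero => intro b; rfl
    | succ m ih =>
      intro b
      rw [Function.iterate_succ_apply, Function.iterate_succ_apply, hPβ, ← hβP, ih]
  have hmain : ∀ (m : ℕ) (b : A), b ^ (p ^ m) =
      β^[m] ((⇑(SGA3b.powConv k A p))^[m] b) := by
    intro m
    induction m with
    | zero => intro b; simp
    | succ m ih =>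
      intro b
      have e1 : b ^ (p ^ (m + 1)) = (b ^ p) ^ (p ^ m) := by rw [pow_succ', pow_mul]
      rw [e1, ih (b ^ p), Function.iterate_succ_apply, Function.iterate_succ_apply, ← hcomm, hβP]
  have hiter : ∀ (m : ℕ) (b : A), (⇑(SGA3b.powConv k A p))^[m] b =
      SGA3b.powConv k A (p ^ m) b := by
    intro m
    induction m with
    | zero =>
      intro b
      show b = SGA3b.powConv k A (p ^ 0) b
      rw [pow_zero]
      exact (AlgHom.congr_fun (psi_one (R := k) (A := A)) b).symm
    | succ m ih =>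
      intro b
      rw [Function.iterate_succ_apply, ih, pow_succ]
      exact (AlgHom.congr_fun (psi_mul (R := k) (A := A) (p ^ m) p) b).symm
  rw [hmain n a, hiter n a, hn]
  have h0 : ((Algebra.ofId k A).comp (Bialgebra.counitAlgHom k A)) a = 0 := by
    simp [ha]
  rw [h0]
  exact Function.iterate_fixed hβ0 n

end Groth.Agent.H1.FinHopf
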